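import Mathlib.GroupTheory.SpecificGroups.Alternating.Simple
import Mathlib.GroupTheory.Perm.Fin

/-!
# Some elements of the alternating groups of degree five and six
-/

set_option autoImplicit false
set_option linter.style.haveILetI false

namespace CfsgLib.SmallSpectrum

open Equiv

/-- Elements generating the dihedral subgroups of order 6 and 10 of a group. -/
def HasDihedrals (M : Type*) [Group M] : Prop :=
  (∃ r s : M, orderOf r = 3 ∧ orderOf s = 2 ∧ s * r * s⁻¹ = r⁻¹) ∧
  ∃ r s : M, orderOf r = 5 ∧ orderOf s = 2 ∧ s * r * s⁻¹ = r⁻¹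

/-- The elements of the alternating group of degree six that are used. -/
def HasSixData (M : Type*) [Group M] : Prop :=
  (∃ x y : M, orderOf x = 3 ∧ y ^ 3 = 1 ∧ x * y = y * x ∧ y ≠ 1 ∧ y ≠ x ∧ y ≠ x * x) ∧
  ∃ c a r : M, orderOf c = 4 ∧ orderOf a = 2 ∧ orderOf r = 3 ∧ a * c * a⁻¹ = c⁻¹ ∧
    r * a * r⁻¹ = c ^ 2 ∧ r * c ^ 2 * r⁻¹ = a * c ^ 2

theorem orderOf_eq_four {M : Type*} [Monoid M] {x : M} (h : x ^ 4 = 1) (h2 : x ^ 2 ≠ 1) :
    orderOf x = 4 := by
  haveI := Fact.mk Nat.prime_two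
  simpa using orderOf_eq_prime_pow (p := 2) (n := 1) (x := x) (by simpa using h2) (by simpa using h)

theorem HasDihedrals.map {M N : Type*} [Group M] [Group N] (e : M ≃* N) (h : HasDihedrals M) :
    HasDihedrals N := by
  obtain ⟨⟨r, s, hr, hs, he⟩, ⟨r', s', hr', hs', he'⟩⟩ := h
  refine ⟨⟨e r, e s, ?_, ?_, ?_⟩, ⟨e r', e s', ?_, ?_, ?_⟩⟩
  · rw [e.orderOf_eq, hr]
  · rw [e.orderOf_eq, hs]
  · rw [← map_inv, ← map_inv, ← map_mul, ← map_mul, he]
  · rw [e.orderOf_eq, hr']
  · rw [e.orderOf_eq, hs']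
  · rw [← map_inv, ← map_inv, ← map_mul, ← map_mul, he']

theorem HasSixData.map {M N : Type*} [Group M] [Group N] (e : M ≃* N) (h : HasSixData M) :
    HasSixData N := by
  obtain ⟨⟨x, y, hx, hy, hxy, hy1, hy2, hy3⟩, ⟨c, a, r, hc, ha, hr, e1, e2, e3⟩⟩ := h
  refine ⟨⟨e x, e y, ?_, ?_, ?_, ?_, ?_, ?_⟩, ⟨e c, e a, e r, ?_, ?_, ?_, ?_, ?_, ?_⟩⟩
  · rw [e.orderOf_eq, hx]
  · rw [← map_pow, hy, map_one]
  · rw [← map_mul, ← map_mul, hxy]
  · exact e.map_ne_one_iff.2 hy1
  · exact e.injective.ne hy2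
  · rw [← map_mul]; exact e.injective.ne hy3
  · rw [e.orderOf_eq, hc]
  · rw [e.orderOf_eq, ha]
  · rw [e.orderOf_eq, hr]
  · rw [← map_inv, ← map_inv, ← map_mul, ← map_mul, e1]
  · rw [← map_inv, ← map_pow, ← map_mul, ← map_mul, e2]
  · rw [← map_inv, ← map_pow, ← map_mul, ← map_mul, ← map_mul, e3]

private def r3 : alternatingGroup (Fin 5) := ⟨swap 0 1 * swap 1 2, Equiv.Perm.mem_alternatingGroup.2 (by decide)⟩
private def s3 : alternatingGroup (Fin 5) := ⟨swap 0 1 * swap 3 4, Equiv.Perm.mem_alternatingGroup.2 (by decide)⟩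
private def r5 : alternatingGroup (Fin 5) :=
  ⟨swap 0 1 * swap 1 2 * swap 2 3 * swap 3 4, Equiv.Perm.mem_alternatingGroup.2 (by decide)⟩
private def s5 : alternatingGroup (Fin 5) := ⟨swap 1 4 * swap 2 3, Equiv.Perm.mem_alternatingGroup.2 (by decide)⟩

theorem hasDihedrals_five : HasDihedrals (alternatingGroup (Fin 5)) := by
  haveI := Fact.mk Nat.prime_two
  haveI := Fact.mk Nat.prime_three
  haveI := Fact.mk Nat.prime_five
  exact ⟨⟨r3, s3, orderOf_eq_prime (by decide) (by decide), orderOf_eq_prime (by decide) (by decide),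
    by decide⟩, ⟨r5, s5, orderOf_eq_prime (by decide) (by decide),
    orderOf_eq_prime (by decide) (by decide), by decide⟩⟩

private def r3' : alternatingGroup (Fin 6) := ⟨swap 0 1 * swap 1 2, Equiv.Perm.mem_alternatingGroup.2 (by decide)⟩
private def t3' : alternatingGroup (Fin 6) := ⟨swap 3 4 * swap 4 5, Equiv.Perm.mem_alternatingGroup.2 (by decide)⟩
private def s3' : alternatingGroup (Fin 6) := ⟨swap 0 1 * swap 3 4, Equiv.Perm.mem_alternatingGroup.2 (by decide)⟩
private def r5' : alternatingGroup (Fin 6) :=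
  ⟨swap 0 1 * swap 1 2 * swap 2 3 * swap 3 4, Equiv.Perm.mem_alternatingGroup.2 (by decide)⟩
private def s5' : alternatingGroup (Fin 6) := ⟨swap 1 4 * swap 2 3, Equiv.Perm.mem_alternatingGroup.2 (by decide)⟩
private def c4' : alternatingGroup (Fin 6) :=
  ⟨swap 0 1 * swap 1 2 * swap 2 3 * swap 4 5, Equiv.Perm.mem_alternatingGroup.2 (by decide)⟩
private def a2' : alternatingGroup (Fin 6) := ⟨swap 0 1 * swap 2 3, Equiv.Perm.mem_alternatingGroup.2 (by decide)⟩
private def u3' : alternatingGroup (Fin 6) := ⟨swap 1 2 * swap 2 3, Equiv.Perm.mem_alternatingGroup.2 (by decide)⟩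

theorem hasDihedrals_six : HasDihedrals (alternatingGroup (Fin 6)) := by
  haveI := Fact.mk Nat.prime_two
  haveI := Fact.mk Nat.prime_three
  haveI := Fact.mk Nat.prime_five
  exact ⟨⟨r3', s3', orderOf_eq_prime (by decide) (by decide),
    orderOf_eq_prime (by decide) (by decide),
    by decide⟩, ⟨r5', s5', orderOf_eq_prime (by decide) (by decide),
    orderOf_eq_prime (by decide) (by decide), by decide⟩⟩

theorem hasSixData_six : HasSixData (alternatingGroup (Fin 6)) := by
  haveI := Fact.mk Nat.prime_two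
  haveI := Fact.mk Nat.prime_three
  exact ⟨⟨r3', t3', orderOf_eq_prime (by decide) (by decide), by decide, by decide, by decide,
    by decide, by decide⟩, ⟨c4', a2', u3', orderOf_eq_four (by decide) (by decide),
    orderOf_eq_prime (by decide) (by decide), orderOf_eq_prime (by decide) (by decide),
    by decide, by decide, by decide⟩⟩

theorem card_alternatingGroup_five : Nat.card (alternatingGroup (Fin 5)) = 60 := by
  rw [nat_card_alternatingGroup, Nat.card_fin]
  rfl

theorem card_alternatingGroup_six : Nat.card (alternatingGroup (Fin 6)) = 360 := by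
  rw [nat_card_alternatingGroup, Nat.card_fin]
  rfl

theorem isSimpleGroup_five : IsSimpleGroup (alternatingGroup (Fin 5)) :=
  alternatingGroup.isSimpleGroup (by simp)

theorem isSimpleGroup_six : IsSimpleGroup (alternatingGroup (Fin 6)) :=
  alternatingGroup.isSimpleGroup (by simp)

end CfsgLib.SmallSpectrum
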