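import Mathlib.Tactic

/-!
# The order equations of the simple case
-/

set_option autoImplicit false

namespace CfsgLib.SmallSpectrum

theorem pow_facts {b : ℕ} (hb : 1 ≤ b) (p : ℕ) (hp : 1 < p) :
    p ∣ p ^ b ∧ p ≤ p ^ b ∧ (p ^ b = p ∨ p * p ∣ p ^ b ∧ p * p ≤ p ^ b) := by
  refine ⟨dvd_pow_self p (by omega), Nat.le_self_pow (by omega) p, ?_⟩
  rcases eq_or_lt_of_le hb with rfl | hb'
  · exact Or.inl (pow_one p)
  · refine Or.inr ⟨?_, ?_⟩
    · rw [← sq]; exact pow_dvd_pow p hb'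
    · rw [← sq]; exact Nat.pow_le_pow_right (by omega) hb'

theorem pow_five_cases {c : ℕ} (hc : 1 ≤ c) : 5 ^ c = 5 ∨ 5 ^ c = 25 ∨ 125 ≤ 5 ^ c := by
  rcases c with _ | _ | _ | c
  · omega
  · exact Or.inl rfl
  · exact Or.inr (Or.inl rfl)
  · exact Or.inr (Or.inr (le_of_eq_of_le (by norm_num) (Nat.pow_le_pow_right (by norm_num)
      (show 3 ≤ c + 1 + 1 + 1 by omega))))

theorem pow_three_cases {b : ℕ} (hb : 1 ≤ b) : 3 ^ b = 3 ∨ 3 ^ b = 9 ∨ 27 ≤ 3 ^ b := by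
  rcases b with _ | _ | _ | b
  · omega
  · exact Or.inl rfl
  · exact Or.inr (Or.inl rfl)
  · exact Or.inr (Or.inr (le_of_eq_of_le (by norm_num) (Nat.pow_le_pow_right (by norm_num)
      (show 3 ≤ b + 1 + 1 + 1 by omega))))

/-- The trivial intersection case. -/
theorem ti_arith {a b c k3 k5 e3 e5 c2 n3 n5 : ℕ} (ha : 2 ≤ a) (hb : 1 ≤ b) (hc : 1 ≤ c)
    (hk3 : (k3 = 1 ∨ k3 = 5) ∧ e3 = 0 ∨ (k3 = 2 ∨ k3 = 4 ∨ k3 = 8) ∧ e3 = 1)
    (hk5 : (k5 = 1 ∨ k5 = 3) ∧ e5 = 0 ∨ (k5 = 2 ∨ k5 = 4 ∨ k5 = 8) ∧ e5 = 1)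
    (hE : 2 ^ a * 3 ^ b * 5 ^ c = 1 + c2 + n3 + n5)
    (hA : c2 * (3 * 2 ^ a) = 2 ^ a * 3 ^ b * 5 ^ c * (2 ^ a - 1))
    (hB : n3 * (k3 * 3 ^ b) = 2 ^ a * 3 ^ b * 5 ^ c * (3 ^ b - 1))
    (hC : n5 * (k5 * 5 ^ c) = 2 ^ a * 3 ^ b * 5 ^ c * (5 ^ c - 1))
    (hI : (3 ^ b * 5 ^ c) * (3 ^ b * 5 ^ c) =
      3 * (3 ^ b * 5 ^ c) + n3 * (e3 * 3 ^ b) + n5 * (e5 * 5 ^ c)) :
    2 ^ a * 3 ^ b * 5 ^ c = 60 := by
  have h7 : ¬ 7 ∣ 2 ^ a := fun h => by
    have := (Nat.prime_dvd_prime_iff_eq (by norm_num) Nat.prime_two).1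
      ((show Nat.Prime 7 by norm_num).dvd_of_dvd_pow h)
    omega
  have hS4 : 4 ≤ 2 ^ a := le_of_eq_of_le (by norm_num) (Nat.pow_le_pow_right (by norm_num) ha)
  obtain ⟨hQd, hQ3, -⟩ := pow_facts hb 3 (by norm_num)
  obtain ⟨hPd, hP5, -⟩ := pow_facts hc 5 (by norm_num)
  have hQc := pow_three_cases hb
  have hPc := pow_five_cases hc
  have hS1 : 1 ≤ 2 ^ a := by omega
  generalize hSdef : 2 ^ a = S at *
  generalize hQdef : 3 ^ b = Q at *
  generalize hPdef : 5 ^ c = P at *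
  have hQ1 : 1 ≤ Q := by omega
  have hP1 : 1 ≤ P := by omega
  have hA' : (c2 : ℤ) * 3 = Q * P * (S - 1) := by
    have h := congrArg (Nat.cast : ℕ → ℤ) hA
    push_cast [Nat.cast_sub hS1] at h
    exact mul_right_cancel₀ (show (S : ℤ) ≠ 0 by omega) (by linear_combination h)
  have hB' : (n3 : ℤ) * k3 = S * P * (Q - 1) := by
    have h := congrArg (Nat.cast : ℕ → ℤ) hB
    push_cast [Nat.cast_sub hQ1] at h
    exact mul_right_cancel₀ (show (Q : ℤ) ≠ 0 by omega) (by linear_combination h)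
  have hC' : (n5 : ℤ) * k5 = S * Q * (P - 1) := by
    have h := congrArg (Nat.cast : ℕ → ℤ) hC
    push_cast [Nat.cast_sub hP1] at h
    exact mul_right_cancel₀ (show (P : ℤ) ≠ 0 by omega) (by linear_combination h)
  have hE' : (3 * k3 * k5 * (S * Q * P) : ℤ) = 3 * k3 * k5 + k3 * k5 * (Q * P * (S - 1)) +
      3 * k5 * (S * P * (Q - 1)) + 3 * k3 * (S * Q * (P - 1)) := by
    have h := congrArg (Nat.cast : ℕ → ℤ) hE
    push_cast at h
    linear_combination (3 * k3 * k5 : ℤ) * h + (k3 * k5 : ℤ) * hA' + (3 * k5 : ℤ) * hB' +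
      (3 * k3 : ℤ) * hC'
  have hI' : (k3 * k5 * (Q * P) : ℤ) = 3 * k3 * k5 + S * (e3 * k5 * (Q - 1) + e5 * k3 * (P - 1)) := by
    have h := congrArg (Nat.cast : ℕ → ℤ) hI
    push_cast at h
    exact mul_right_cancel₀ (show (Q * P : ℤ) ≠ 0 by positivity) (by
      linear_combination (k3 * k5 : ℤ) * h + (e3 * k5 * Q : ℤ) * hB' + (e5 * k3 * P : ℤ) * hC')
  have f1 : (4 * (Q * P) : ℤ) ≤ S * Q * P := by nlinarith
  have f2 : (3 * (S * P) : ℤ) ≤ S * Q * P := by nlinarith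
  have f3 : (5 * (S * Q) : ℤ) ≤ S * Q * P := by nlinarith
  have f4 : (15 : ℤ) ≤ Q * P := by nlinarith
  have f5 : (0 : ℤ) ≤ S * P := by positivity
  have f6 : (0 : ℤ) ≤ S * Q := by positivity
  rcases hk3 with ⟨rfl | rfl, rfl⟩ | ⟨rfl | rfl | rfl, rfl⟩ <;>
    rcases hk5 with ⟨rfl | rfl, rfl⟩ | ⟨rfl | rfl | rfl, rfl⟩ <;>
      push_cast at hE' hI' <;> try (exfalso; linarith)
  all_goals (have hS0 : (S : ℤ) ≠ 0 := by omega)
  · -- (5, 2)
    exfalso
    have h : ((Q : ℤ) - 11) * (P - 15) = 160 :=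
      mul_left_cancel₀ hS0 (by linear_combination hI' - hE')
    rcases hPc with rfl | rfl | hP
    · push_cast at h; omega
    · push_cast at h hI'
      obtain rfl : Q = 27 := by omega
      push_cast at hI'
      omega
    · rcases hQc with rfl | rfl | hQ
      · push_cast at h; omega
      · push_cast at h; omega
      · nlinarith
  · -- (2, 3)
    exfalso
    have h : ((Q : ℤ) - 3) * (P - 3) = 8 :=
      mul_left_cancel₀ (mul_ne_zero (show (3 : ℤ) ≠ 0 by norm_num) hS0)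
        (by linear_combination hI' - hE')
    rcases hQc with rfl | rfl | hQ
    · push_cast at h; omega
    · push_cast at h; omega
    · nlinarith
  · -- (2, 2)
    have h : ((Q : ℤ) - 2) * (P - 2) = 3 :=
      mul_left_cancel₀ (mul_ne_zero (show (4 : ℤ) ≠ 0 by norm_num) hS0)
        (by linear_combination hI' - hE')
    have hQ' : Q = 3 := by nlinarith
    subst hQ'
    push_cast at h hI'
    have hP' : P = 5 := by omega
    subst hP'
    push_cast at hI'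
    omega
  · -- (2, 4)
    exfalso
    have h : ((Q : ℤ) - 7) * (P - 5) = 32 :=
      mul_left_cancel₀ (mul_ne_zero (show (2 : ℤ) ≠ 0 by norm_num) hS0)
        (by linear_combination hI' - hE')
    rcases hPc with rfl | rfl | hP
    · push_cast at h; omega
    · push_cast at h; omega
    · rcases hQc with rfl | rfl | hQ
      · push_cast at h; omega
      · push_cast at h; omega
      · nlinarith
  · -- (4, 2)
    exfalso
    have h : ((Q : ℤ) - 5) * (P - 7) = 32 :=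
      mul_left_cancel₀ (mul_ne_zero (show (2 : ℤ) ≠ 0 by norm_num) hS0)
        (by linear_combination hI' - hE')
    rcases hQc with rfl | rfl | hQ
    · push_cast at h; omega
    · push_cast at h; omega
    · rcases hPc with rfl | rfl | hP
      · push_cast at h; omega
      · push_cast at h; omega
      · nlinarith

/-- The case of a non-trivial intersection. -/
theorem nonti_arith {b c k k3 k5 c2 n3 n5 G : ℕ} (hk : k = 2 ∨ k = 4) (hb : 1 ≤ b) (hc : 1 ≤ c)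
    (hG : G = k ^ 3 * 3 ^ b * 5 ^ c)
    (hk3 : k3 = 2 ∨ k3 = 4 ∨ k3 = 8) (hk5 : k5 = 1 ∨ k5 = 3 ∨ k5 = 2 ∨ k5 = 4 ∨ k5 = 8)
    (hE : G = 1 + c2 + n3 + n5) (hA : c2 * k ^ 3 = G * (1 + (k - 1) * k))
    (hB : n3 * (k3 * 3 ^ b) = G * (3 ^ b - 1))
    (hC : n5 * (k5 * 5 ^ c) = G * (5 ^ c - 1)) : G = 360 := by
  obtain ⟨hQd, hQ3, -⟩ := pow_facts hb 3 (by norm_num)
  obtain ⟨hPd, hP5, -⟩ := pow_facts hc 5 (by norm_num)
  have hQc := pow_three_cases hb
  have hPc := pow_five_cases hc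
  generalize hQdef : 3 ^ b = Q at *
  generalize hPdef : 5 ^ c = P at *
  have hQ1 : 1 ≤ Q := by omega
  have hP1 : 1 ≤ P := by omega
  subst hG
  have hk1 : 1 ≤ k := by omega
  have hA' : (c2 : ℤ) = Q * P * (1 + (k - 1) * k) := by
    have h := congrArg (Nat.cast : ℕ → ℤ) hA
    push_cast [Nat.cast_sub hk1] at h
    exact mul_right_cancel₀ (show (k : ℤ) ^ 3 ≠ 0 by positivity) (by linear_combination h)
  have hB' : (n3 : ℤ) * k3 = k ^ 3 * P * (Q - 1) := by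
    have h := congrArg (Nat.cast : ℕ → ℤ) hB
    push_cast [Nat.cast_sub hQ1] at h
    exact mul_right_cancel₀ (show (Q : ℤ) ≠ 0 by omega) (by linear_combination h)
  have hC' : (n5 : ℤ) * k5 = k ^ 3 * Q * (P - 1) := by
    have h := congrArg (Nat.cast : ℕ → ℤ) hC
    push_cast [Nat.cast_sub hP1] at h
    exact mul_right_cancel₀ (show (P : ℤ) ≠ 0 by omega) (by linear_combination h)
  have hE' : (k3 * k5 * (k ^ 3 * Q * P) : ℤ) = k3 * k5 + k3 * k5 * (Q * P * (1 + (k - 1) * k)) +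
      k5 * (k ^ 3 * P * (Q - 1)) + k3 * (k ^ 3 * Q * (P - 1)) := by
    have h := congrArg (Nat.cast : ℕ → ℤ) hE
    push_cast at h
    linear_combination (k3 * k5 : ℤ) * h + (k3 * k5 : ℤ) * hA' + (k5 : ℤ) * hB' + (k3 : ℤ) * hC'
  have f1 : (15 : ℤ) ≤ Q * P := by nlinarith
  have f2 : (3 : ℤ) * P ≤ Q * P := by nlinarith
  have f3 : (5 : ℤ) * Q ≤ Q * P := by nlinarith
  rcases hk with rfl | rfl <;> rcases hk3 with rfl | rfl | rfl <;>
    rcases hk5 with rfl | rfl | rfl | rfl | rfl <;>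
      push_cast at hE' <;> norm_num at hE' <;> try (exfalso; linarith)
  all_goals
    rcases hQc with rfl | rfl | hQ <;> rcases hPc with rfl | rfl | hP <;>
      first
        | (norm_num; done)
        | (exfalso; nlinarith)
        | (exfalso; push_cast at hE'; omega)

end CfsgLib.SmallSpectrum
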