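import Cfsg.Agent.Lib.Cores.FPF
import Cfsg.Agent.Lib.CharTheory.Burnside
import Mathlib.GroupTheory.Perm.Cycle.Type

/-!
# Finite groups with all element orders at most five
-/

set_option autoImplicit false
set_option linter.unusedSectionVars false
set_option linter.style.haveILetI false

namespace CfsgLib.SmallSpectrum

/-- All element orders are at most five. -/
def Spec (G : Type*) [Group G] : Prop := ∀ g : G, orderOf g ≤ 5

variable {G : Type*} [Group G]

theorem Spec.subgroup (h : Spec G) (H : Subgroup G) : Spec H := fun g => by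
  rw [← Subgroup.orderOf_coe]; exact h g

theorem Spec.of_injective {H : Type*} [Group H] (h : Spec G) (f : H →* G)
    (hf : Function.Injective f) : Spec H := fun g => by
  rw [← orderOf_injective f hf g]; exact h (f g)

variable [Finite G]

theorem Spec.of_surjective {H : Type*} [Group H] (h : Spec G) (f : G →* H)
    (hf : Function.Surjective f) : Spec H := fun y => by
  obtain ⟨g, rfl⟩ := hf y
  exact (Nat.le_of_dvd (orderOf_pos g) (orderOf_map_dvd f g)).trans (h g)

theorem Spec.quotient (h : Spec G) (N : Subgroup G) [N.Normal] : Spec (G ⧸ N) :=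
  h.of_surjective (QuotientGroup.mk' N) (QuotientGroup.mk'_surjective N)

theorem Spec.orderOf_eq (h : Spec G) (g : G) :
    orderOf g = 1 ∨ orderOf g = 2 ∨ orderOf g = 3 ∨ orderOf g = 4 ∨ orderOf g = 5 := by
  have := h g
  have := orderOf_pos g
  omega

theorem Spec.prime_le (h : Spec G) {p : ℕ} (hp : p.Prime) (hd : p ∣ Nat.card G) :
    p = 2 ∨ p = 3 ∨ p = 5 := by
  haveI := Fact.mk hp
  obtain ⟨x, hx⟩ := exists_prime_orderOf_dvd_card' (G := G) p hd
  have := h x
  rw [hx] at this
  have := hp.two_le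
  interval_cases p <;> first | (norm_num at hp; done) | norm_num

/-- Commuting elements of coprime orders: one is trivial. -/
theorem Spec.eq_one_of_commute (h : Spec G) {g k : G} (hc : Commute g k)
    (hcop : (orderOf g).Coprime (orderOf k)) : g = 1 ∨ k = 1 := by
  by_contra hne
  push Not at hne
  have hg : 1 < orderOf g := by
    have := orderOf_pos g
    have : orderOf g ≠ 1 := fun e => hne.1 (orderOf_eq_one_iff.1 e)
    omega
  have hk : 1 < orderOf k := by
    have := orderOf_pos k
    have : orderOf k ≠ 1 := fun e => hne.2 (orderOf_eq_one_iff.1 e)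
    omega
  have h1 := h (g * k)
  rw [hc.orderOf_mul_eq_mul_orderOf_of_coprime hcop] at h1
  have : orderOf g ≠ orderOf k := fun e => by
    rw [e, Nat.coprime_self] at hcop
    omega
  have h2 : 6 ≤ orderOf g * orderOf k := by
    rcases Nat.lt_or_gt_of_ne this with hl | hl
    · calc 6 = 2 * 3 := rfl
        _ ≤ orderOf g * orderOf k := Nat.mul_le_mul (by omega) (by omega)
    · calc 6 = 3 * 2 := rfl
        _ ≤ orderOf g * orderOf k := Nat.mul_le_mul (by omega) (by omega)
  omega

/-- An element of a `p`-group centralised by a non-trivial `p'`-element is trivial. -/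
theorem Spec.eq_one_of_pGroup (h : Spec G) {p : ℕ} [hp : Fact p.Prime] {V : Subgroup G}
    (hV : IsPGroup p V) {v a : G} (hv : v ∈ V) (hc : Commute a v) (ha : ¬ p ∣ orderOf a) (ha1 : a ≠ 1) :
    v = 1 := by
  refine (h.eq_one_of_commute hc ?_).resolve_left ha1
  obtain ⟨k, hk⟩ := hV ⟨v, hv⟩
  have : orderOf v ∣ p ^ k := orderOf_dvd_of_pow_eq_one (congrArg Subtype.val hk)
  exact (((hp.out.coprime_iff_not_dvd).2 ha).symm.pow_right k).coprime_dvd_right this

/-- A `p'`-element acts on a `p`-subgroup without fixed points. -/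
theorem Spec.fpf (h : Spec G) {p : ℕ} [Fact p.Prime] {V : Subgroup G} (hV : IsPGroup p V) {a : G}
    (ha : ¬ p ∣ orderOf a) (ha1 : a ≠ 1) : V ⊓ Subgroup.centralizer ({a} : Set G) = ⊥ := by
  rw [Subgroup.eq_bot_iff_forall]
  rintro v ⟨hv, hc⟩
  exact h.eq_one_of_pGroup hV hv (Subgroup.mem_centralizer_singleton_iff.1 hc).symm ha ha1

/-- The centraliser of an element of prime order is a `p`-group. -/
theorem Spec.isPGroup_centralizer (h : Spec G) {p : ℕ} [hp : Fact p.Prime] {x : G}
    (hx : orderOf x = p) : IsPGroup p (Subgroup.centralizer ({x} : Set G)) := by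
  rw [IsPGroup.iff_orderOf]
  rintro ⟨y, hy⟩
  rw [Subgroup.orderOf_mk]
  by_cases hy1 : y = 1
  · exact ⟨0, by rw [hy1, orderOf_one, pow_zero]⟩
  have hd : p ∣ orderOf y := by
    by_contra hd
    rcases h.eq_one_of_commute (Subgroup.mem_centralizer_singleton_iff.1 hy : Commute y x)
      (hx ▸ ((hp.out.coprime_iff_not_dvd).2 hd).symm) with e | e
    · exact hy1 e
    · rw [e, orderOf_one] at hx
      exact hp.out.ne_one hx.symm
  have h2 := hp.out.two_le
  rcases h.orderOf_eq y with e | e | e | e | e <;> rw [e] at hd ⊢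
  · exact ⟨0, rfl⟩
  · exact ⟨1, by rw [pow_one, (Nat.prime_dvd_prime_iff_eq hp.out Nat.prime_two).1 hd]⟩
  · exact ⟨1, by rw [pow_one, (Nat.prime_dvd_prime_iff_eq hp.out Nat.prime_three).1 hd]⟩
  · exact ⟨2, by rw [(Nat.prime_dvd_prime_iff_eq hp.out Nat.prime_two).1
      (hp.out.dvd_of_dvd_pow (n := 2) (show p ∣ 2 ^ 2 from hd))]; rfl⟩
  · exact ⟨1, by rw [pow_one, (Nat.prime_dvd_prime_iff_eq hp.out Nat.prime_five).1 hd]⟩

/-- Commuting elements of prime order `q` acting on a non-trivial `p`-subgroup generate a group of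
order `q`. -/
theorem Spec.mem_zpowers_of_commute (h : Spec G) {p q : ℕ} [Fact p.Prime] (hq : q.Prime) (hpq : p ≠ q)
    {V : Subgroup G} (hV : IsPGroup p V) (hV1 : V ≠ ⊥) {a b : G} (ha : orderOf a = q) (hb : b ^ q = 1)
    (hab : Commute a b) (han : a ∈ Subgroup.normalizer (V : Set G))
    (hbn : b ∈ Subgroup.normalizer (V : Set G)) : b ∈ Subgroup.zpowers a := by
  classical
  haveI := Fact.mk hq
  let A : Subgroup G := Subgroup.closure {a, b}
  haveI hA : IsMulCommutative A := Subgroup.isMulCommutative_closure (by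
    rintro x (rfl | rfl) y (rfl | rfl)
    · rfl
    · exact hab
    · exact hab.symm
    · rfl)
  have hle : A ≤ Subgroup.normalizer (V : Set G) := (Subgroup.closure_le _).2 (by
    rintro x (rfl | rfl) <;> assumption)
  have haq : a ^ q = 1 := by rw [← ha, pow_orderOf_eq_one]
  have hexp : ∀ x ∈ A, x ^ q = 1 := by
    intro x hx
    induction hx using Subgroup.closure_induction with
    | mem x hx => rcases hx with rfl | rfl <;> assumption
    | one => exact one_pow q
    | mul x y hx hy ihx ihy =>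
      have hc : Commute x y := congrArg Subtype.val (hA.is_comm.comm (⟨x, hx⟩ : A) ⟨y, hy⟩)
      rw [hc.mul_pow, ihx, ihy, one_mul]
    | inv x _ ih => rw [inv_pow, ih, inv_one]
  have hfpf : ∀ x ∈ A, x ≠ 1 → V ⊓ Subgroup.centralizer ({x} : Set G) = ⊥ := fun x hx h1 =>
    h.fpf hV (by
      rw [orderOf_eq_prime (hexp x hx) h1]
      exact fun hd => hpq ((Nat.prime_dvd_prime_iff_eq Fact.out hq).1 hd)) h1
  haveI := Cores.isCyclic_of_fpf hV1 hle hfpf
  obtain ⟨g, hg⟩ := IsCyclic.exists_generator (α := A)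
  have hgA : ∀ x ∈ A, x ∈ Subgroup.zpowers (g : G) := fun x hx => by
    obtain ⟨i, hi⟩ := hg ⟨x, hx⟩
    exact ⟨i, congrArg Subtype.val hi⟩
  have hag := hgA a (Subgroup.subset_closure (Set.mem_insert _ _))
  have heq : Subgroup.zpowers a = Subgroup.zpowers (g : G) := by
    refine Subgroup.eq_of_le_of_card_ge (Subgroup.zpowers_le.2 hag) ?_
    rw [Nat.card_zpowers, Nat.card_zpowers, ha]
    exact Nat.le_of_dvd hq.pos (orderOf_dvd_of_pow_eq_one (hexp g g.2))
  rw [heq]
  exact hgA b (Subgroup.subset_closure (Set.mem_insert_of_mem _ rfl))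

/-- An involution inverts a subgroup of odd prime power order that it normalises. -/
theorem Spec.inverts (h : Spec G) {p : ℕ} [hp : Fact p.Prime] (hp2 : p ≠ 2) {V : Subgroup G}
    (hV : IsPGroup p V) {s : G} (hs : orderOf s = 2) (hn : s ∈ Subgroup.normalizer (V : Set G)) {v : G}
    (hv : v ∈ V) : s * v * s⁻¹ = v⁻¹ := by
  refine Cores.involution_inverts hn (by rw [← sq, ← hs, pow_orderOf_eq_one]) (h.fpf hV ?_ ?_) hv
  · rw [hs]
    exact fun hd => hp2 ((Nat.prime_dvd_prime_iff_eq hp.out Nat.prime_two).1 hd)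
  · intro e
    rw [e, orderOf_one] at hs
    omega

/-- A non-solvable group with small element orders has order divisible by 2, 3 and 5. -/
theorem Spec.dvd_of_not_isSolvable (h : Spec G) (hns : ¬ Group.IsSolvable G) :
    2 ∣ Nat.card G ∧ 3 ∣ Nat.card G ∧ 5 ∣ Nat.card G := by
  have key : ∀ r, (r = 2 ∨ r = 3 ∨ r = 5) → r ∣ Nat.card G := by
    intro r hr
    by_contra hd
    apply hns
    obtain ⟨p, q, hp, hq, hpq⟩ : ∃ p q : ℕ, p.Prime ∧ q.Prime ∧
        ∀ x, (x = 2 ∨ x = 3 ∨ x = 5) → x ≠ r → x = p ∨ x = q := by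
      rcases hr with rfl | rfl | rfl
      · exact ⟨3, 5, by norm_num, by norm_num, fun x hx hne => by omega⟩
      · exact ⟨2, 5, by norm_num, by norm_num, fun x hx hne => by omega⟩
      · exact ⟨2, 3, by norm_num, by norm_num, fun x hx hne => by omega⟩
    refine CharTheory.isSolvable_of_card_dvd_pow_mul_pow p q (Nat.card G) (Nat.card G) hp hq ?_
    refine (Nat.dvd_iff_prime_pow_dvd_dvd _ _).2 fun x k hx hxk => ?_
    rcases Nat.eq_zero_or_pos k with rfl | hk
    · simp
    have hxd : x ∣ Nat.card G := (dvd_pow_self x hk.ne').trans hxk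
    have hkle : k ≤ Nat.card G :=
      ((Nat.lt_pow_self hx.one_lt).le).trans (Nat.le_of_dvd Nat.card_pos hxk)
    rcases hpq x (h.prime_le hx hxd) (fun e => hd (e ▸ hxd)) with rfl | rfl
    · exact (pow_dvd_pow x hkle).trans (dvd_mul_right _ _)
    · exact (pow_dvd_pow x hkle).trans (dvd_mul_left _ _)
  exact ⟨key 2 (by simp), key 3 (by simp), key 5 (by simp)⟩

end CfsgLib.SmallSpectrum
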