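import Cfsg.Agent.Lib.SmallSpectrum.Basic
import Mathlib.GroupTheory.Commutator.Basic

/-!
# A 2-group with fixed-point-free action of a dihedral group of order 2q is elementary abelian
-/

set_option autoImplicit false
set_option linter.unusedSectionVars false
set_option linter.style.haveILetI false

namespace CfsgLib.SmallSpectrum

open scoped commutatorElement IsMulCommutative

universe u

theorem pow_eq_one_of_prods {B : Type*} [CommGroup B] (c : B) (f g l : ℕ → B) (q : ℕ)
    (hid : ∀ k, c * f k * (g k * l k) = 1) (e1 : ((List.range q).map f).prod = 1)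
    (e2 : ((List.range q).map g).prod = 1) (e3 : ((List.range q).map l).prod = 1) : c ^ q = 1 := by
  have h : ((List.range q).map fun k => c * f k * (g k * l k)).prod = 1 :=
    List.prod_eq_one (by simp [hid])
  rw [List.prod_map_mul, List.prod_map_mul, List.prod_map_mul, e1, e2, e3, mul_one, mul_one,
    mul_one, List.map_const', List.prod_replicate, List.length_range] at h
  exact h

/-- The abstract commutator computation. -/
theorem commute_of_norm_identities {A : Type*} [Group A] (T : ℕ → A →* A) {q : ℕ} (hq : Odd q)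
    (hN : ∀ x, ((List.range q).map fun k => T k x).prod = 1)
    (hcen : ∀ x y : A, ⁅x, y⁆ ∈ Subgroup.center A) (hc2 : ∀ x y : A, ⁅x, y⁆ ^ 2 = 1)
    (ha : ∀ k x y, Commute (x * T k x) (y * T k y)) (x y : A) : Commute x y := by
  have hcm : ∀ (u v w : A), ⁅u * v, w⁆ = ⁅u, w⁆ * ⁅v, w⁆ := by
    intro u v w
    have h : u * ⁅v, w⁆ = ⁅v, w⁆ * u := Subgroup.mem_center_iff.1 (hcen v w) u
    have h' : ⁅u, w⁆ * ⁅v, w⁆ = ⁅v, w⁆ * ⁅u, w⁆ := Subgroup.mem_center_iff.1 (hcen v w) _
    calc ⁅u * v, w⁆ = (u * ⁅v, w⁆ * u⁻¹) * ⁅u, w⁆ := by simp only [commutatorElement_def]; group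
      _ = ⁅v, w⁆ * ⁅u, w⁆ := by rw [h, mul_inv_cancel_right]
      _ = ⁅u, w⁆ * ⁅v, w⁆ := h'.symm
  have hcm' : ∀ (u v w : A), ⁅w, u * v⁆ = ⁅w, u⁆ * ⁅w, v⁆ := by
    intro u v w
    have h : u * ⁅w, v⁆ = ⁅w, v⁆ * u := Subgroup.mem_center_iff.1 (hcen w v) u
    calc ⁅w, u * v⁆ = ⁅w, u⁆ * (u * ⁅w, v⁆ * u⁻¹) := by simp only [commutatorElement_def]; group
      _ = ⁅w, u⁆ * ⁅w, v⁆ := by rw [h, mul_inv_cancel_right]
  let L : A → (A →* Subgroup.center A) := fun w =>
    { toFun := fun u => ⟨⁅u, w⁆, hcen u w⟩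
      map_one' := Subtype.ext (by simp)
      map_mul' := fun u v => Subtype.ext (hcm u v w) }
  let M : A → (A →* Subgroup.center A) := fun w =>
    { toFun := fun u => ⟨⁅w, u⁆, hcen w u⟩
      map_one' := Subtype.ext (by simp)
      map_mul' := fun u v => Subtype.ext (hcm' u v w) }
  let c : Subgroup.center A := ⟨⁅x, y⁆, hcen x y⟩
  let D : ℕ → Subgroup.center A := fun k => ⟨⁅T k x, T k y⁆, hcen _ _⟩
  have hid : ∀ k, c * L y (T k x) * (M x (T k y) * D k) = 1 := fun k => Subtype.ext (by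
    have h1 : ⁅x * T k x, y * T k y⁆ = 1 := commutatorElement_eq_one_iff_commute.2 (ha k x y)
    have h2 : ⁅x * T k x, y⁆ * ⁅x * T k x, T k y⁆ = 1 := by rw [← hcm', h1]
    rw [hcm, hcm] at h2
    exact h2)
  have e1 : ((List.range q).map fun k => L y (T k x)).prod = 1 := by
    rw [← map_one (L y), ← hN x, map_list_prod, List.map_map]; rfl
  have e2 : ((List.range q).map fun k => M x (T k y)).prod = 1 := by
    rw [← map_one (M x), ← hN y, map_list_prod, List.map_map]; rfl
  have e3 : ((List.range q).map D).prod = 1 := Subtype.ext (by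
    rw [← Subgroup.subtype_apply, map_list_prod, List.map_map]
    refine Eq.trans ?_ (hN ⁅x, y⁆)
    congr 1
    exact List.map_congr_left fun k _ => (map_commutatorElement (T k) x y).symm)
  have h1 : ⁅x, y⁆ ^ q = 1 :=
    congrArg Subtype.val (pow_eq_one_of_prods c _ _ D q hid e1 e2 e3)
  obtain ⟨m, rfl⟩ := hq
  rw [pow_succ, pow_mul, hc2, one_pow, one_mul] at h1
  exact commutatorElement_eq_one_iff_commute.1 h1

variable {G : Type u} [Group G] [Finite G]

theorem mul_pow_eq_prod (v r : G) (n : ℕ) :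
    (v * r) ^ n = ((List.range n).map fun k => r ^ k * v * (r ^ k)⁻¹).prod * r ^ n := by
  induction n with
  | zero => simp
  | succ n ih =>
    rw [pow_succ (v * r) n, ih, List.range_succ, List.map_append, List.prod_append, pow_succ r n]
    simp only [List.map_cons, List.map_nil, List.prod_cons, List.prod_nil, mul_one]
    group

theorem conj_mem_of_mem_normalizer {D : Subgroup G} {g v : G}
    (hg : g ∈ Subgroup.normalizer (D : Set G)) (hv : v ∈ D) : g * v * g⁻¹ ∈ D :=
  (Subgroup.mem_normalizer_iff.1 hg v).1 hv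

theorem eq_one_of_mem_two_group {D : Subgroup G} (hD : IsPGroup 2 D) {q : ℕ} (hq : Odd q) {g : G}
    (hg : g ∈ D) (hgq : g ^ q = 1) : g = 1 := by
  obtain ⟨n, hn⟩ := hD ⟨g, hg⟩
  have hn' : g ^ 2 ^ n = 1 := congrArg Subtype.val hn
  have hcop : (2 ^ n).Coprime q := (Nat.coprime_two_left.2 hq).pow_left n
  exact orderOf_eq_one_iff.1 (Nat.eq_one_of_dvd_coprimes hcop (orderOf_dvd_of_pow_eq_one hn')
    (orderOf_dvd_of_pow_eq_one hgq))

/-- The norm identity of an element of order 3 or 5 acting on a 2-group. -/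
theorem Spec.norm_eq_one (h : Spec G) {D : Subgroup G} (hD : IsPGroup 2 D) {r v : G} {q : ℕ}
    (hq : q = 3 ∨ q = 5) (hr : orderOf r = q) (hrD : r ∈ Subgroup.normalizer (D : Set G))
    (hv : v ∈ D) : ((List.range q).map fun k => r ^ k * v * (r ^ k)⁻¹).prod = 1 := by
  have hrq : r ^ q = 1 := by rw [← hr, pow_orderOf_eq_one]
  have hodd : Odd q := by rcases hq with rfl | rfl <;> decide
  have hqp : q.Prime := by rcases hq with rfl | rfl <;> norm_num
  set P := fun n => ((List.range n).map fun k => r ^ k * v * (r ^ k)⁻¹).prod with hP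
  have hPm : ∀ n, P n ∈ D := fun n => list_prod_mem (by
    simp only [List.mem_map]
    rintro _ ⟨k, -, rfl⟩
    exact conj_mem_of_mem_normalizer (pow_mem hrD k) hv)
  have hvr : ∀ n, (v * r) ^ n = P n * r ^ n := mul_pow_eq_prod v r
  have hdvd : q ∣ orderOf (v * r) := by
    have h1 := hvr (orderOf (v * r))
    rw [pow_orderOf_eq_one] at h1
    have h2 : r ^ orderOf (v * r) ∈ D := by
      rw [eq_inv_of_mul_eq_one_right h1.symm]
      exact D.inv_mem (hPm _)
    have h3 : r ^ orderOf (v * r) = 1 := eq_one_of_mem_two_group hD hodd h2 (by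
      rw [← pow_mul, mul_comm, pow_mul, hrq, one_pow])
    rw [← hr]
    exact orderOf_dvd_of_pow_eq_one h3
  have hle := h (v * r)
  have hord : orderOf (v * r) = q := by
    have hpos := orderOf_pos (v * r)
    obtain ⟨c, hc⟩ := hdvd
    rcases hq with rfl | rfl <;> omega
  have h4 := hvr q
  rw [← hord] at h4
  rw [pow_orderOf_eq_one, hord, hrq, mul_one] at h4
  exact h4.symm

theorem Spec.pow_four_of_mem (h : Spec G) {D : Subgroup G} (hD : IsPGroup 2 D) {x : G}
    (hx : x ^ 2 ∈ D) : x ^ 4 = 1 := by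
  obtain ⟨n, hn⟩ := hD ⟨x ^ 2, hx⟩
  have h1 : (x ^ 2) ^ 2 ^ n = 1 := congrArg Subtype.val hn
  rw [← pow_mul, ← pow_succ'] at h1
  obtain ⟨j, -, hjo⟩ := (Nat.dvd_prime_pow Nat.prime_two).1 (orderOf_dvd_of_pow_eq_one h1)
  have := h x
  have hj3 : j ≤ 2 := by
    by_contra hj
    have := Nat.pow_le_pow_right (show 1 ≤ 2 by norm_num) (show 3 ≤ j by omega)
    omega
  refine orderOf_dvd_iff_pow_eq_one.1 ?_
  rw [hjo]
  exact pow_dvd_pow 2 hj3

private theorem elemAb_aux : ∀ (n : ℕ) {G : Type u} [Group G] [Finite G], Spec G →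
    ∀ (D : Subgroup G) (r s : G) (q : ℕ), Nat.card D ≤ n → IsPGroup 2 D → (q = 3 ∨ q = 5) →
    orderOf r = q → s * s = 1 → s * r * s⁻¹ = r⁻¹ → r ∈ Subgroup.normalizer (D : Set G) →
    s ∈ Subgroup.normalizer (D : Set G) → ∀ x ∈ D, x ^ 2 = 1 := by
  intro n
  induction n with
  | zero =>
    intro G _ _ _ D r s q hn
    have := Nat.card_pos (α := D)
    omega
  | succ n ih =>
    intro G _ _ h D r s q hn hD hq hr hss hsr hrD hsD x hx
    rcases eq_or_ne D ⊥ with rfl | hD1
    · rw [Subgroup.mem_bot] at hx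
      rw [hx, one_pow]
    let Z : Subgroup G :=
      { carrier := {z | z ∈ D ∧ (∀ w ∈ D, Commute z w) ∧ z ^ 2 = 1}
        one_mem' := ⟨D.one_mem, fun w _ => Commute.one_left w, one_pow 2⟩
        mul_mem' := fun {a b} ha hb => ⟨D.mul_mem ha.1 hb.1,
          fun w hw => (ha.2.1 w hw).mul_left (hb.2.1 w hw),
          by rw [(ha.2.1 b hb.1).mul_pow, ha.2.2, hb.2.2, one_mul]⟩
        inv_mem' := fun {a} ha => ⟨D.inv_mem ha.1, fun w hw => (ha.2.1 w hw).inv_left,
          by rw [inv_pow, ha.2.2, inv_one]⟩ }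
    have hZD : Z ≤ D := fun z hz => hz.1
    obtain ⟨z, hzZ, hz1⟩ : ∃ z ∈ Z, z ≠ 1 := by
      haveI : Nontrivial D := (Subgroup.nontrivial_iff_ne_bot _).2 hD1
      haveI : Nontrivial (Subgroup.center D) := hD.center_nontrivial
      have hdvd : 2 ∣ Nat.card (Subgroup.center D) := by
        obtain ⟨k, hk, hcard⟩ :=
          (hD.to_subgroup (Subgroup.center D)).nontrivial_iff_card.1 inferInstance
        exact hcard ▸ dvd_pow_self 2 hk.ne'
      obtain ⟨z, hz⟩ := exists_prime_orderOf_dvd_card' (G := Subgroup.center D) 2 hdvd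
      refine ⟨((z : D) : G), ⟨(z : D).2, fun w hw => ?_, ?_⟩, fun e => ?_⟩
      · exact congrArg Subtype.val (Subgroup.mem_center_iff.1 z.2 ⟨w, hw⟩).symm
      · rw [← SubgroupClass.coe_pow, ← SubgroupClass.coe_pow, ← hz, pow_orderOf_eq_one]; rfl
      · rw [OneMemClass.coe_eq_one, OneMemClass.coe_eq_one] at e
        rw [e, orderOf_one] at hz
        omega
    let N := Subgroup.normalizer (D : Set G)
    have hDN : D ≤ N := Subgroup.le_normalizer
    haveI hZn : (Z.subgroupOf N).Normal := ⟨fun z hz g => by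
      rw [Subgroup.mem_subgroupOf] at hz ⊢
      obtain ⟨hzD, hzc, hz2⟩ := hz
      refine ⟨conj_mem_of_mem_normalizer g.2 hzD, fun w hw => ?_, ?_⟩
      · have hw' := conj_mem_of_mem_normalizer (inv_mem g.2) hw
        have := (hzc _ hw').map (MulAut.conj (g : G)).toMonoidHom
        simp [MulAut.conj_apply, mul_assoc] at this ⊢
        exact this
      · simp only [Subgroup.coe_mul, InvMemClass.coe_inv]
        rw [← MulAut.conj_apply, ← map_pow, hz2, map_one]⟩
    let π := QuotientGroup.mk' (Z.subgroupOf N)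
    let D' : Subgroup (N ⧸ Z.subgroupOf N) := (D.subgroupOf N).map π
    have hodd : Odd q := by rcases hq with rfl | rfl <;> decide
    have hq1 : q ≠ 1 := by omega
    have hqp : q.Prime := by rcases hq with rfl | rfl <;> norm_num
    have hcard : Nat.card D' ≤ n := by
      have h1 : Nat.card D' * Nat.card (Z.subgroupOf N) = Nat.card D := by
        have h := Subgroup.card_mul_index ((Z.subgroupOf N).subgroupOf (D.subgroupOf N))
        have h' := Subgroup.relIndex_ker (D.subgroupOf N) π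
        rw [QuotientGroup.ker_mk'] at h'
        have hle : Z.subgroupOf N ≤ D.subgroupOf N := fun a ha => hZD ha
        rw [← Subgroup.relIndex, h', Nat.card_congr (Subgroup.subgroupOfEquivOfLe hDN).toEquiv,
          Nat.card_congr (Subgroup.subgroupOfEquivOfLe hle).toEquiv] at h
        rw [mul_comm]
        exact h
      have h2 : 1 < Nat.card (Z.subgroupOf N) := by
        rw [Finite.one_lt_card_iff_nontrivial, Subgroup.nontrivial_iff_ne_bot]
        intro e
        have : (⟨z, hDN (hZD hzZ)⟩ : N) ∈ Z.subgroupOf N := hzZ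
        rw [e, Subgroup.mem_bot] at this
        exact hz1 (congrArg Subtype.val this)
      have h3 := Nat.card_pos (α := D')
      nlinarith
    have hD' : IsPGroup 2 D' :=
      (hD.of_equiv (Subgroup.subgroupOfEquivOfLe hDN).symm).map π
    have hD'n : ∀ g : N, π g ∈ Subgroup.normalizer (D' : Set (N ⧸ Z.subgroupOf N)) := by
      intro g
      haveI : (D.subgroupOf N).Normal := (Subgroup.normal_subgroupOf_iff_le_normalizer hDN).2 le_rfl
      haveI : D'.Normal := Subgroup.Normal.map inferInstance π (QuotientGroup.mk'_surjective _)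
      rw [Subgroup.normalizer_eq_top]
      exact Subgroup.mem_top _
    have hr1 : π ⟨r, hrD⟩ ≠ 1 := by
      intro e
      rw [QuotientGroup.mk'_apply, QuotientGroup.eq_one_iff, Subgroup.mem_subgroupOf] at e
      have he : r = 1 :=
        eq_one_of_mem_two_group hD hodd (hZD e) (by rw [← hr]; exact pow_orderOf_eq_one r)
      rw [he, orderOf_one] at hr
      exact hq1 hr.symm
    have hr' : orderOf (π ⟨r, hrD⟩) = q := by
      haveI := Fact.mk hqp
      refine orderOf_eq_prime ?_ hr1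
      have hrq : r ^ q = 1 := by rw [← hr, pow_orderOf_eq_one]
      rw [← map_pow, show (⟨r, hrD⟩ : N) ^ q = 1 from Subtype.ext hrq, map_one]
    have hquot : ∀ y ∈ D, y ^ 2 ∈ Z := by
      intro y hy
      have := ih ((h.subgroup N).quotient (Z.subgroupOf N)) D' (π ⟨r, hrD⟩) (π ⟨s, hsD⟩) q
        hcard hD' hq hr'
        (by rw [← map_mul, show (⟨s, hsD⟩ : N) * ⟨s, hsD⟩ = 1 from Subtype.ext hss, map_one])
        (by rw [← map_inv, ← map_inv, ← map_mul, ← map_mul]; exact congrArg π (Subtype.ext hsr))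
        (hD'n _) (hD'n _) (π ⟨y, hDN hy⟩) (Subgroup.mem_map_of_mem π hy)
      rw [← map_pow, QuotientGroup.mk'_apply, QuotientGroup.eq_one_iff] at this
      exact this
    have hcZ : ∀ a ∈ D, ∀ b ∈ D, ⁅a, b⁆ ∈ Z := by
      intro a ha b hb
      have h1 := hquot _ (D.mul_mem ha hb)
      have h2 := hquot _ ha
      have h3 := hquot _ hb
      have key : ⁅a, b⁆ = (a * b) ^ 2 * ((b ^ 2)⁻¹ * (b * (a ^ 2)⁻¹ * b⁻¹)) := by
        simp only [commutatorElement_def, sq]; group
      rw [key]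
      refine Z.mul_mem h1 (Z.mul_mem (Z.inv_mem h3) ?_)
      have hc : Commute ((a ^ 2)⁻¹) b := (h2.2.1 b hb).inv_left
      rw [← hc.eq, mul_inv_cancel_right]
      exact Z.inv_mem h2
    -- the involutions `r ^ k * s`
    have hrs : ∀ k : ℕ, s * r ^ k * s⁻¹ = (r ^ k)⁻¹ := fun k => by
      rw [← conj_pow, hsr, inv_pow]
    have hsinv : s⁻¹ = s := inv_eq_of_mul_eq_one_left hss
    have ht2 : ∀ k : ℕ, (r ^ k * s) * (r ^ k * s) = 1 := fun k => by
      have := hrs k
      rw [hsinv] at this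
      calc (r ^ k * s) * (r ^ k * s) = r ^ k * (s * r ^ k * s) := by group
        _ = 1 := by rw [this, mul_inv_cancel]
    have htD : ∀ k : ℕ, r ^ k * s ∈ N := fun k => mul_mem (pow_mem hrD k) hsD
    have ha2 : ∀ k : ℕ, ∀ y ∈ D, (y * ((r ^ k * s) * y * (r ^ k * s)⁻¹)) ^ 2 = 1 := by
      intro k y hy
      have e : (r ^ k * s)⁻¹ = r ^ k * s := inv_eq_of_mul_eq_one_left (ht2 k)
      have e2 : y * ((r ^ k * s) * y * (r ^ k * s)⁻¹) = (y * (r ^ k * s)) ^ 2 := by
        rw [e, sq]; group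
      rw [e2, ← pow_mul]
      refine h.pow_four_of_mem hD ?_
      rw [← e2]
      exact D.mul_mem hy (conj_mem_of_mem_normalizer (htD k) hy)
    let T : ℕ → D →* D := fun k =>
      ((Subgroup.normalizerMonoidHom D) ⟨r ^ k * s, htD k⟩).toMonoidHom
    have hTv : ∀ k (y : D), (T k y : G) = r ^ k * s * y * (r ^ k * s)⁻¹ := fun k y => rfl
    have hab : ∀ a b : D, Commute a b := by
      refine commute_of_norm_identities T hodd (fun y => Subtype.ext ?_) ?_ ?_ ?_
      · have := h.norm_eq_one hD hq hr hrD (conj_mem_of_mem_normalizer hsD y.2)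
        rw [← Subgroup.subtype_apply, map_list_prod, List.map_map]
        refine Eq.trans ?_ this
        congr 1
        refine List.map_congr_left fun k _ => ?_
        rw [Function.comp_apply, Subgroup.subtype_apply, hTv]
        group
      · intro a b
        refine Subgroup.mem_center_iff.2 fun w => Subtype.ext ?_
        exact ((hcZ a a.2 b b.2).2.1 w w.2).symm
      · intro a b
        exact Subtype.ext (hcZ a a.2 b b.2).2.2
      · intro k a b
        have h1 := ha2 k a a.2
        have h2 := ha2 k b b.2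
        have h3 := ha2 k _ (D.mul_mem a.2 b.2)
        set t := r ^ k * s with ht
        set A := (a : G) * (t * a * t⁻¹) with hA
        set B := (b : G) * (t * b * t⁻¹) with hB
        have hAD : A ∈ D := D.mul_mem a.2 (conj_mem_of_mem_normalizer (htD k) a.2)
        have hBD : B ∈ D := D.mul_mem b.2 (conj_mem_of_mem_normalizer (htD k) b.2)
        have hta := conj_mem_of_mem_normalizer (htD k) a.2
        have hC := hcZ b b.2 _ hta
        have e : (a * b : G) * (t * (a * b) * t⁻¹) = A * B * ⁅(b : G), t * a * t⁻¹⁆ := by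
          calc (a * b : G) * (t * (a * b) * t⁻¹)
              = a * ⁅(b : G), t * a * t⁻¹⁆ * (t * a * t⁻¹) * b * (t * b * t⁻¹) := by
                simp only [commutatorElement_def]; group
            _ = a * ((t * a * t⁻¹) * (b * (t * b * t⁻¹)) * ⁅(b : G), t * a * t⁻¹⁆) := by
                rw [mul_assoc (a : G), mul_assoc (a : G), mul_assoc (a : G)]
                congr 1
                have hc := hC.2.1 _ (D.mul_mem hta hBD)
                rw [mul_assoc, mul_assoc]
                exact hc.eq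
            _ = A * B * ⁅(b : G), t * a * t⁻¹⁆ := by simp only [hA, hB, mul_assoc]
        rw [e, (hC.2.1 _ (D.mul_mem hAD hBD)).symm.mul_pow, hC.2.2, mul_one] at h3
        refine Subtype.ext ?_
        change A * B = B * A
        have hAi : A⁻¹ = A := inv_eq_of_mul_eq_one_left (by rw [← sq, h1])
        have hBi : B⁻¹ = B := inv_eq_of_mul_eq_one_left (by rw [← sq, h2])
        have : (A * B)⁻¹ = A * B := inv_eq_of_mul_eq_one_left (by rw [← sq, h3])
        rw [mul_inv_rev, hAi, hBi] at this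
        exact this.symm
    -- squares are fixed by all the involutions, hence by `r`
    have hfix : ∀ k : ℕ, (r ^ k * s) * x ^ 2 * (r ^ k * s)⁻¹ = x ^ 2 := by
      intro k
      have h1 := ha2 k x hx
      have hc : Commute x ((r ^ k * s) * x * (r ^ k * s)⁻¹) :=
        congrArg Subtype.val (hab ⟨x, hx⟩ ⟨_, conj_mem_of_mem_normalizer (htD k) hx⟩)
      rw [hc.mul_pow, conj_pow] at h1
      have := (hquot x hx).2.2
      calc (r ^ k * s) * x ^ 2 * (r ^ k * s)⁻¹ = (x ^ 2)⁻¹ := eq_inv_of_mul_eq_one_right h1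
        _ = x ^ 2 := inv_eq_of_mul_eq_one_left (by rw [← sq, this])
    have h0 := hfix 0
    rw [pow_zero, one_mul] at h0
    have h1 := hfix 1
    rw [pow_one] at h1
    have hrfix : r * x ^ 2 * r⁻¹ = x ^ 2 := by
      conv_rhs => rw [← h1]
      conv_lhs => rw [← h0]
      group
    haveI := Fact.mk hqp
    refine h.eq_one_of_pGroup hD (pow_mem hx 2) (mul_inv_eq_iff_eq_mul.1 hrfix) ?_ ?_
    · rw [hr]
      exact fun hd => by rcases hq with rfl | rfl <;> norm_num at hd
    · intro e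
      rw [e, orderOf_one] at hr
      exact hq1 hr.symm

/-- A 2-subgroup normalised by an element of order 3 or 5 and an involution inverting it is
elementary abelian. -/
theorem Spec.sq_eq_one (h : Spec G) {D : Subgroup G} (hD : IsPGroup 2 D) {r s : G} {q : ℕ}
    (hq : q = 3 ∨ q = 5) (hr : orderOf r = q) (hss : s * s = 1) (hsr : s * r * s⁻¹ = r⁻¹)
    (hrD : r ∈ Subgroup.normalizer (D : Set G)) (hsD : s ∈ Subgroup.normalizer (D : Set G))
    {x : G} (hx : x ∈ D) : x ^ 2 = 1 :=
  elemAb_aux _ h D r s q le_rfl hD hq hr hss hsr hrD hsD x hx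

/-- Elements squaring to one in a subgroup commute. -/
theorem commute_of_sq_eq_one {D : Subgroup G} (h2 : ∀ x ∈ D, x ^ 2 = 1) {x y : G} (hx : x ∈ D)
    (hy : y ∈ D) : Commute x y := by
  have hxi : x⁻¹ = x := inv_eq_of_mul_eq_one_left (by rw [← sq, h2 x hx])
  have hyi : y⁻¹ = y := inv_eq_of_mul_eq_one_left (by rw [← sq, h2 y hy])
  have : (x * y)⁻¹ = x * y := inv_eq_of_mul_eq_one_left (by rw [← sq, h2 _ (D.mul_mem hx hy)])
  rw [mul_inv_rev, hxi, hyi] at this
  exact this.symm

/-- An element of order 4 cannot induce an automorphism of order 4 on a subgroup of order 5 acting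
on an elementary abelian 2-group. -/
theorem Spec.eq_bot_of_frobenius_twenty (h : Spec G) {D : Subgroup G} (hD : IsPGroup 2 D)
    (h2 : ∀ x ∈ D, x ^ 2 = 1) {c r : G} (hr : orderOf r = 5) (hc : c ^ 4 = 1)
    (hcr : c * r * c⁻¹ = r ^ 2) (hcD : c ∈ Subgroup.normalizer (D : Set G))
    (hrD : r ∈ Subgroup.normalizer (D : Set G)) : D = ⊥ := by
  rw [Subgroup.eq_bot_iff_forall]
  intro u hu
  haveI : IsMulCommutative D := ⟨⟨fun a b => Subtype.ext (commute_of_sq_eq_one h2 a.2 b.2)⟩⟩
  have hn : ∀ (e : ℕ), ¬ 5 ∣ e → ∀ v ∈ D,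
      ((List.range 5).map fun k => r ^ (e * k) * v * (r ^ (e * k))⁻¹).prod = 1 := by
    intro e he v hv
    have ho : orderOf (r ^ e) = 5 := by
      rw [Nat.Coprime.orderOf_pow]
      · exact hr
      · rw [hr]; exact ((Nat.Prime.coprime_iff_not_dvd (by norm_num)).2 he)
    have := h.norm_eq_one hD (Or.inr rfl) ho (pow_mem hrD e) hv
    simp only [← pow_mul] at this
    exact this
  have hr5 : r ^ 5 = 1 := by rw [← hr, pow_orderOf_eq_one]
  have hcm : ∀ (i : ℕ), ∀ v ∈ D, c ^ i * v * (c ^ i)⁻¹ ∈ D := fun i v hv =>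
    conj_mem_of_mem_normalizer (pow_mem hcD i) hv
  have hid : ∀ k : ℕ, u * (r ^ k * (c * u * c⁻¹) * (r ^ k)⁻¹) *
      ((r ^ (3 * k) * (c ^ 2 * u * (c ^ 2)⁻¹) * (r ^ (3 * k))⁻¹) *
      (r ^ (2 * k) * (c ^ 3 * u * (c ^ 3)⁻¹) * (r ^ (2 * k))⁻¹)) = 1 := by
    intro k
    have hv : r ^ k * u * (r ^ k)⁻¹ ∈ D := conj_mem_of_mem_normalizer (pow_mem hrD k) hu
    have h4 : (r ^ k * u * (r ^ k)⁻¹ * c) ^ 4 = 1 := by
      set v := r ^ k * u * (r ^ k)⁻¹
      obtain ⟨m, hm⟩ : ∃ m, m = (v * c) ^ 4 := ⟨_, rfl⟩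
      have hmD : (v * c) ^ 4 ∈ D := by
        rw [mul_pow_eq_prod, hc, mul_one]
        refine list_prod_mem ?_
        simp only [List.mem_map]
        rintro _ ⟨i, -, rfl⟩
        exact hcm i v hv
      obtain ⟨n, hn⟩ := hD ⟨_, hmD⟩
      have h1 : ((v * c) ^ 4) ^ 2 ^ n = 1 := congrArg Subtype.val hn
      rw [← pow_mul, show 4 * 2 ^ n = 2 ^ (n + 2) by ring] at h1
      obtain ⟨j, -, hjo⟩ := (Nat.dvd_prime_pow Nat.prime_two).1 (orderOf_dvd_of_pow_eq_one h1)
      have := h (v * c)
      have hj3 : j ≤ 2 := by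
        by_contra hj
        have := Nat.pow_le_pow_right (show 1 ≤ 2 by norm_num) (show 3 ≤ j by omega)
        omega
      refine orderOf_dvd_iff_pow_eq_one.1 ?_
      rw [hjo]
      exact pow_dvd_pow 2 hj3
    rw [mul_pow_eq_prod, hc, mul_one] at h4
    simp only [List.range_succ, List.range_zero, List.nil_append, List.map_append, List.map_cons,
      List.map_nil, List.prod_append, List.prod_cons, List.prod_nil, mul_one, pow_zero, one_mul,
      inv_one, pow_one] at h4
    have hc1 : c * r ^ k = r ^ (2 * k) * c := by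
      rw [pow_mul, ← hcr, conj_pow]; group
    have hc2 : c ^ 2 * r ^ k = r ^ (4 * k) * c ^ 2 := by
      rw [sq, mul_assoc, hc1, ← mul_assoc, show 4 * k = 2 * (2 * k) by ring, pow_mul r 2 (2 * k),
        ← hcr, conj_pow]
      group
    have hc3 : c ^ 3 * r ^ k = r ^ (3 * k) * c ^ 3 := by
      rw [pow_succ' c 2, mul_assoc, hc2, ← mul_assoc,
        show r ^ (3 * k) = r ^ (2 * (4 * k)) by
          rw [show 2 * (4 * k) = 3 * k + 5 * k by ring, pow_add, pow_mul r 5, hr5, one_pow, mul_one],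
        pow_mul r 2 (4 * k), ← hcr, conj_pow]
      group
    have e : ∀ (i j : ℕ) (v : G), c ^ i * r ^ k = r ^ j * c ^ i →
        c ^ i * (r ^ k * v * (r ^ k)⁻¹) * (c ^ i)⁻¹ = r ^ j * (c ^ i * v * (c ^ i)⁻¹) * (r ^ j)⁻¹ := by
      intro i j v he
      calc c ^ i * (r ^ k * v * (r ^ k)⁻¹) * (c ^ i)⁻¹
          = (c ^ i * r ^ k) * v * (c ^ i * r ^ k)⁻¹ := by group
        _ = _ := by rw [he]; group
    have e1 := e 1 (2 * k) u (by rw [pow_one]; exact hc1)
    rw [pow_one] at e1
    rw [e1, e 2 (4 * k) u hc2, e 3 (3 * k) u hc3] at h4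
    -- conjugate by `r ^ k`
    have h5 := congrArg (fun g => (r ^ k)⁻¹ * g * r ^ k) h4
    simp only [mul_one, inv_mul_cancel] at h5
    rw [← h5, show 4 * k = k + 3 * k by ring, show 2 * k = k + k by ring,
      show 3 * k = k + (k + k) by ring, pow_add, pow_add, pow_add]
    group
  let U : D := ⟨u, hu⟩
  let f : ℕ → D := fun k => ⟨r ^ k * (c * u * c⁻¹) * (r ^ k)⁻¹,
    conj_mem_of_mem_normalizer (pow_mem hrD k) (conj_mem_of_mem_normalizer hcD hu)⟩
  let g : ℕ → D := fun k => ⟨r ^ (3 * k) * (c ^ 2 * u * (c ^ 2)⁻¹) * (r ^ (3 * k))⁻¹,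
    conj_mem_of_mem_normalizer (pow_mem hrD _) (hcm 2 u hu)⟩
  let l : ℕ → D := fun k => ⟨r ^ (2 * k) * (c ^ 3 * u * (c ^ 3)⁻¹) * (r ^ (2 * k))⁻¹,
    conj_mem_of_mem_normalizer (pow_mem hrD _) (hcm 3 u hu)⟩
  have hid' : ∀ k, U * f k * (g k * l k) = 1 := fun k => Subtype.ext (hid k)
  have e1 : ((List.range 5).map f).prod = 1 := Subtype.ext (by
    rw [← Subgroup.subtype_apply, map_list_prod, List.map_map]
    refine Eq.trans ?_ (hn 1 (by norm_num) _ (conj_mem_of_mem_normalizer hcD hu))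
    congr 1)
  have e2 : ((List.range 5).map g).prod = 1 := Subtype.ext (by
    rw [← Subgroup.subtype_apply, map_list_prod, List.map_map]
    exact hn 3 (by norm_num) _ (hcm 2 u hu))
  have e3 : ((List.range 5).map l).prod = 1 := Subtype.ext (by
    rw [← Subgroup.subtype_apply, map_list_prod, List.map_map]
    exact hn 2 (by norm_num) _ (hcm 3 u hu))
  have h5 : u ^ 5 = 1 :=
    congrArg Subtype.val (pow_eq_one_of_prods U f g l 5 hid' e1 e2 e3)
  exact eq_one_of_mem_two_group hD (by decide) hu h5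

end CfsgLib.SmallSpectrum
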