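import Cfsg.Agent.Lib.SmallSpectrum.OddLocal
import Cfsg.Agent.S0225
import Mathlib.GroupTheory.SpecificGroups.KleinFour

/-!
# Involutions and element counts in a simple group with small element orders
-/

set_option autoImplicit false
set_option linter.unusedSectionVars false
set_option linter.style.haveILetI false

namespace CfsgLib.SmallSpectrum

open Cfsg

universe u

variable {G : Type u} [Group G] [Finite G]

theorem inv_eq_self_of_orderOf_two {u : G} (hu : orderOf u = 2) : u⁻¹ = u :=
  inv_eq_of_mul_eq_one_left (by rw [← sq, ← hu, pow_orderOf_eq_one])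

theorem mul_self_of_orderOf_two {u : G} (hu : orderOf u = 2) : u * u = 1 := by
  rw [← sq, ← hu, pow_orderOf_eq_one]

theorem orderOf_eq_two_of_sq {u : G} (hu : u * u = 1) (h1 : u ≠ 1) : orderOf u = 2 := by
  haveI := Fact.mk Nat.prime_two
  exact orderOf_eq_prime (by rw [sq, hu]) h1

/-- Two involutions are conjugate or centralise a common involution. -/
theorem Spec.isConj_or_commute (h : Spec G) {u v : G} (hu : orderOf u = 2) (hv : orderOf v = 2) :
    IsConj u v ∨ ∃ w : G, orderOf w = 2 ∧ Commute w u ∧ Commute w v := by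
  have huu := mul_self_of_orderOf_two hu
  have hvv := mul_self_of_orderOf_two hv
  have hui := inv_eq_self_of_orderOf_two hu
  have hvi := inv_eq_self_of_orderOf_two hv
  have hcu : ∀ n : ℕ, u * (u * v) ^ n * u⁻¹ = ((u * v) ^ n)⁻¹ := fun n => by
    rw [← conj_pow, ← inv_pow]
    congr 1
    rw [mul_inv_rev, hui, hvi, ← mul_assoc, huu, one_mul]
  have hcv : ∀ n : ℕ, v * (u * v) ^ n * v⁻¹ = ((u * v) ^ n)⁻¹ := fun n => by
    rw [← conj_pow, ← inv_pow]
    congr 1
    rw [mul_inv_rev, hui, hvi, mul_assoc, mul_assoc, hvv, mul_one]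
  have hinv : ∀ n : ℕ, (u * v) ^ (2 * n) = 1 → (u * v) ^ n ≠ 1 →
      ∃ w : G, orderOf w = 2 ∧ Commute w u ∧ Commute w v := by
    intro n h1 h2
    have hw : (u * v) ^ n * (u * v) ^ n = 1 := by rw [← pow_add, ← two_mul, h1]
    have hwi : ((u * v) ^ n)⁻¹ = (u * v) ^ n := inv_eq_of_mul_eq_one_left hw
    refine ⟨_, orderOf_eq_two_of_sq hw h2, ?_, ?_⟩
    · exact (mul_inv_eq_iff_eq_mul.1 ((hcu n).trans hwi)).symm
    · exact (mul_inv_eq_iff_eq_mul.1 ((hcv n).trans hwi)).symm
  have hconj : ∀ n : ℕ, (u * v) ^ n * u * ((u * v) ^ n)⁻¹ = (u * v) ^ (2 * n) * u := fun n => by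
    have e : u * ((u * v) ^ n)⁻¹ = (u * v) ^ n * u := by
      rw [← hcu, hui, ← mul_assoc, ← mul_assoc, huu, one_mul]
    rw [mul_assoc, e, ← mul_assoc, ← pow_add, two_mul]
  have hlast : ∀ m : ℕ, (u * v) ^ (m + 1) = 1 → (u * v) ^ m * u = v := fun m hm => by
    rw [eq_inv_of_mul_eq_one_left (show (u * v) ^ m * (u * v) = 1 by rw [← pow_succ, hm]),
      mul_inv_rev, hui, hvi, mul_assoc, huu, mul_one]
  have hpow := pow_orderOf_eq_one (u * v)
  rcases h.orderOf_eq (u * v) with o | o | o | o | o <;> rw [o] at hpow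
  · rw [pow_one] at hpow
    exact Or.inl (by rw [eq_inv_of_mul_eq_one_left hpow, hvi])
  · exact Or.inr (hinv 1 hpow (pow_ne_one_of_lt_orderOf one_ne_zero (by omega)))
  · exact Or.inl (isConj_iff.2 ⟨(u * v) ^ 1, (hconj 1).trans (hlast 2 hpow)⟩)
  · exact Or.inr (hinv 2 hpow (pow_ne_one_of_lt_orderOf two_ne_zero (by omega)))
  · exact Or.inl (isConj_iff.2 ⟨(u * v) ^ 2, (hconj 2).trans (hlast 4 hpow)⟩)

/-- A subgroup of a simple group controlling two classes of involutions. -/
theorem Spec.false_of_two_classes [IsSimpleGroup G] (h : Spec G) {H : Subgroup G} (hH : H ≠ ⊤)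
    {z s : G} (hz : orderOf z = 2) (hzH : z ∈ H) (hs : orderOf s = 2) (hnc : ¬ IsConj z s)
    (hfus : ∀ g : G, g * z * g⁻¹ ∈ H → g ∈ H)
    (hcomm : ∀ w ∈ H, orderOf w = 2 → ∃ g ∈ H, Commute w (g * z * g⁻¹)) : False := by
  haveI := Fact.mk Nat.prime_two
  have hzc : ∀ g ∈ H, ∀ x : G, Commute x (g * z * g⁻¹) → x ∈ H := fun g hg x hx => by
    have hz' : g * z * g⁻¹ ∈ H := H.mul_mem (H.mul_mem hg hzH) (H.inv_mem hg)
    have h1 : (x * g) * z * (x * g)⁻¹ = g * z * g⁻¹ := by
      calc (x * g) * z * (x * g)⁻¹ = x * (g * z * g⁻¹) * x⁻¹ := by group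
        _ = g * z * g⁻¹ := mul_inv_eq_iff_eq_mul.2 hx.eq
    exact (H.mul_mem_cancel_right hg).1 (hfus (x * g) (h1.symm ▸ hz'))
  have hCH : ∀ w ∈ H, orderOf w = 2 → ∀ x : G, Commute x w → x ∈ H := by
    intro w hwH hw x hx
    obtain ⟨g, hg, hwg⟩ := hcomm w hwH hw
    set X := Subgroup.centralizer ({w} : Set G) with hX
    by_contra hxH
    have hxX : x ∈ X := Subgroup.mem_centralizer_singleton_iff.2 hx.eq
    haveI := (h.isPGroup_centralizer hw).isNilpotent
    have hne : H.subgroupOf X < ⊤ := lt_top_iff_ne_top.2 fun e => by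
      rw [Subgroup.subgroupOf_eq_top] at e
      exact hxH (e hxX)
    obtain ⟨n, hn, hnH⟩ := SetLike.exists_of_lt (Group.normalizerCondition_of_isNilpotent _ hne)
    have hzX : g * z * g⁻¹ ∈ X := Subgroup.mem_centralizer_singleton_iff.2 hwg.symm.eq
    have hz' : g * z * g⁻¹ ∈ H := H.mul_mem (H.mul_mem hg hzH) (H.inv_mem hg)
    have h2 : (n : G) * (g * z * g⁻¹) * (n : G)⁻¹ ∈ H :=
      (Subgroup.mem_normalizer_iff.1 hn ⟨_, hzX⟩).1 hz'
    refine hnH ((H.mul_mem_cancel_right hg).1 (hfus ((n : G) * g) ?_))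
    have e : ((n : G) * g) * z * ((n : G) * g)⁻¹ = (n : G) * (g * z * g⁻¹) * (n : G)⁻¹ := by group
    rw [e]
    exact h2
  have hall : ∀ g : G, g * s * g⁻¹ ∈ H := by
    intro g
    have hu : orderOf (g⁻¹ * z * g) = 2 := by
      rw [← hz, show g⁻¹ * z * g = MulAut.conj g⁻¹ z by simp [MulAut.conj_apply]]
      exact MulEquiv.orderOf_eq _ z
    rcases h.isConj_or_commute hu hs with hc | ⟨w, hw, hwu, hws⟩
    · exact absurd (IsConj.trans (isConj_iff.2 ⟨g⁻¹, by group⟩) hc) hnc
    · have e1 : Commute (g * w * g⁻¹) z := by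
        have := hwu.map (MulAut.conj g).toMonoidHom
        simpa [MulAut.conj_apply, mul_assoc] using this
      have hgwH : g * w * g⁻¹ ∈ H := hzc 1 H.one_mem _ (by simpa using e1)
      have hgw : orderOf (g * w * g⁻¹) = 2 := by
        rw [← MulAut.conj_apply, MulEquiv.orderOf_eq, hw]
      exact hCH _ hgwH hgw _ ((hws.map (MulAut.conj g).toMonoidHom).symm)
  have hs1 : s ∈ H.normalCore := fun g => hall g
  rcases Subgroup.Normal.eq_bot_or_eq_top (H := H.normalCore) inferInstance with e | e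
  · rw [e, Subgroup.mem_bot] at hs1
    rw [hs1, orderOf_one] at hs
    omega
  · exact hH (top_le_iff.1 (e ▸ H.normalCore_le))

/-- A simple non-solvable group contains two commuting involutions. -/
theorem exists_commuting_involutions [IsSimpleGroup G] (hns : ¬ Group.IsSolvable G)
    (h2 : 2 ∣ Nat.card G) :
    ∃ u v : G, orderOf u = 2 ∧ orderOf v = 2 ∧ Commute u v ∧ u ≠ v := by
  haveI := Fact.mk Nat.prime_two
  by_contra hne
  push Not at hne
  have hrank : ∀ E : Subgroup G, ¬ IsKleinFour E := by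
    intro E hE
    classical
    haveI := Fintype.ofFinite E
    have h4 : Fintype.card E = 4 := by rw [← Nat.card_eq_fintype_card]; exact hE.card_four
    have hexp : ∀ x : E, x * x = 1 := fun x => by
      rw [← sq, ← hE.exponent_two]; exact Monoid.pow_exponent_eq_one x
    obtain ⟨a, ha⟩ := Finset.exists_mem_notMem_of_card_lt_card (s := ({1} : Finset E))
      (t := Finset.univ) (by simp [h4])
    obtain ⟨b, hb⟩ := Finset.exists_mem_notMem_of_card_lt_card (s := ({1, a} : Finset E))
      (t := Finset.univ) (by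
        rw [Finset.card_univ, h4]
        exact lt_of_le_of_lt (Finset.card_le_two) (by norm_num))
    simp only [Finset.mem_univ, Finset.mem_singleton, Finset.mem_insert, true_and, not_or] at ha hb
    have hab : Commute (a : G) b := by
      refine congrArg Subtype.val (show a * b = b * a from ?_)
      calc a * b = (b * b) * (a * b) * (a * a) := by rw [hexp, hexp, one_mul, mul_one]
        _ = b * ((b * a) * (b * a)) * a := by group
        _ = b * a := by rw [hexp, mul_one]
    exact hb.2 (Subtype.ext (hne (b : G) (a : G)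
      (orderOf_eq_two_of_sq (congrArg Subtype.val (hexp b)) (fun e => hb.1 (Subtype.ext e)))
      (orderOf_eq_two_of_sq (congrArg Subtype.val (hexp a)) (fun e => ha (Subtype.ext e)))
      hab.symm))
  obtain ⟨z, hz, N, hN, hNodd, hcomm⟩ :=
    Cfsg.Agent.S0225.result (G := G) (even_iff_two_dvd.2 h2) hrank
  have hN1 : N = ⊥ := by
    refine (hN.eq_bot_or_eq_top).resolve_right fun e => ?_
    rw [e, Subgroup.card_top] at hNodd
    exact (Nat.not_even_iff_odd.2 hNodd) (even_iff_two_dvd.2 h2)
  have hzc : z ∈ Subgroup.center G := Subgroup.mem_center_iff.2 fun g => by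
    have := hcomm g
    rw [hN1, Subgroup.mem_bot, ← commutatorElement_def, commutatorElement_eq_one_iff_commute] at this
    exact this.symm
  rcases Subgroup.Normal.eq_bot_or_eq_top (H := Subgroup.center G) inferInstance with e | e
  · rw [e, Subgroup.mem_bot] at hzc
    rw [hzc, orderOf_one] at hz
    omega
  · apply hns
    exact isSolvable_of_comm (G := G) fun a b => Subgroup.mem_center_iff.1 (e ▸ Subgroup.mem_top b) a

/-- The number of elements of a given order. -/
noncomputable def orderCount (G : Type*) [Group G] (i : ℕ) : ℕ := Nat.card {g : G // orderOf g = i}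

theorem Spec.sum_eq [Fintype G] (h : Spec G) (F : ℕ → ℕ) :
    ∑ g : G, F (orderOf g) = F 1 + orderCount G 2 * F 2 + orderCount G 3 * F 3 + orderCount G 4 * F 4
      + orderCount G 5 * F 5 := by
  classical
  have hm : ∀ g ∈ (Finset.univ : Finset G), orderOf g ∈ ({1, 2, 3, 4, 5} : Finset ℕ) := fun g _ => by
    rcases h.orderOf_eq g with o | o | o | o | o <;> simp [o]
  rw [← Finset.sum_fiberwise_of_maps_to hm]
  have hf : ∀ i, ∑ g ∈ (Finset.univ : Finset G).filter (fun g => orderOf g = i), F (orderOf g) =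
      orderCount G i * F i := fun i => by
    rw [Finset.sum_congr rfl (fun g hg => by rw [(Finset.mem_filter.1 hg).2]), Finset.sum_const,
      smul_eq_mul, orderCount, Nat.card_eq_fintype_card, Fintype.card_subtype]
  simp only [hf]
  have h1 : orderCount G 1 = 1 := by
    rw [orderCount, Nat.card_eq_one_iff_unique]
    exact ⟨⟨fun a b => Subtype.ext ((orderOf_eq_one_iff.1 a.2).trans (orderOf_eq_one_iff.1 b.2).symm)⟩,
      ⟨⟨1, orderOf_one⟩⟩⟩
  simp [h1]
  ring

theorem Spec.card_eq_sum (h : Spec G) :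
    Nat.card G = 1 + (orderCount G 2 + orderCount G 4) + orderCount G 3 + orderCount G 5 := by
  haveI := Fintype.ofFinite G
  have := h.sum_eq fun _ => 1
  simp only [Finset.sum_const, Finset.card_univ, smul_eq_mul, mul_one] at this
  rw [Nat.card_eq_fintype_card]
  omega

theorem Spec.card_eq_prod (h : Spec G) : Nat.card G = 2 ^ (Nat.card G).factorization 2 *
    3 ^ (Nat.card G).factorization 3 * 5 ^ (Nat.card G).factorization 5 := by
  conv_lhs => rw [← Nat.prod_factorization_pow_eq_self (Nat.card_pos (α := G)).ne']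
  rw [Finsupp.prod_of_support_subset _ (s := ({2, 3, 5} : Finset ℕ)) ?_ _ (fun i _ => pow_zero i)]
  · rw [Finset.prod_insert (by decide), Finset.prod_insert (by decide), Finset.prod_singleton,
      mul_assoc]
  · intro p hp
    rw [Nat.support_factorization, Nat.mem_primeFactors] at hp
    rcases h.prime_le hp.1 hp.2.1 with e | e | e <;> simp [e]

end CfsgLib.SmallSpectrum
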