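import Cfsg.Agent.Lib.SmallSpectrum.Package

/-!
# The normaliser of a maximal intersection of Sylow 2-subgroups
-/

set_option autoImplicit false
set_option linter.unusedSectionVars false
set_option linter.style.haveILetI false

namespace CfsgLib.SmallSpectrum

open Cfsg

universe u

variable {G : Type u} [Group G] [Finite G]

/-- Three distinct conjugates exhaust a group of order four. -/
theorem Spec.isConj_of_card_four (h : Spec G) {V : Subgroup G} (hV : Nat.card V = 4) {r : G}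
    (hr : orderOf r = 3) (hrV : r ∈ Subgroup.normalizer (V : Set G)) {x y : G} (hx : x ∈ V)
    (hy : y ∈ V) (hx1 : x ≠ 1) (hy1 : y ≠ 1) : IsConj x y := by
  classical
  haveI := Fact.mk Nat.prime_two
  have hVp : IsPGroup 2 V := IsPGroup.of_card (n := 2) (by rw [hV]; rfl)
  have hr1 : r ≠ 1 := fun e => by rw [e, orderOf_one] at hr; omega
  have hfix : ∀ v ∈ V, r * v * r⁻¹ = v → v = 1 := fun v hv e =>
    h.eq_one_of_pGroup hVp hv (mul_inv_eq_iff_eq_mul.1 e) (by omega) hr1
  by_contra hnc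
  have h1 := conj_mem_of_mem_normalizer hrV hx
  have h2 := conj_mem_of_mem_normalizer hrV h1
  set x1 := r * x * r⁻¹ with hx1'
  set x2 := r * x1 * r⁻¹ with hx2'
  have c1 : IsConj x x1 := isConj_iff.2 ⟨r, rfl⟩
  have c2 : IsConj x x2 := c1.trans (isConj_iff.2 ⟨r, rfl⟩)
  have hr3 : r * r * r = 1 := by rw [← pow_three', ← hr, pow_orderOf_eq_one]
  have hr3x : r * x2 * r⁻¹ = x := by
    calc r * x2 * r⁻¹ = (r * r * r) * x * (r * r * r)⁻¹ := by rw [hx2', hx1']; group
      _ = x := by rw [hr3, one_mul, inv_one, mul_one]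
  have n01 : x ≠ x1 := fun e => hx1 (hfix x hx e.symm)
  have n12 : x1 ≠ x2 := fun e => n01 (by
    have := hfix x1 h1 e.symm
    rw [this] at hx2'
    rw [this]
    exact absurd (by simpa [hx1', conj_eq_one_iff] using this) hx1)
  have n02 : x ≠ x2 := fun e => by
    rw [← e] at hr3x
    exact hx1 (hfix x hx hr3x)
  have ny0 : y ≠ x := fun e => hnc (e ▸ IsConj.refl x)
  have ny1 : y ≠ x1 := fun e => hnc (e ▸ c1)
  have ny2 : y ≠ x2 := fun e => hnc (e ▸ c2)
  have n10 : x1 ≠ 1 := fun e => hx1 (by simpa [hx1', conj_eq_one_iff] using e)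
  have n20 : x2 ≠ 1 := fun e => n10 (by simpa [hx2', conj_eq_one_iff] using e)
  haveI := Fintype.ofFinite V
  have hsub : ({⟨1, V.one_mem⟩, ⟨x, hx⟩, ⟨x1, h1⟩, ⟨x2, h2⟩, ⟨y, hy⟩} : Finset V) ⊆ Finset.univ :=
    Finset.subset_univ _
  have hle := Finset.card_le_card hsub
  rw [Finset.card_univ, ← Nat.card_eq_fintype_card, hV, Finset.card_insert_of_notMem,
    Finset.card_insert_of_notMem, Finset.card_insert_of_notMem, Finset.card_insert_of_notMem,
    Finset.card_singleton] at hle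
  · omega
  all_goals simp [Subtype.ext_iff, hx1.symm, n01, n02, n12, n10.symm, n20.symm, hy1.symm, ny0.symm,
    ny1.symm, ny2.symm]

/-- A dihedral group acting freely splits an elementary abelian group in two halves. -/
theorem Spec.card_eq_sq (h : Spec G) {D : Subgroup G} (h2 : ∀ x ∈ D, x ^ 2 = 1) {r t : G} {q : ℕ}
    (hq : q = 3 ∨ q = 5) (hr : orderOf r = q) (htt : t * t = 1) (htr : t * r * t⁻¹ = r⁻¹)
    (hrD : r ∈ Subgroup.normalizer (D : Set G)) (htD : t ∈ Subgroup.normalizer (D : Set G)) :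
    Nat.card D = Nat.card (D ⊓ Subgroup.centralizer ({t} : Set G) : Subgroup G) *
      Nat.card (D ⊓ Subgroup.centralizer ({t} : Set G) : Subgroup G) := by
  haveI := Fact.mk Nat.prime_two
  set F := D ⊓ Subgroup.centralizer ({t} : Set G) with hF
  have hti : t⁻¹ = t := inv_eq_of_mul_eq_one_left htt
  have hmemF : ∀ {x : G}, x ∈ F ↔ x ∈ D ∧ Commute t x := fun {x} =>
    ⟨fun hx => ⟨hx.1, (Subgroup.mem_centralizer_singleton_iff.1 hx.2).symm⟩,
      fun hx => ⟨hx.1, Subgroup.mem_centralizer_singleton_iff.2 hx.2.symm⟩⟩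
  have hcomm : ∀ {x y : G}, x ∈ D → y ∈ D → Commute x y := fun hx hy =>
    commute_of_sq_eq_one h2 hx hy
  have hinv : ∀ {x : G}, x ∈ D → x⁻¹ = x := fun {x} hx =>
    inv_eq_of_mul_eq_one_left (by rw [← sq, h2 x hx])
  have hmem : ∀ d ∈ D, t * d * t⁻¹ ∈ D := fun d hd => conj_mem_of_mem_normalizer htD hd
  let a : D →* D :=
    { toFun := fun d => ⟨d * (t * d * t⁻¹), D.mul_mem d.2 (hmem d d.2)⟩
      map_one' := Subtype.ext (by simp)
      map_mul' := fun x y => Subtype.ext (by
        change (x : G) * y * (t * ((x : G) * y) * t⁻¹) =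
          (x : G) * (t * x * t⁻¹) * ((y : G) * (t * y * t⁻¹))
        have hc := (hcomm y.2 (hmem x x.2)).eq
        calc (x : G) * y * (t * ((x : G) * y) * t⁻¹)
            = (x : G) * ((y : G) * (t * x * t⁻¹)) * (t * y * t⁻¹) := by group
          _ = (x : G) * (t * x * t⁻¹) * ((y : G) * (t * y * t⁻¹)) := by rw [hc]; group) }
  have hker : a.ker ≤ F.subgroupOf D := by
    intro x hx
    rw [MonoidHom.mem_ker, Subtype.ext_iff] at hx
    have e : (x : G) * (t * x * t⁻¹) = 1 := hx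
    rw [Subgroup.mem_subgroupOf]
    exact hmemF.2 ⟨x.2, mul_inv_eq_iff_eq_mul.1 (by rw [eq_inv_of_mul_eq_one_right e, hinv x.2])⟩
  have hran : a.range ≤ F.subgroupOf D := by
    rintro _ ⟨x, rfl⟩
    rw [Subgroup.mem_subgroupOf]
    refine hmemF.2 ⟨(a x).2, mul_inv_eq_iff_eq_mul.1 ?_⟩
    change t * ((x : G) * (t * x * t⁻¹)) * t⁻¹ = (x : G) * (t * x * t⁻¹)
    have hc := (hcomm x.2 (hmem x x.2)).eq
    rw [hti] at hc ⊢
    calc t * ((x : G) * (t * x * t)) * t = (t * x * t) * x * (t * t) := by group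
      _ = (x : G) * (t * x * t) := by rw [htt, mul_one, hc]
  have hFD : Nat.card (F.subgroupOf D) = Nat.card F :=
    Nat.card_congr (Subgroup.subgroupOfEquivOfLe inf_le_left).toEquiv
  refine le_antisymm ?_ ?_
  · have h1 := Subgroup.card_mul_index a.ker
    rw [Subgroup.index_ker] at h1
    rw [← h1]
    exact Nat.mul_le_mul (hFD ▸ Subgroup.card_le_of_le hker) (hFD ▸ Subgroup.card_le_of_le hran)
  · rw [← Nat.card_prod]
    refine Nat.card_le_card_of_injective (fun p => (⟨(p.1 : G) * (r * p.2 * r⁻¹),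
      D.mul_mem p.1.2.1 (conj_mem_of_mem_normalizer hrD p.2.2.1)⟩ : D)) ?_
    rintro ⟨x, y⟩ ⟨x', y'⟩ e
    have e' : (x : G) * (r * y * r⁻¹) = x' * (r * y' * r⁻¹) := congrArg Subtype.val e
    set g := (y' : G) * (y : G)⁻¹ with hg
    have hgF : g ∈ F := F.mul_mem y'.2 (F.inv_mem y.2)
    have hf : (x' : G)⁻¹ * x = r * g * r⁻¹ := by
      calc (x' : G)⁻¹ * x = (x' : G)⁻¹ * ((x : G) * (r * y * r⁻¹)) * (r * (y : G)⁻¹ * r⁻¹) := by group
        _ = r * g * r⁻¹ := by rw [e', hg]; group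
    have hfF : r * g * r⁻¹ ∈ F := hf ▸ F.mul_mem (F.inv_mem x'.2) x.2
    have hg1 : g = 1 := by
      have e1 : t * (r * g * r⁻¹) * t⁻¹ = r * g * r⁻¹ :=
        mul_inv_eq_iff_eq_mul.2 (hmemF.1 hfF).2.eq
      have e2 : t * g * t⁻¹ = g := mul_inv_eq_iff_eq_mul.2 (hmemF.1 hgF).2.eq
      have e3 : r⁻¹ * g * r = r * g * r⁻¹ := by
        rw [← e1]
        calc r⁻¹ * g * r = (t * r * t⁻¹) * (t * g * t⁻¹) * (t * r * t⁻¹)⁻¹ := by rw [htr, e2, inv_inv]
          _ = t * (r * g * r⁻¹) * t⁻¹ := by group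
      have hc : Commute (r * r) g := by
        change r * r * g = g * (r * r)
        calc r * r * g = r * (r * g * r⁻¹) * r := by group
          _ = r * (r⁻¹ * g * r) * r := by rw [e3]
          _ = g * (r * r) := by group
      have ho : orderOf (r * r) = q := by
        rw [← sq, Nat.Coprime.orderOf_pow, hr]
        rw [hr]
        rcases hq with rfl | rfl <;> decide
      have hD2 : IsPGroup 2 D := fun x => ⟨1, Subtype.ext (h2 x x.2)⟩
      exact h.eq_one_of_pGroup hD2 hgF.1 hc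
        (by rw [ho]; rcases hq with rfl | rfl <;> norm_num)
        (fun e => by rw [e, orderOf_one] at ho; omega)
    have hy : y' = y := Subtype.ext (mul_inv_eq_one.1 hg1)
    subst hy
    rw [Prod.mk.injEq]
    exact ⟨Subtype.ext (mul_right_cancel e'), rfl⟩

/-- Every element of the coset of an element of odd prime order modulo a normal 2-subgroup is
conjugate to it. -/
theorem Spec.exists_conj_eq (h : Spec G) {R : Subgroup G} [R.Normal] (hR : IsPGroup 2 R) {r y : G}
    {q : ℕ} (hq : q = 3 ∨ q = 5) (hr : orderOf r = q) (hy : y * r⁻¹ ∈ R) :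
    ∃ u ∈ R, u * r * u⁻¹ = y := by
  haveI := Fact.mk Nat.prime_two
  have hq2 : ¬ 2 ∣ orderOf r := by rw [hr]; rcases hq with rfl | rfl <;> omega
  have hr1 : r ≠ 1 := fun e => by rw [e, orderOf_one] at hr; omega
  let φ : R → R := fun u => ⟨u * (r * (u : G)⁻¹ * r⁻¹),
    R.mul_mem u.2 (Subgroup.Normal.conj_mem inferInstance _ (R.inv_mem u.2) r)⟩
  have hinj : Function.Injective φ := by
    intro a b hab
    have e : (a : G) * (r * (a : G)⁻¹ * r⁻¹) = b * (r * (b : G)⁻¹ * r⁻¹) := congrArg Subtype.val hab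
    have hc : Commute r ((b : G)⁻¹ * a) := by
      change r * ((b : G)⁻¹ * a) = (b : G)⁻¹ * a * r
      calc r * ((b : G)⁻¹ * a) = (b : G)⁻¹ * ((b : G) * (r * (b : G)⁻¹ * r⁻¹)) * r * a := by group
        _ = (b : G)⁻¹ * a * r := by rw [← e]; group
    exact Subtype.ext (inv_mul_eq_one.1 (h.eq_one_of_pGroup hR (R.mul_mem (R.inv_mem b.2) a.2) hc hq2 hr1)).symm
  obtain ⟨u, hu⟩ := (Finite.injective_iff_surjective.1 hinj) ⟨_, hy⟩
  have hu' : (u : G) * (r * (u : G)⁻¹ * r⁻¹) = y * r⁻¹ := congrArg Subtype.val hu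
  refine ⟨u, u.2, mul_right_cancel (b := r⁻¹) ?_⟩
  rw [← hu']
  group

/-- Elements of odd prime order lift through normal 2-subgroups. -/
theorem Spec.exists_lift (h : Spec G) {R : Subgroup G} [R.Normal] {x : G ⧸ R} {q : ℕ}
    (hq : q = 3 ∨ q = 5) (hx : orderOf x = q) :
    ∃ g : G, (g : G ⧸ R) = x ∧ orderOf g = q := by
  obtain ⟨g, rfl⟩ := QuotientGroup.mk'_surjective R x
  refine ⟨g, rfl, ?_⟩
  obtain ⟨k, hk⟩ := hx ▸ orderOf_map_dvd (QuotientGroup.mk' R) g
  have := h g
  have := orderOf_pos g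
  rcases hq with rfl | rfl <;> omega

/-- The dihedral part of the local subgroup. -/
theorem Spec.dihedral_of_solvable (h : Spec G) {D : Subgroup G} [D.Normal] (hD : IsPGroup 2 D)
    (hD1 : D ≠ ⊥) [Group.IsSolvable (G ⧸ D)] (h0 : pCore 2 (G ⧸ D) = ⊥) (h2 : 2 ∣ Nat.card (G ⧸ D)) :
    ∃ (p : ℕ) (r t : G), (p = 3 ∨ p = 5) ∧ orderOf r = p ∧ t * t = 1 ∧ t * r * t⁻¹ = r⁻¹ ∧
      Nat.card G = Nat.card D * (2 * p) ∧ ∀ x ∈ D, x ^ 2 = 1 := by
  haveI := Fact.mk Nat.prime_two
  have hX := h.quotient D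
  haveI : Nontrivial (G ⧸ D) := Finite.one_lt_card_iff_nontrivial.1
    (Nat.lt_of_lt_of_le one_lt_two (Nat.le_of_dvd Nat.card_pos h2))
  obtain ⟨p, hp, A, hAn, -, hAp, hA1, -⟩ :=
    BGTypes.exists_normal_abelian_pGroup_le (G := G ⧸ D) (H := ⊤) top_ne_bot
  haveI := hp
  have hp2 : p ≠ 2 := by
    rintro rfl
    exact hA1 (le_bot_iff.1 (h0 ▸ Cores.le_pCore hAp))
  set W := pCore p (G ⧸ D) with hWdef
  have hW1 : W ≠ ⊥ := fun e => hA1 (le_bot_iff.1 (e ▸ Cores.le_pCore hAp))
  have hWp : IsPGroup p W := Cores.isPGroup_pCore p _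
  have hpd : p ∣ Nat.card W := by
    haveI := (Subgroup.nontrivial_iff_ne_bot _).2 hW1
    obtain ⟨k, hk, hcard⟩ := hWp.nontrivial_iff_card.1 inferInstance
    exact hcard ▸ dvd_pow_self p hk.ne'
  have hq : p = 3 ∨ p = 5 := by
    rcases hX.prime_le hp.out (hpd.trans (Subgroup.card_subgroup_dvd_card W)) with e | e | e
    · exact absurd e hp2
    · exact Or.inl e
    · exact Or.inr e
  have hnormD : ∀ g : G, g ∈ Subgroup.normalizer (D : Set G) := fun g => by
    rw [Subgroup.normalizer_eq_top]; exact Subgroup.mem_top g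
  have hnormW : ∀ g : G ⧸ D, g ∈ Subgroup.normalizer (W : Set (G ⧸ D)) := fun g => by
    rw [Subgroup.normalizer_eq_top]; exact Subgroup.mem_top g
  have hWcard : Nat.card W = p := by
    obtain ⟨m, hm⟩ := (IsPGroup.iff_card).1 hWp
    have hdvd : p ^ m ∣ Nat.card G :=
      (hm ▸ Subgroup.card_subgroup_dvd_card W).trans (Subgroup.card_quotient_dvd_card D)
    obtain ⟨R, hR⟩ := Sylow.exists_subgroup_card_pow_prime (G := G) p hdvd
    have := h.card_dvd_of_fpf (p := 2) hp2 (IsPGroup.of_card hR) hD hD1 (fun g _ => hnormD g)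
    rw [hR, if_neg hp2, ← hm] at this
    exact Nat.dvd_antisymm this hpd
  haveI : IsCyclic W := isCyclic_of_prime_card hWcard
  obtain ⟨r', hr'⟩ := exists_prime_orderOf_dvd_card' (G := W) p hpd
  have hr'o : orderOf (r' : G ⧸ D) = p := by rw [Subgroup.orderOf_coe, hr']
  obtain ⟨r, hr, hro⟩ := h.exists_lift hq hr'o
  set f : G ⧸ D →* MulAut W := MulAut.conjNormal with hf
  have hker : f.ker = W := by
    refine le_antisymm (fun x hx => ?_) (fun x hx => ?_)
    · have hc : Commute x (r' : G ⧸ D) := by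
        have := congrArg Subtype.val (DFunLike.congr_fun (MonoidHom.mem_ker.1 hx) r')
        exact mul_inv_eq_iff_eq_mul.1 this
      exact hX.le_pCore_of_isPGroup hp2 hW1 (hX.isPGroup_centralizer hr'o)
        (Subgroup.mem_centralizer_singleton_iff.2 hc.eq)
    · refine MonoidHom.mem_ker.2 (MulEquiv.ext fun w => Subtype.ext ?_)
      have hc : Commute x (w : G ⧸ D) := by
        obtain ⟨z, hz⟩ := IsCyclic.exists_generator (α := W)
        obtain ⟨i, hi⟩ := hz w
        obtain ⟨j, hj⟩ := hz ⟨x, hx⟩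
        have h1 : (z : G ⧸ D) ^ i = (w : G ⧸ D) := congrArg Subtype.val hi
        have h2 : (z : G ⧸ D) ^ j = x := congrArg Subtype.val hj
        rw [← h1, ← h2]
        exact ((Commute.refl _).zpow_right i).zpow_left j
      exact mul_inv_eq_iff_eq_mul.2 hc.eq
  have hcardX : Nat.card (G ⧸ D) = p * Nat.card f.range := by
    rw [← Subgroup.card_mul_index f.ker, Subgroup.index_ker, hker, hWcard]
  have hrange : Nat.card f.range ∣ p - 1 := by
    refine (Subgroup.card_subgroup_dvd_card _).trans ?_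
    rw [IsCyclic.card_mulAut, hWcard, Nat.totient_prime hp.out]
  have heven : 2 ∣ Nat.card f.range := by
    rw [hcardX] at h2
    refine ((Nat.prime_two.coprime_iff_not_dvd).2 fun e => ?_).dvd_of_dvd_mul_left h2
    exact hp2 ((Nat.prime_dvd_prime_iff_eq Nat.prime_two hp.out).1 e).symm
  have hcard : Nat.card f.range = 2 ∨ (Nat.card f.range = 4 ∧ p = 5) := by
    have h3 : 2 ≤ p := hp.out.two_le
    have hle := Nat.le_of_dvd (show 0 < p - 1 by omega) hrange
    have hge := Nat.le_of_dvd Nat.card_pos heven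
    rcases hq with rfl | rfl
    · exact Or.inl (le_antisymm hle hge)
    · rcases (Nat.dvd_prime_pow Nat.prime_two (m := 2)).1 hrange with ⟨i, hi, e⟩
      interval_cases i <;> simp_all
  have hinv : ∀ (u : G), orderOf (u : G ⧸ D) = 2 →
      ∃ t : G, t * t = 1 ∧ t * r * t⁻¹ = r⁻¹ := by
    intro u hu
    have hi := hX.inverts hp2 hWp hu (hnormW _) r'.2
    have hmem : u * r * u⁻¹ * r ∈ D := by
      rw [← QuotientGroup.eq_one_iff]
      simp only [QuotientGroup.mk_mul, QuotientGroup.mk_inv, hr]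
      rw [hi, inv_mul_cancel]
    obtain ⟨t, ht, htr, -⟩ := h.exists_inverting hD hq hro hmem
    exact ⟨t, ht, htr⟩
  obtain ⟨u', hu'⟩ := exists_prime_orderOf_dvd_card' (G := G ⧸ D) 2 h2
  obtain ⟨u, rfl⟩ := QuotientGroup.mk'_surjective D u'
  obtain ⟨t, htt, htr⟩ := hinv u hu'
  have hsq : ∀ x ∈ D, x ^ 2 = 1 := fun x hx =>
    h.sq_eq_one hD hq hro htt htr (hnormD r) (hnormD t) hx
  rcases hcard with hc | ⟨hc, rfl⟩
  · refine ⟨p, r, t, hq, hro, htt, htr, ?_, hsq⟩
    rw [Subgroup.card_eq_card_quotient_mul_card_subgroup D, hcardX, hc]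
    ring
  · exfalso
    apply hD1
    -- an element inducing squaring on `W`
    have hcop : (Nat.card W).Coprime 2 := by rw [hWcard]; decide
    haveI : IsMulCommutative W := IsCyclic.isMulCommutative
    let σ : MulAut W :=
      { powCoprime hcop with
        map_mul' := fun a b => Commute.mul_pow (mul_comm' a b) 2 }
    have htop : f.range = ⊤ := Subgroup.eq_top_of_card_eq _ (by
      rw [hc, IsCyclic.card_mulAut, hWcard, Nat.totient_prime Fact.out])
    obtain ⟨g', hg'⟩ : σ ∈ f.range := htop ▸ Subgroup.mem_top σ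
    obtain ⟨g, rfl⟩ := QuotientGroup.mk'_surjective D g'
    have hg2 : (g : G ⧸ D) * (r : G ⧸ D) * (g : G ⧸ D)⁻¹ = (r : G ⧸ D) ^ 2 := by
      rw [hr]
      exact congrArg Subtype.val (DFunLike.congr_fun hg' r')
    have hmem : g * r * g⁻¹ * (r ^ 2)⁻¹ ∈ D := by
      rw [← QuotientGroup.eq_one_iff]
      simp only [QuotientGroup.mk_mul, QuotientGroup.mk_inv, QuotientGroup.mk_pow]
      rw [hg2, mul_inv_cancel]
    have hr2o : orderOf (r ^ 2) = 5 := by
      rw [Nat.Coprime.orderOf_pow, hro]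
      rw [hro]
      decide
    obtain ⟨v, hvD, hv⟩ := h.exists_conj_eq hD (Or.inr rfl) hr2o hmem
    set c := v⁻¹ * g with hcdef
    have hcr : c * r * c⁻¹ = r ^ 2 := by
      calc c * r * c⁻¹ = v⁻¹ * (g * r * g⁻¹) * v := by rw [hcdef]; group
        _ = r ^ 2 := by rw [← hv]; group
    have hr5 : r ^ 5 = 1 := by rw [← hro, pow_orderOf_eq_one]
    have hpow : ∀ n : ℕ, c ^ n * r * (c ^ n)⁻¹ = r ^ (2 ^ n) := fun n => by
      induction n with
      | zero => simp
      | succ n ih =>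
        calc c ^ (n + 1) * r * (c ^ (n + 1))⁻¹ = c * (c ^ n * r * (c ^ n)⁻¹) * c⁻¹ := by
              rw [pow_succ']; group
          _ = (c * r * c⁻¹) ^ (2 ^ n) := by rw [ih, conj_pow]
          _ = r ^ (2 ^ (n + 1)) := by rw [hcr, ← pow_mul, ← pow_succ']
    have hc4 : c ^ 4 = 1 := by
      have hno : ∀ n : ℕ, c ^ n = 1 → r ^ (2 ^ n) = r := fun n e => by
        rw [← hpow, e, one_mul, inv_one, mul_one]
      have hr1 : r ≠ 1 := fun e => by rw [e, orderOf_one] at hro; omega
      have hpw := pow_orderOf_eq_one c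
      rcases h.orderOf_eq c with o | o | o | o | o <;> rw [o] at hpw
      · rw [orderOf_eq_one_iff.1 o, one_pow]
      · rw [show 4 = 2 * 2 from rfl, pow_mul, hpw, one_pow]
      · exfalso
        have h8 := hno 3 hpw
        rw [show (2 : ℕ) ^ 3 = 5 + 3 from rfl, pow_add, hr5, one_mul] at h8
        have h2 : r ^ 2 = 1 := mul_right_cancel (b := r) (by rw [← pow_succ, one_mul]; exact h8)
        have := orderOf_dvd_of_pow_eq_one h2
        rw [hro] at this
        norm_num at this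
      · exact hpw
      · exfalso
        have h32 := hno 5 hpw
        rw [show (2 : ℕ) ^ 5 = 5 * 6 + 2 from rfl, pow_add, pow_mul, hr5, one_pow, one_mul, sq] at h32
        exact hr1 (mul_eq_left.1 h32)
    exact h.eq_bot_of_frobenius_twenty hD hsq hro hc4 hcr (hnormD c) (hnormD r)

/-- The data in the dihedral case. -/
theorem Spec.interData_of_dihedral (h : Spec G) {D : Subgroup G} (hD1 : D ≠ ⊥)
    (hDsq : ∀ x ∈ D, x ^ 2 = 1) {p : ℕ} (hp : p = 3 ∨ p = 5) {r t : G} (hr : orderOf r = p)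
    (htt : t * t = 1) (htr : t * r * t⁻¹ = r⁻¹) (hrD : r ∈ Subgroup.normalizer (D : Set G))
    (htD : t ∈ Subgroup.normalizer (D : Set G))
    (hcard : Nat.card (Subgroup.normalizer (D : Set G)) = Nat.card D * (2 * p)) :
    ∃ I : InterData G, Nat.card I.F = I.k →
      ∃ r s : G, orderOf r = 3 ∧ orderOf s = 2 ∧ s * r * s⁻¹ = r⁻¹ := by
  haveI := Fact.mk Nat.prime_two
  have hcomm : ∀ {x y : G}, x ∈ D → y ∈ D → Commute x y := fun hx hy =>
    commute_of_sq_eq_one hDsq hx hy
  have hDp : IsPGroup 2 D := fun x => ⟨1, Subtype.ext (hDsq x x.2)⟩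
  set F := D ⊓ Subgroup.centralizer ({t} : Set G) with hF
  have hmemF : ∀ {x : G}, x ∈ F ↔ x ∈ D ∧ Commute t x := fun {x} =>
    ⟨fun hx => ⟨hx.1, (Subgroup.mem_centralizer_singleton_iff.1 hx.2).symm⟩,
      fun hx => ⟨hx.1, Subgroup.mem_centralizer_singleton_iff.2 hx.2.symm⟩⟩
  have hcardD := h.card_eq_sq hDsq hp hr htt htr hrD htD
  have ht1 : t ≠ 1 := fun e => by
    rw [e, one_mul, inv_one, mul_one] at htr
    have h2 : r ^ 2 = 1 := by rw [sq]; nth_rewrite 1 [htr]; exact inv_mul_cancel r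
    have := orderOf_dvd_of_pow_eq_one h2
    rw [hr] at this
    rcases hp with rfl | rfl <;> norm_num at this
  have hto : orderOf t = 2 := orderOf_eq_two_of_sq htt ht1
  have htnD : t ∉ D := fun ht => by
    have h1 : t * (r * t⁻¹ * r⁻¹) ∈ D := D.mul_mem ht (conj_mem_of_mem_normalizer hrD (D.inv_mem ht))
    have h2 : (r⁻¹) ^ 2 = 1 := by
      refine eq_one_of_mem_two_group hDp (q := p) (by rcases hp with rfl | rfl <;> decide) ?_ ?_
      · rw [sq]
        nth_rewrite 1 [← htr]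
        simpa [mul_assoc] using h1
      · rw [← pow_mul, mul_comm, pow_mul, inv_pow, ← hr, pow_orderOf_eq_one, inv_one, one_pow]
    rw [inv_pow, inv_eq_one] at h2
    have := orderOf_dvd_of_pow_eq_one h2
    rw [hr] at this
    rcases hp with rfl | rfl <;> norm_num at this
  have hK : IsPGroup 2 (Subgroup.zpowers t ⊔ D : Subgroup G) :=
    (IsPGroup.of_card (n := 1) (by rw [Nat.card_zpowers, hto, pow_one])).to_sup_of_normal_right' hDp
      (Subgroup.zpowers_le.2 htD)
  obtain ⟨S, hS⟩ := hK.exists_le_sylow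
  have hDS : D ≤ (S : Subgroup G) := le_sup_right.trans hS
  have htS : t ∈ S := hS (Subgroup.mem_sup_left (Subgroup.mem_zpowers t))
  set T := (S : Subgroup G) ⊓ Subgroup.normalizer (D : Set G) with hT
  have hDT : D ≤ T := le_inf hDS Subgroup.le_normalizer
  have hcardT : Nat.card T = 2 * Nat.card D := by
    have hd : Nat.card T ∣ Nat.card D * 2 * p := by
      rw [mul_assoc, ← hcard]
      exact Subgroup.card_dvd_of_le inf_le_right
    obtain ⟨i, hi⟩ := (IsPGroup.iff_card).1 (S.isPGroup'.to_le (inf_le_left : T ≤ (S : Subgroup G)))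
    have hcop : (Nat.card T).Coprime p := by
      rw [hi]
      refine Nat.Coprime.pow_left i ?_
      rcases hp with rfl | rfl <;> decide
    have hd2 := hcop.dvd_of_dvd_mul_right hd
    obtain ⟨c, hc⟩ := Subgroup.card_dvd_of_le hDT
    have hlt : Nat.card D < Nat.card T := lt_of_le_of_ne (Subgroup.card_le_of_le hDT) fun e =>
      htnD ((Subgroup.eq_of_le_of_card_ge hDT e.ge).symm ▸ ⟨htS, htD⟩)
    have hle := Nat.le_of_dvd (Nat.mul_pos Nat.card_pos two_pos) hd2
    rw [hc] at hlt hle ⊢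
    have hpos := Nat.card_pos (α := D)
    have h1 : 1 < c := by nlinarith
    have h2 : c ≤ 2 := by nlinarith
    rw [show c = 2 by omega, mul_comm]
  have hout : ∀ x ∈ T, x ∉ D → t * x ∈ D := fun x hx hxD => by
    have hi : (D.subgroupOf T).index = 2 := by
      have := Subgroup.card_mul_index (D.subgroupOf T)
      rw [Nat.card_congr (Subgroup.subgroupOfEquivOfLe hDT).toEquiv, hcardT, mul_comm 2] at this
      exact Nat.eq_of_mul_eq_mul_left Nat.card_pos this
    exact (Subgroup.mul_mem_iff_of_index_two hi (a := (⟨t, htS, htD⟩ : T)) (b := ⟨x, hx⟩)).2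
      (iff_of_false htnD hxD)
  have hFne : F ≠ ⊥ := fun e => by
    have := hcardD
    rw [← hF, e, Subgroup.card_bot, one_mul] at this
    exact hD1 (Subgroup.eq_bot_of_card_le _ this.le)
  have hF2 : 2 ≤ Nat.card F :=
    Finite.one_lt_card_iff_nontrivial.2 ((Subgroup.nontrivial_iff_ne_bot _).2 hFne)
  refine ⟨{ D := D, S := S, F := F, k := 2, s := t, sq := hDsq, D_le := hDS, F_le := inf_le_left,
            F_ne := hFne, F_central := ?_, card_D := hcardD, card_T := hcardT, k_le := hF2,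
            k_mem := Or.inl rfl, cent := ?_, s_mem := htS, s_norm := htD, s_not := htnD, s_sq := htt,
            cosets := ?_, conj_D := ?_ }, ?_⟩
  · intro f hf x hxS hxN
    by_cases hxD : x ∈ D
    · exact hcomm (hmemF.1 hf).1 hxD
    · have h2 := ((hmemF.1 hf).2.symm.mul_right (hcomm (hmemF.1 hf).1 (hout x ⟨hxS, hxN⟩ hxD)))
      rwa [← mul_assoc, htt, one_mul] at h2
  · intro x hxS hxN hxD d hd hc
    refine hmemF.2 ⟨hd, ?_⟩
    have h2 := (hc.mul_left (hcomm (D.inv_mem (hout x ⟨hxS, hxN⟩ hxD)) hd))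
    rwa [mul_inv_rev, ← mul_assoc, mul_inv_cancel, one_mul, inv_eq_of_mul_eq_one_left htt] at h2
  · intro x hxS hxN hxD
    refine ⟨1, one_mem _, ?_⟩
    rw [one_mul, inv_one, mul_one, inv_eq_of_mul_eq_one_left htt]
    exact hout x ⟨hxS, hxN⟩ hxD
  all_goals intro hFk
  all_goals
    have hD4 : Nat.card D = 4 := by
      have hFk' : Nat.card F = 2 := hFk
      have h' : Nat.card D = Nat.card F * Nat.card F := hcardD
      rw [h', hFk']
    have hp3 : p = 3 := by
      haveI := Fact.mk Nat.prime_three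
      haveI := Fact.mk Nat.prime_five
      rcases hp with rfl | rfl
      · rfl
      · exfalso
        have := card_modEq_one_of_fpf hr hrD fun v hv hc => h.eq_one_of_pGroup hDp hv hc
          (by rw [hr]; norm_num) (fun e => by rw [e, orderOf_one] at hr; omega)
        rw [hD4] at this
        exact absurd this (by decide)
    subst hp3
  · exact fun x hx y hy hx1 hy1 => h.isConj_of_card_four hD4 hr hrD hx hy hx1 hy1
  · exact ⟨r, t, hr, hto, htr⟩

end CfsgLib.SmallSpectrum
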