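import Cfsg.Agent.Lib.SmallSpectrum.Local

/-!
# The local subgroup with quotient `A5`
-/

set_option autoImplicit false
set_option linter.unusedSectionVars false
set_option linter.style.haveILetI false

namespace CfsgLib.SmallSpectrum

open Cfsg Equiv

universe u

/-- The elements of `A5` used in the local argument. -/
structure FiveData (M : Type*) [Group M] where
  a : M
  b : M
  c : M
  g : M
  r : M
  w : Fin 5 → M
  a_two : orderOf a = 2
  g_three : orderOf g = 3
  r_three : orderOf r = 3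
  hab : a * b = c
  hba : b * a = c
  hga : g⁻¹ * a * g = b
  hgb : g⁻¹ * b * g = c
  hgc : g⁻¹ * c * g = a
  hinv : a * r * a⁻¹ = r⁻¹
  sep : ∀ i j, i ≠ j →
    orderOf (w i * a * (w i)⁻¹ * (w j * a * (w j)⁻¹)) = 3 ∨
      orderOf (w i * a * (w i)⁻¹ * (w j * a * (w j)⁻¹)) = 5

def FiveData.map {M N : Type*} [Group M] [Group N] (e : M ≃* N) (d : FiveData M) : FiveData N where
  a := e d.a
  b := e d.b
  c := e d.c
  g := e d.g
  r := e d.r
  w := fun i => e (d.w i)
  a_two := by rw [e.orderOf_eq, d.a_two]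
  g_three := by rw [e.orderOf_eq, d.g_three]
  r_three := by rw [e.orderOf_eq, d.r_three]
  hab := by rw [← map_mul, d.hab]
  hba := by rw [← map_mul, d.hba]
  hga := by rw [← map_inv, ← map_mul, ← map_mul, d.hga]
  hgb := by rw [← map_inv, ← map_mul, ← map_mul, d.hgb]
  hgc := by rw [← map_inv, ← map_mul, ← map_mul, d.hgc]
  hinv := by rw [← map_inv, ← map_inv, ← map_mul, ← map_mul, d.hinv]
  sep := fun i j h => by
    simp only [← map_inv, ← map_mul, e.orderOf_eq]
    exact d.sep i j h

private theorem mem_alt {x : Perm (Fin 5)} (h : Perm.sign x = 1) : x ∈ alternatingGroup (Fin 5) :=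
  Perm.mem_alternatingGroup.2 h

private def pa : alternatingGroup (Fin 5) := ⟨swap 0 1 * swap 2 3, mem_alt (by decide)⟩
private def pb : alternatingGroup (Fin 5) := ⟨swap 0 3 * swap 1 2, mem_alt (by decide)⟩
private def pc : alternatingGroup (Fin 5) := ⟨swap 0 2 * swap 1 3, mem_alt (by decide)⟩
private def pg : alternatingGroup (Fin 5) := ⟨swap 1 2 * swap 2 3, mem_alt (by decide)⟩
private def pr : alternatingGroup (Fin 5) := ⟨swap 0 1 * swap 1 4, mem_alt (by decide)⟩
private def pw : Fin 5 → alternatingGroup (Fin 5) :=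
  ![1, ⟨swap 0 1 * swap 3 4, mem_alt (by decide)⟩, ⟨swap 2 3 * swap 3 4, mem_alt (by decide)⟩,
    ⟨swap 0 2 * swap 2 3 * swap 3 4 * swap 4 1, mem_alt (by decide)⟩,
    ⟨swap 0 1 * swap 1 2 * swap 2 3 * swap 3 4, mem_alt (by decide)⟩]

theorem three_or_five {M : Type*} [Monoid M] {x : M} (h1 : x ≠ 1) (h : x ^ 3 = 1 ∨ x ^ 5 = 1) :
    orderOf x = 3 ∨ orderOf x = 5 := by
  haveI := Fact.mk Nat.prime_three
  haveI := Fact.mk Nat.prime_five
  rcases h with e | e
  · exact Or.inl (orderOf_eq_prime e h1)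
  · exact Or.inr (orderOf_eq_prime e h1)

set_option maxRecDepth 4000 in
theorem nonempty_fiveData : Nonempty (FiveData (alternatingGroup (Fin 5))) := by
  haveI := Fact.mk Nat.prime_two
  haveI := Fact.mk Nat.prime_three
  exact ⟨{ a := pa, b := pb, c := pc, g := pg, r := pr, w := pw,
           a_two := orderOf_eq_prime (by decide) (by decide),
           g_three := orderOf_eq_prime (by decide) (by decide),
           r_three := orderOf_eq_prime (by decide) (by decide),
           hab := by decide, hba := by decide, hga := by decide, hgb := by decide, hgc := by decide,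
           hinv := by decide,
           sep := fun i j h => three_or_five (by revert i j h; decide) (by revert i j h; decide) }⟩

variable {G : Type u} [Group G] [Finite G]

/-- The data in the `A5` case. -/
theorem Spec.interData_of_five (h : Spec G) {D : Subgroup G} (hDp : IsPGroup 2 D) (hD1 : D ≠ ⊥)
    (π : Subgroup.normalizer (D : Set G) →* alternatingGroup (Fin 5)) (hπ : Function.Surjective π)
    (hker : π.ker = D.subgroupOf (Subgroup.normalizer (D : Set G))) :
    ∃ I : InterData G, Nat.card I.F = I.k →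
      ∃ r s : G, orderOf r = 3 ∧ orderOf s = 2 ∧ s * r * s⁻¹ = r⁻¹ := by
  classical
  haveI := Fact.mk Nat.prime_two
  haveI := Fact.mk Nat.prime_three
  obtain ⟨d⟩ := nonempty_fiveData
  have hHs := h.subgroup (Subgroup.normalizer (D : Set G))
  set D' := D.subgroupOf (Subgroup.normalizer (D : Set G)) with hD'
  have hD'2 : IsPGroup 2 D' := hDp.of_equiv (Subgroup.subgroupOfEquivOfLe Subgroup.le_normalizer).symm
  haveI : D'.Normal := by rw [hD']; infer_instance
  have hker' : ∀ x : (Subgroup.normalizer (D : Set G)), π x = 1 ↔ (x : G) ∈ D := fun x => by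
    rw [← MonoidHom.mem_ker, hker, Subgroup.mem_subgroupOf]
  have hsame : ∀ x y : (Subgroup.normalizer (D : Set G)), π x = π y → (x : G)⁻¹ * y ∈ D := fun x y e => by
    have := (hker' (x⁻¹ * y)).1 (by rw [map_mul, map_inv, e, inv_mul_cancel])
    exact this
  have hord : ∀ (x : (Subgroup.normalizer (D : Set G))) (q : ℕ), q = 3 ∨ q = 5 → orderOf (π x) = q → orderOf (x : G) = q := by
    intro x q hq hx
    obtain ⟨k, hk⟩ := hx ▸ orderOf_map_dvd π x
    rw [← Subgroup.orderOf_coe] at hk
    have := h (x : G)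
    have := orderOf_pos (x : G)
    rcases hq with rfl | rfl <;> omega
  -- lifts
  obtain ⟨r, hr⟩ := hπ d.r
  obtain ⟨t0, ht0⟩ := hπ d.a
  obtain ⟨g, hg⟩ := hπ d.g
  have hgo : orderOf (g : G) = 3 := hord g 3 (Or.inl rfl) (hg ▸ d.g_three)
  have hro : orderOf (r : G) = 3 := hord r 3 (Or.inl rfl) (hr ▸ d.r_three)
  obtain ⟨t, htt, htr, htt0⟩ := hHs.exists_inverting hD'2 (g := t0) (Or.inl rfl)
    (r := r) (by rw [← Subgroup.orderOf_coe, hro]) (by
      rw [Subgroup.mem_subgroupOf, ← hker', map_mul, map_mul, map_mul, map_inv, ht0, hr, d.hinv,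
        inv_mul_cancel])
  have hta : π t = d.a := by
    have := (hker' (t * t0⁻¹)).2 htt0
    rwa [map_mul, map_inv, mul_inv_eq_one, ht0] at this
  have httG : (t : G) * t = 1 := congrArg Subtype.val htt
  have htrG : (t : G) * r * (t : G)⁻¹ = (r : G)⁻¹ := congrArg Subtype.val htr
  have hsq : ∀ x ∈ D, x ^ 2 = 1 := fun x hx =>
    h.sq_eq_one hDp (Or.inl rfl) hro httG htrG r.2 t.2 hx
  have hcomm : ∀ {x y : G}, x ∈ D → y ∈ D → Commute x y := fun hx hy =>
    commute_of_sq_eq_one hsq hx hy
  haveI : IsMulCommutative D := ⟨⟨fun x y => Subtype.ext (hcomm x.2 y.2)⟩⟩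
  -- the action
  let ρ : (Subgroup.normalizer (D : Set G)) → G → G := fun x v => (x : G) * v * (x : G)⁻¹
  have hρD : ∀ (x : (Subgroup.normalizer (D : Set G))) (v : G), v ∈ D → ρ x v ∈ D := fun x v hv => conj_mem_of_mem_normalizer x.2 hv
  have hρmul : ∀ (x y : (Subgroup.normalizer (D : Set G))) (v : G), ρ (x * y) v = ρ x (ρ y v) := fun x y v => by
    simp only [ρ, Subgroup.coe_mul, mul_inv_rev, mul_assoc]
  have hρeq : ∀ (x y : (Subgroup.normalizer (D : Set G))) (v : G), v ∈ D → π x = π y → ρ x v = ρ y v := fun x y v hv e => by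
    have hd := hsame x y e
    have hy : (y : G) = x * ((x : G)⁻¹ * y) := by group
    simp only [ρ]
    conv_rhs => rw [hy]
    calc (x : G) * v * (x : G)⁻¹
        = x * (((x : G)⁻¹ * y) * v * ((x : G)⁻¹ * y)⁻¹) * (x : G)⁻¹ := by
          rw [(hcomm hd hv).eq, mul_inv_cancel_right]
      _ = _ := by group
  set tb := g⁻¹ * t * g with htb
  set tc := g⁻¹ * tb * g with htc
  have htbb : π tb = d.b := by rw [htb, map_mul, map_mul, map_inv, hta, hg, d.hga]
  have htcc : π tc = d.c := by rw [htc, map_mul, map_mul, map_inv, htbb, hg, d.hgb]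
  -- the norm of the four-group vanishes
  have hN : ∀ v ∈ D, v * ρ t v * (ρ tb v * ρ tc v) = 1 := by
    intro v hv
    have hnorm : ∀ x : (Subgroup.normalizer (D : Set G)), orderOf (π x) = 3 → v * ρ x v * ρ (x * x) v = 1 := by
      intro x hx
      have := h.norm_eq_one hDp (Or.inl rfl) (hord x 3 (Or.inl rfl) hx) x.2 hv
      simp only [List.range_succ, List.range_zero, List.nil_append, List.map_append, List.map_cons,
        List.map_nil, List.prod_append, List.prod_cons, List.prod_nil, mul_one, pow_zero, one_mul,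
        inv_one, pow_one] at this
      simpa [ρ, sq, mul_assoc] using this
    have hg3 : d.g * d.g * d.g = 1 := by rw [← pow_three', ← d.g_three, pow_orderOf_eq_one]
    have hao : ∀ {x : alternatingGroup (Fin 5)}, x ∈ ({d.a, d.b, d.c} : Finset _) → orderOf x = 2 := by
      intro x hx
      simp only [Finset.mem_insert, Finset.mem_singleton] at hx
      rcases hx with rfl | rfl | rfl
      · exact d.a_two
      · rw [← d.hga, show d.g⁻¹ * d.a * d.g = MulAut.conj d.g⁻¹ d.a by simp [MulAut.conj_apply],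
          MulEquiv.orderOf_eq, d.a_two]
      · rw [← d.hgb, show d.g⁻¹ * d.b * d.g = MulAut.conj d.g⁻¹ d.b by simp [MulAut.conj_apply],
          MulEquiv.orderOf_eq, ← d.hga,
          show d.g⁻¹ * d.a * d.g = MulAut.conj d.g⁻¹ d.a by simp [MulAut.conj_apply],
          MulEquiv.orderOf_eq, d.a_two]
    have hsqv : ∀ {x y : alternatingGroup (Fin 5)}, d.g⁻¹ * x * d.g = y → ∀ z, y * x = z →
        d.g * x * (d.g * x) = d.g * d.g * z := fun {x y} h1 z h2 => by
      rw [← h2, ← h1]; group
    -- orders of `g * v`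
    have ha3 : ∀ {x y z : alternatingGroup (Fin 5)}, d.g⁻¹ * x * d.g = y → d.g⁻¹ * y * d.g = z →
        d.g⁻¹ * z * d.g = x → z * y * x = 1 → x * x = 1 → orderOf (d.g * x) = 3 := by
      intro x y z h1 h2 h3 h4 h5
      refine orderOf_eq_prime ?_ fun e => ?_
      · rw [pow_three']
        calc d.g * x * (d.g * x) * (d.g * x)
            = (d.g * d.g * d.g) * ((d.g⁻¹ * (d.g⁻¹ * x * d.g) * d.g) * (d.g⁻¹ * x * d.g) * x) := by group
          _ = 1 := by rw [hg3, h1, h2, one_mul, h4]
      · have hgx : d.g = x⁻¹ := eq_inv_of_mul_eq_one_left e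
        have := d.g_three
        rw [hgx, orderOf_inv] at this
        have h2' := orderOf_dvd_of_pow_eq_one (show x ^ 2 = 1 by rw [sq, h5])
        rw [this] at h2'
        norm_num at h2'
    have haa : d.a * d.a = 1 := mul_self_of_orderOf_two (hao (by simp))
    have hbb : d.b * d.b = 1 := mul_self_of_orderOf_two (hao (by simp))
    have hcc : d.c * d.c = 1 := mul_self_of_orderOf_two (hao (by simp))
    have hac : d.a * d.c = d.b := by rw [← d.hab, ← mul_assoc, haa, one_mul]
    have hcb : d.c * d.b = d.a := by rw [← d.hab, mul_assoc, hbb, mul_one]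
    have o1 : orderOf (d.g * d.a) = 3 :=
      ha3 d.hga d.hgb d.hgc (by rw [hcb, haa]) haa
    have o2 : orderOf (d.g * d.b) = 3 :=
      ha3 d.hgb d.hgc d.hga (by rw [hac, hbb]) hbb
    have o3 : orderOf (d.g * d.c) = 3 :=
      ha3 d.hgc d.hga d.hgb (by rw [d.hba, hcc]) hcc
    -- translate to lifts
    have s1 := hnorm g (hg ▸ d.g_three)
    have s2 := hnorm (g * t) (by rw [map_mul, hg, hta]; exact o1)
    have s3 := hnorm (g * tb) (by rw [map_mul, hg, htbb]; exact o2)
    have s4 := hnorm (g * tc) (by rw [map_mul, hg, htcc]; exact o3)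
    rw [hρmul g g] at s1
    rw [hρeq (g * t * (g * t)) (g * g * tc) v hv (by
      simp only [map_mul, hg, hta, htcc]; exact hsqv d.hga d.c d.hba), hρmul (g * g) tc, hρmul g g,
      hρmul g t] at s2
    rw [hρeq (g * tb * (g * tb)) (g * g * t) v hv (by
      simp only [map_mul, hg, hta, htbb]; exact hsqv d.hgb d.a hcb), hρmul (g * g) t, hρmul g g,
      hρmul g tb] at s3
    rw [hρeq (g * tc * (g * tc)) (g * g * tb) v hv (by
      simp only [map_mul, hg, htbb, htcc]; exact hsqv d.hgc d.b hac), hρmul (g * g) tb, hρmul g g,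
      hρmul g tc] at s4
    let φ : D →* D := ((Subgroup.normalizerMonoidHom D) g).toMonoidHom
    let V : D := ⟨v, hv⟩
    let A : D := ⟨ρ t v, hρD _ _ hv⟩
    let B : D := ⟨ρ tb v, hρD _ _ hv⟩
    let C : D := ⟨ρ tc v, hρD _ _ hv⟩
    have e1 : V * φ V * φ (φ V) = 1 := Subtype.ext s1
    have e2 : V * φ A * φ (φ C) = 1 := Subtype.ext s2
    have e3 : V * φ B * φ (φ A) = 1 := Subtype.ext s3
    have e4 : V * φ C * φ (φ B) = 1 := Subtype.ext s4
    open scoped IsMulCommutative in
      have h4 : (V * A * (B * C)) = 1 := by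
        set N := V * A * (B * C) with hNdef
        have hV2 : V * V = 1 := Subtype.ext (by
          change v * v = 1
          rw [← sq, hsq v hv])
        have hall : (V * φ V * φ (φ V)) * (V * φ A * φ (φ C)) * ((V * φ B * φ (φ A)) *
            (V * φ C * φ (φ B))) = 1 := by rw [e1, e2, e3, e4]; simp
        have hsum : φ N * φ (φ N) = 1 := by
          rw [← hall, hNdef]
          simp only [map_mul]
          calc φ V * φ A * (φ B * φ C) * (φ (φ V) * φ (φ A) * (φ (φ B) * φ (φ C)))
              = (V * V) * (V * V) * (φ V * φ A * (φ B * φ C) * (φ (φ V) * φ (φ A) * (φ (φ B) * φ (φ C)))) := by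
                rw [hV2, one_mul, one_mul]
            _ = _ := by ac_rfl
        have hn := h.norm_eq_one hDp (Or.inl rfl) hgo g.2 N.2
        simp only [List.range_succ, List.range_zero, List.nil_append, List.map_append, List.map_cons,
          List.map_nil, List.prod_append, List.prod_cons, List.prod_nil, mul_one, pow_zero, one_mul,
          inv_one, pow_one] at hn
        have hn' : N * φ N * φ (φ N) = 1 := Subtype.ext (by
          change (N : G) * ((g : G) * N * (g : G)⁻¹) * ((g : G) * ((g : G) * N * (g : G)⁻¹) * (g : G)⁻¹) = 1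
          simpa [sq, mul_assoc] using hn)
        rwa [mul_assoc, hsum, mul_one] at hn'
    exact congrArg Subtype.val h4
  -- the fixed points
  set F := D ⊓ Subgroup.centralizer ({(t : G)} : Set G) with hF
  have hfix : ∀ {x : (Subgroup.normalizer (D : Set G))} {v : G}, v ∈ D → (Commute (x : G) v ↔ ρ x v = v) := fun {x v} hv =>
    ⟨fun hc => mul_inv_eq_iff_eq_mul.2 hc.eq, fun e => mul_inv_eq_iff_eq_mul.1 e⟩
  have hmemF : ∀ {v : G}, v ∈ F ↔ v ∈ D ∧ ρ t v = v := fun {v} =>
    ⟨fun hv => ⟨hv.1, (hfix hv.1).1 (Subgroup.mem_centralizer_singleton_iff.1 hv.2).symm⟩,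
      fun hv => ⟨hv.1, Subgroup.mem_centralizer_singleton_iff.2 ((hfix hv.1).2 hv.2).symm⟩⟩
  have hcardD := h.card_eq_sq hsq (Or.inl rfl) hro httG htrG r.2 t.2
  have hρb : ∀ v ∈ D, ρ tb v = ρ g⁻¹ (ρ t (ρ g v)) := fun v _ => by
    rw [htb, hρmul, hρmul]
  have hFb : ∀ v ∈ F, ρ tb v = v := by
    let a : D →* D :=
      { toFun := fun v => ⟨v * ρ tb v, D.mul_mem v.2 (hρD _ _ v.2)⟩
        map_one' := Subtype.ext (by simp [ρ])
        map_mul' := fun x y => Subtype.ext (by
          change (x : G) * y * ((tb : G) * ((x : G) * y) * (tb : G)⁻¹) =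
            (x : G) * ((tb : G) * x * (tb : G)⁻¹) * ((y : G) * ((tb : G) * y * (tb : G)⁻¹))
          have hc := (hcomm y.2 (hρD tb _ x.2)).eq
          calc (x : G) * y * ((tb : G) * ((x : G) * y) * (tb : G)⁻¹)
              = (x : G) * ((y : G) * ρ tb x) * ρ tb y := by simp only [ρ]; group
            _ = _ := by rw [hc]; simp only [ρ]; group) }
    have hinv2 : ∀ (x : (Subgroup.normalizer (D : Set G))) (v : G), v ∈ D → π x * π x = 1 → ρ x (ρ x v) = v := fun x v hv e => by
      rw [← hρmul, hρeq (x * x) 1 v hv (by rw [map_mul, e, map_one])]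
      simp [ρ]
    have hbb : π tb * π tb = 1 := by
      rw [htbb, ← d.hga]
      calc d.g⁻¹ * d.a * d.g * (d.g⁻¹ * d.a * d.g) = d.g⁻¹ * (d.a * d.a) * d.g := by group
        _ = 1 := by rw [mul_self_of_orderOf_two d.a_two, mul_one, inv_mul_cancel]
    have hrange : ∀ y ∈ a.range, (y : G) ∈ F ∧ ρ tb (y : G) = y := by
      rintro _ ⟨v, rfl⟩
      have hab : ρ t ((v : G) * ρ tb v) = v * ρ tb v := by
        have e : ρ t ((v : G) * ρ tb v) = ρ t v * ρ tc v := by
          rw [hρeq tc (t * tb) v v.2 (by rw [htcc, map_mul, hta, htbb, d.hab]), hρmul t tb]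
          simp only [ρ]; group
        rw [e]
        have h1 := hN v v.2
        have hc : Commute (ρ tb v) (ρ tc v) := hcomm (hρD _ _ v.2) (hρD _ _ v.2)
        have hcs : ρ tc (v : G) * ρ tc v = 1 := by rw [← sq, hsq _ (hρD _ _ v.2)]
        have hbs : ρ tb (v : G) * ρ tb v = 1 := by rw [← sq, hsq _ (hρD _ _ v.2)]
        have hvs : (v : G) * v = 1 := by rw [← sq, hsq _ v.2]
        calc ρ t (v : G) * ρ tc v = (v * v) * ρ t v * (ρ tb v * ρ tb v) * ρ tc v := by
              rw [hvs, hbs, one_mul, mul_one]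
          _ = v * ((v * ρ t v) * (ρ tb v * (ρ tb v * ρ tc v))) := by group
          _ = v * ((v * ρ t v) * (ρ tb v * ρ tc v) * ρ tb v) := by
              rw [((Commute.refl (ρ tb (v : G))).mul_right hc).eq, mul_assoc ((v : G) * ρ t v)]
          _ = v * ρ tb v := by rw [h1, one_mul]
      refine ⟨hmemF.2 ⟨(a v).2, hab⟩, ?_⟩
      change ρ tb ((v : G) * ρ tb v) = v * ρ tb v
      have e : ρ tb ((v : G) * ρ tb v) = ρ tb v * ρ tb (ρ tb v) := by simp only [ρ]; group
      rw [e, hinv2 tb v v.2 hbb, (hcomm (hρD _ _ v.2) v.2).eq]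
    intro v hv
    -- the kernel is conjugate to `F`
    have hker : Nat.card a.ker ≤ Nat.card F := by
      refine Nat.card_le_card_of_injective (fun x => (⟨ρ g (x.1 : G), ?_⟩ : F)) ?_
      · have e : ρ tb ((x.1 : D) : G) = ((x.1 : D) : G) := by
          have := congrArg Subtype.val (MonoidHom.mem_ker.1 x.2)
          have e' : ((x.1 : D) : G) * ρ tb ((x.1 : D) : G) = 1 := this
          rw [eq_inv_of_mul_eq_one_right e']
          exact inv_eq_of_mul_eq_one_left (by rw [← sq, hsq _ x.1.2])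
        refine hmemF.2 ⟨hρD _ _ x.1.2, ?_⟩
        rw [hρb _ x.1.2] at e
        have := congrArg (ρ g) e
        rwa [← hρmul g g⁻¹, mul_inv_cancel, show ρ 1 (ρ t (ρ g ((x.1 : D) : G))) =
          ρ t (ρ g ((x.1 : D) : G)) by simp [ρ]] at this
      · intro x y e
        have e' : ρ g ((x.1 : D) : G) = ρ g ((y.1 : D) : G) := congrArg Subtype.val e
        exact Subtype.ext (Subtype.ext (mul_left_cancel (mul_right_cancel e')))
    have hle : a.range ≤ F.subgroupOf D := fun y hy => (hrange y hy).1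
    have hFD : Nat.card (F.subgroupOf D) = Nat.card F :=
      Nat.card_congr (Subgroup.subgroupOfEquivOfLe inf_le_left).toEquiv
    have heq : a.range = F.subgroupOf D := by
      refine Subgroup.eq_of_le_of_card_ge hle ?_
      have h1 := Subgroup.card_mul_index a.ker
      rw [Subgroup.index_ker, hcardD] at h1
      rw [hFD]
      have := Nat.card_pos (α := F)
      nlinarith
    exact (hrange ⟨v, hv.1⟩ (by rw [heq, Subgroup.mem_subgroupOf]; exact hv)).2
  have hFg : ∀ v ∈ F, ρ g v ∈ F := fun v hv => by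
    refine hmemF.2 ⟨hρD _ _ hv.1, ?_⟩
    have e := hFb v hv
    rw [hρb v hv.1] at e
    have := congrArg (ρ g) e
    rwa [← hρmul g g⁻¹, mul_inv_cancel, show ρ 1 (ρ t (ρ g v)) = ρ t (ρ g v) by simp [ρ]] at this
  have hgN : (g : G) ∈ Subgroup.normalizer (F : Set G) := by
    rw [Subgroup.mem_normalizer_iff]
    refine fun v => ⟨hFg v, fun hv => ?_⟩
    have h3 := hFg _ (hFg _ hv)
    have e3 : (g : G) ^ 3 = 1 := by rw [← hgo, pow_orderOf_eq_one]
    have e : ρ g (ρ g ((g : G) * v * (g : G)⁻¹)) = (g : G) ^ 3 * v * ((g : G) ^ 3)⁻¹ := by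
      simp only [ρ, pow_succ, pow_zero, one_mul, mul_inv_rev, mul_assoc]
    rwa [e, e3, one_mul, inv_one, mul_one] at h3
  have hFfix : ∀ v ∈ F, ∀ x : (Subgroup.normalizer (D : Set G)), π x ∈ ({1, d.a, d.b, d.c} : Set _) → ρ x v = v := by
    intro v hv x hx
    have hvt := (hmemF.1 hv).2
    have hvb := hFb v hv
    rcases hx with e | e | e | e
    · rw [hρeq x 1 v hv.1 (by rw [e, map_one])]; simp [ρ]
    · rw [hρeq x t v hv.1 (e.trans hta.symm), hvt]
    · rw [hρeq x tb v hv.1 (e.trans htbb.symm), hvb]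
    · rw [hρeq x (t * tb) v hv.1 (by rw [map_mul, hta, htbb, d.hab]; exact e), hρmul, hvb, hvt]
  -- the four-group
  let V4 : Subgroup (alternatingGroup (Fin 5)) :=
    { carrier := {1, d.a, d.b, d.c}
      one_mem' := Or.inl rfl
      mul_mem' := by
        have haa : d.a * d.a = 1 := mul_self_of_orderOf_two d.a_two
        have hbb : d.b * d.b = 1 := by
          rw [← d.hga]
          calc d.g⁻¹ * d.a * d.g * (d.g⁻¹ * d.a * d.g) = d.g⁻¹ * (d.a * d.a) * d.g := by group
            _ = 1 := by rw [haa, mul_one, inv_mul_cancel]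
        have hac : d.a * d.c = d.b := by rw [← d.hab, ← mul_assoc, haa, one_mul]
        have hca : d.c * d.a = d.b := by rw [← d.hba, mul_assoc, haa, mul_one]
        have hcb : d.c * d.b = d.a := by rw [← d.hab, mul_assoc, hbb, mul_one]
        have hbc : d.b * d.c = d.a := by rw [← d.hba, ← mul_assoc, hbb, one_mul]
        have hcc : d.c * d.c = 1 := by
          nth_rewrite 1 [← d.hab]
          rw [mul_assoc, hbc, haa]
        rintro x y (rfl | rfl | rfl | rfl) (rfl | rfl | rfl | rfl) <;>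
          simp [haa, hbb, hac, hca, hcb, hbc, hcc, d.hab, d.hba]
      inv_mem' := by
        have haa : d.a * d.a = 1 := mul_self_of_orderOf_two d.a_two
        have hbb : d.b * d.b = 1 := by
          rw [← d.hga]
          calc d.g⁻¹ * d.a * d.g * (d.g⁻¹ * d.a * d.g) = d.g⁻¹ * (d.a * d.a) * d.g := by group
            _ = 1 := by rw [haa, mul_one, inv_mul_cancel]
        have hcc : d.c * d.c = 1 := by
          rw [← d.hgb]
          calc d.g⁻¹ * d.b * d.g * (d.g⁻¹ * d.b * d.g) = d.g⁻¹ * (d.b * d.b) * d.g := by group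
            _ = 1 := by rw [hbb, mul_one, inv_mul_cancel]
        rintro x (rfl | rfl | rfl | rfl)
        · simp
        · rw [inv_eq_of_mul_eq_one_left haa]; simp
        · rw [inv_eq_of_mul_eq_one_left hbb]; simp
        · rw [inv_eq_of_mul_eq_one_left hcc]; simp }
  have hV4 : Nat.card V4 = 4 := by
    have ha1 : d.a ≠ 1 := fun e => by have := d.a_two; rw [e, orderOf_one] at this; omega
    have hb1 : d.b ≠ 1 := fun e => ha1 (by
      rw [← d.hga] at e
      have h' : d.g * (d.g⁻¹ * d.a * d.g) * d.g⁻¹ = d.g * 1 * d.g⁻¹ := by rw [e]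
      simpa [mul_assoc] using h')
    have hne : d.a ≠ d.b := fun e => by
      have hc1 : d.c = 1 := by
        rw [← d.hab, ← e]; exact mul_self_of_orderOf_two d.a_two
      have := d.hgc
      rw [hc1, mul_one, inv_mul_cancel] at this
      exact ha1 this.symm
    have hac : d.a ≠ d.c := fun e => hb1 (mul_eq_left.1 (d.hab.trans e.symm))
    have hbc : d.b ≠ d.c := fun e => ha1 (mul_eq_left.1 (d.hba.trans e.symm))
    have hc1 : d.c ≠ 1 := fun e => ha1 (by
      have := d.hgc
      rw [e, mul_one, inv_mul_cancel] at this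
      exact this.symm)
    change Nat.card ({1, d.a, d.b, d.c} : Set _) = 4
    rw [Nat.card_coe_set_eq, Set.ncard_insert_of_notMem (by simp [ha1.symm, hb1.symm, hc1.symm]),
      Set.ncard_insert_of_notMem (by simp [hne, hac]), Set.ncard_pair hbc]
  set K := (V4.comap π).map (Subgroup.normalizer (D : Set G)).subtype with hK
  have hcardH : Nat.card (Subgroup.normalizer (D : Set G)) = Nat.card D * 60 := by
    rw [← Subgroup.card_mul_index π.ker, Subgroup.index_ker, MonoidHom.range_eq_top.2 hπ,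
      Subgroup.card_top, card_alternatingGroup_five, hker,
      Nat.card_congr (Subgroup.subgroupOfEquivOfLe Subgroup.le_normalizer).toEquiv]
  have hcardK : Nat.card K = Nat.card D * 4 := by
    rw [hK, Subgroup.card_map_of_injective (Subgroup.normalizer (D : Set G)).subtype_injective]
    have h1 := Subgroup.card_mul_index (V4.comap π)
    have h2 := Subgroup.card_mul_index V4
    rw [Subgroup.index_comap_of_surjective _ hπ, hcardH] at h1
    rw [hV4, card_alternatingGroup_five] at h2
    rw [show V4.index = 15 by omega] at h1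
    omega
  have hK2 : IsPGroup 2 K := by
    obtain ⟨i, hi⟩ := (IsPGroup.iff_card).1 hDp
    exact IsPGroup.of_card (n := i + 2) (by rw [hcardK, hi, pow_add]; rfl)
  obtain ⟨S, hKS⟩ := hK2.exists_le_sylow
  set T := (S : Subgroup G) ⊓ (Subgroup.normalizer (D : Set G)) with hT
  have hKT : K ≤ T := le_inf hKS (Subgroup.map_subtype_le _)
  have hcardT : Nat.card T = 4 * Nat.card D := by
    obtain ⟨i, hi⟩ := (IsPGroup.iff_card).1 (S.isPGroup'.to_le (inf_le_left : T ≤ (S : Subgroup G)))
    have hd : Nat.card T ∣ 4 * Nat.card D * 15 := by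
      rw [show 4 * Nat.card D * 15 = Nat.card D * 60 by ring, ← hcardH]
      exact Subgroup.card_dvd_of_le inf_le_right
    have hd2 : Nat.card T ∣ 4 * Nat.card D :=
      (show (Nat.card T).Coprime 15 by rw [hi]; exact Nat.Coprime.pow_left i (by decide)).dvd_of_dvd_mul_right hd
    refine Nat.dvd_antisymm hd2 ?_
    have := Subgroup.card_dvd_of_le hKT
    rwa [hcardK, mul_comm] at this
  have hTK : T = K := (Subgroup.eq_of_le_of_card_ge hKT (by rw [hcardK, hcardT, mul_comm])).symm
  have hDT : D ≤ T := fun x hx => hTK ▸ ⟨⟨x, Subgroup.le_normalizer hx⟩, by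
    rw [SetLike.mem_coe, Subgroup.mem_comap, (hker' ⟨x, _⟩).2 hx]; exact one_mem _, rfl⟩
  have hTmem : ∀ x (hxS : x ∈ S) (hxH : x ∈ (Subgroup.normalizer (D : Set G))), π ⟨x, hxH⟩ ∈ ({1, d.a, d.b, d.c} : Set _) := by
    intro x hxS hxH
    obtain ⟨y, hy, e⟩ := (hTK ▸ ⟨hxS, hxH⟩ : x ∈ K)
    have : y = ⟨x, hxH⟩ := Subtype.ext e
    exact this ▸ hy
  have htS : (t : G) ∈ S := by
    have : (t : G) ∈ T := hTK ▸ ⟨t, by rw [SetLike.mem_coe, Subgroup.mem_comap, hta]; exact Or.inr (Or.inl rfl), rfl⟩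
    exact this.1
  have htnD : (t : G) ∉ D := fun hh => by
    have e := (hker' t).2 hh
    rw [hta] at e
    have := d.a_two
    rw [e, orderOf_one] at this
    omega
  have hFne : F ≠ ⊥ := fun e => by
    have := hcardD
    rw [← hF, e, Subgroup.card_bot, one_mul] at this
    exact hD1 (Subgroup.eq_bot_of_card_le _ this.le)
  have hgfix : ∀ {V : Subgroup G}, V ≤ D → ∀ v ∈ V, Commute (g : G) v → v = 1 := fun {V} hV v hv hc =>
    h.eq_one_of_pGroup hDp (hV hv) hc (by rw [hgo]; norm_num)
      (fun e => by rw [e, orderOf_one] at hgo; omega)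
  have hF4 : 4 ≤ Nat.card F := by
    have hmod := card_modEq_one_of_fpf hgo hgN (hgfix inf_le_left)
    obtain ⟨i, hi⟩ := (IsPGroup.iff_card).1 (hDp.to_le (inf_le_left : F ≤ D))
    have h1 : 1 < Nat.card F :=
      Finite.one_lt_card_iff_nontrivial.2 ((Subgroup.nontrivial_iff_ne_bot _).2 hFne)
    rw [hi] at hmod h1 ⊢
    rcases i with _ | _ | i
    · norm_num at h1
    · exact absurd hmod (by decide)
    · exact le_of_eq_of_le (by norm_num) (Nat.pow_le_pow_right (by norm_num) (show 2 ≤ i + 1 + 1 by omega))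
  have ht2 : orderOf (t : G) = 2 := orderOf_eq_two_of_sq httG fun e => htnD (e ▸ one_mem _)
  refine ⟨{ D := D, S := S, F := F, k := 4, s := (t : G), sq := hsq, D_le := hDT.trans inf_le_left,
            F_le := inf_le_left, F_ne := hFne, F_central := ?_, card_D := hcardD, card_T := hcardT,
            k_le := hF4, k_mem := Or.inr rfl, cent := ?_, s_mem := htS, s_norm := t.2, s_not := htnD,
            s_sq := httG, cosets := ?_, conj_D := ?_ }, ?_⟩
  · intro f hf x hxS hxN
    exact ((hfix (x := ⟨x, hxN⟩) hf.1).2 (hFfix f hf ⟨x, hxN⟩ (hTmem x hxS hxN))).symm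
  · intro x hxS hxN hxD v hv hc
    have e0 := (hfix (x := ⟨x, hxN⟩) hv).1 hc
    rcases hTmem x hxS hxN with e | e | e | e
    · exact absurd ((hker' ⟨x, hxN⟩).1 e) hxD
    · exact hmemF.2 ⟨hv, by rw [hρeq t ⟨x, hxN⟩ v hv (hta.trans e.symm), e0]⟩
    · have e1 : ρ tb v = v := by rw [hρeq tb ⟨x, hxN⟩ v hv (htbb.trans e.symm), e0]
      rw [hρb v hv] at e1
      have e2 := congrArg (ρ g) e1
      rw [← hρmul g g⁻¹, mul_inv_cancel, show ρ 1 (ρ t (ρ g v)) = ρ t (ρ g v) by simp [ρ]] at e2
      exact ((Subgroup.mem_normalizer_iff.1 hgN v).2 (hmemF.2 ⟨hρD _ _ hv, e2⟩))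
    · have e1 : ρ tc v = v := by rw [hρeq tc ⟨x, hxN⟩ v hv (htcc.trans e.symm), e0]
      rw [htc, hρmul, hρmul, hρb _ (hρD _ _ hv)] at e1
      have e2 := congrArg (fun w => ρ g (ρ g w)) e1
      simp only [← hρmul, ← mul_assoc, mul_inv_cancel, one_mul, mul_assoc, mul_inv_cancel_left] at e2
      rw [hρmul t (g * g), hρmul g g] at e2
      exact (Subgroup.mem_normalizer_iff.1 hgN v).2 ((Subgroup.mem_normalizer_iff.1 hgN _).2
        (hmemF.2 ⟨hρD _ _ (hρD _ _ hv), e2⟩))
  · intro x hxS hxN hxD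
    have key : ∀ u : (Subgroup.normalizer (D : Set G)), π (u * t * u⁻¹) = π ⟨x, hxN⟩ →
        ∃ g' ∈ Subgroup.normalizer (D : Set G), (g' * (t : G) * g'⁻¹)⁻¹ * x ∈ D := fun u e =>
      ⟨u, u.2, hsame _ ⟨x, hxN⟩ e⟩
    rcases hTmem x hxS hxN with e | e | e | e
    · exact absurd ((hker' ⟨x, hxN⟩).1 e) hxD
    · exact key 1 (by rw [e, one_mul, inv_one, mul_one, hta])
    · exact key g⁻¹ (by rw [e, inv_inv, ← htb, htbb])
    · refine key (g⁻¹ * g⁻¹) ?_
      rw [e, show g⁻¹ * g⁻¹ * t * (g⁻¹ * g⁻¹)⁻¹ = g⁻¹ * (g⁻¹ * t * g) * g by simp only [mul_inv_rev, inv_inv, mul_assoc], ← htb, ← htc, htcc]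
  all_goals intro hFk
  · -- all involutions of `D` are conjugate
    have hF4' : Nat.card F = 4 := hFk
    have hD16 : Nat.card D = 16 := by rw [hcardD, ← hF, hF4']
    choose w hw using fun i => hπ (d.w i)
    let Φ : Fin 5 × {f : F // f ≠ 1} → {x : D // x ≠ 1} := fun p =>
      ⟨⟨ρ (w p.1) (p.2.1 : G), hρD _ _ p.2.1.2.1⟩, fun e => p.2.2 (Subtype.ext (by
        have e' : ρ (w p.1) (p.2.1 : G) = 1 := congrArg Subtype.val e
        simpa [ρ, conj_eq_one_iff] using e'))⟩
    have hinj : Function.Injective Φ := by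
      rintro ⟨i, f⟩ ⟨j, f'⟩ e
      have e' : ρ (w i) (f.1 : G) = ρ (w j) (f'.1 : G) :=
        congrArg (fun x : {x : D // x ≠ 1} => ((x.1 : D) : G)) e
      by_cases hij : i = j
      · subst hij
        exact Prod.ext rfl (Subtype.ext (Subtype.ext (mul_left_cancel (mul_right_cancel e'))))
      · exfalso
        set y := ρ (w i) (f.1 : G) with hy
        have hyD : y ∈ D := hρD _ _ f.1.2.1
        have hfixed : ∀ (k : Fin 5) (v : G), v ∈ F → ρ (w k * t * (w k)⁻¹) (ρ (w k) v) = ρ (w k) v := by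
          intro k v hv
          rw [← hρmul, inv_mul_cancel_right, hρmul, (hmemF.1 hv).2]
        have h12 : ρ (w i * t * (w i)⁻¹ * (w j * t * (w j)⁻¹)) y = y := by
          rw [hρmul]
          conv_lhs => rw [e', hfixed j _ f'.1.2, ← e', hy, hfixed i _ f.1.2]
        have hord2 : orderOf ((w i * t * (w i)⁻¹ * (w j * t * (w j)⁻¹) : (Subgroup.normalizer (D : Set G))) : G) = 3 ∨
            orderOf ((w i * t * (w i)⁻¹ * (w j * t * (w j)⁻¹) : (Subgroup.normalizer (D : Set G))) : G) = 5 := by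
          have e2 : π (w i * t * (w i)⁻¹ * (w j * t * (w j)⁻¹)) =
              d.w i * d.a * (d.w i)⁻¹ * (d.w j * d.a * (d.w j)⁻¹) := by
            simp only [map_mul, map_inv, hw, hta]
          rcases d.sep i j hij with o | o
          · exact Or.inl (hord _ 3 (Or.inl rfl) (e2 ▸ o))
          · exact Or.inr (hord _ 5 (Or.inr rfl) (e2 ▸ o))
        refine (Φ (i, f)).2 (Subtype.ext ?_)
        change y = 1
        refine h.eq_one_of_pGroup hDp hyD ((hfix hyD).2 h12) ?_ ?_
        · rcases hord2 with o | o <;> rw [o] <;> norm_num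
        · intro e3
          rw [e3, orderOf_one] at hord2
          omega
    have hbij : Function.Bijective Φ := by
      refine hinj.bijective_of_nat_card_le ?_
      haveI := Fintype.ofFinite F
      haveI := Fintype.ofFinite D
      rw [Nat.card_eq_fintype_card, Nat.card_eq_fintype_card, Fintype.card_prod,
        Fintype.card_subtype_compl, Fintype.card_subtype_eq, Fintype.card_subtype_compl,
        Fintype.card_subtype_eq, Fintype.card_fin]
      have e1 : Fintype.card F = 4 := by rw [← Nat.card_eq_fintype_card, hF4']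
      have e2 : Fintype.card D = 16 := by rw [← Nat.card_eq_fintype_card, hD16]
      omega
    have htoF : ∀ x ∈ D, x ≠ 1 → ∃ f ∈ F, f ≠ 1 ∧ IsConj x f := by
      intro x hx hx1
      obtain ⟨⟨i, f⟩, e⟩ := hbij.2 ⟨⟨x, hx⟩, fun e => hx1 (congrArg Subtype.val e)⟩
      refine ⟨f.1, f.1.2, fun e' => f.2 (Subtype.ext e'),
        (isConj_iff.2 ⟨((w i : Subgroup.normalizer (D : Set G)) : G), ?_⟩ :
          IsConj ((f.1 : F) : G) x).symm⟩
      exact congrArg (fun y : {y : D // y ≠ 1} => ((y.1 : D) : G)) e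
    intro x hx y hy hx1 hy1
    obtain ⟨f, hf, hf1, hcf⟩ := htoF x hx hx1
    obtain ⟨f', hf', hf'1, hcf'⟩ := htoF y hy hy1
    exact hcf.trans ((h.isConj_of_card_four hF4' hgo hgN hf hf' hf1 hf'1).trans hcf'.symm)
  · exact ⟨r, t, hro, ht2, htrG⟩

end CfsgLib.SmallSpectrum
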