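import Cfsg.Agent.Lib.SmallSpectrum.LocalFive
import Cfsg.Agent.S0494
import Cfsg.Agent.S0497

/-!
# Non-solvable groups with element orders at most five
-/

set_option autoImplicit false
set_option linter.unusedSectionVars false
set_option linter.style.haveILetI false

namespace CfsgLib.SmallSpectrum

open Cfsg

universe u

variable {G : Type u} [Group G] [Finite G]

/-- The facts about a maximal intersection of two distinct Sylow 2-subgroups. -/
theorem Spec.exists_max_intersection (h : Spec G)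
    (hTI : ¬ ∀ S T : Sylow 2 G, ∀ g ∈ S, g ∈ T → g ≠ 1 → S = T) :
    ∃ D : Subgroup G, D ≠ ⊥ ∧ IsPGroup 2 D ∧
      pCore 2 (Subgroup.normalizer (D : Set G)) = D.subgroupOf (Subgroup.normalizer (D : Set G)) ∧
      2 ∣ Nat.card (Subgroup.normalizer (D : Set G) ⧸ D.subgroupOf (Subgroup.normalizer (D : Set G))) := by
  classical
  haveI := Fact.mk Nat.prime_two
  push Not at hTI
  obtain ⟨S0, T0, g0, hg0S, hg0T, hg01, hne0⟩ := hTI
  haveI := Fintype.ofFinite (Sylow 2 G)
  let s := (Finset.univ : Finset (Sylow 2 G × Sylow 2 G)).filter fun x => x.1 ≠ x.2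
  obtain ⟨⟨S1, S2⟩, hmem, hmax⟩ := s.exists_max_image
    (fun x => Nat.card ((x.1 : Subgroup G) ⊓ x.2 : Subgroup G)) ⟨(S0, T0), by simp [s, hne0]⟩
  simp only [s, Finset.mem_filter, Finset.mem_univ, true_and] at hmem hmax
  set D := (S1 : Subgroup G) ⊓ S2 with hD
  have hD1 : D ≠ ⊥ := by
    intro hb
    have h1 := hmax (S0, T0) hne0
    dsimp only at h1
    rw [hb, Subgroup.card_bot] at h1
    exact hg01 (Subgroup.mem_bot.1 ((Subgroup.eq_bot_of_card_le _ h1) ▸ ⟨hg0S, hg0T⟩ :
      g0 ∈ (⊥ : Subgroup G)))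
  have hDp : IsPGroup 2 D := S1.isPGroup'.to_le inf_le_left
  set N := Subgroup.normalizer (D : Set G) with hN
  have hDN : D ≤ N := Subgroup.le_normalizer
  haveI hDn : (D.subgroupOf N).Normal :=
    (Subgroup.normal_subgroupOf_iff_le_normalizer hDN).2 le_rfl
  have hgrow : ∀ U : Sylow 2 G, D < (U : Subgroup G) → D < (U : Subgroup G) ⊓ N := by
    intro U hlt
    haveI := U.isPGroup'.isNilpotent
    have hne' : D.subgroupOf U < ⊤ := lt_top_iff_ne_top.2 fun e => by
      rw [Subgroup.subgroupOf_eq_top] at e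
      exact hlt.not_ge e
    obtain ⟨x, hx, hxD⟩ := SetLike.exists_of_lt (Group.normalizerCondition_of_isNilpotent _ hne')
    refine lt_of_le_of_ne (le_inf hlt.le hDN) fun e => hxD ?_
    change (x : G) ∈ D
    rw [e]
    refine ⟨x.2, Subgroup.mem_normalizer_iff.2 fun y => ⟨fun hy =>
      (Subgroup.mem_normalizer_iff.1 hx ⟨y, hlt.le hy⟩).1 hy, fun hy => ?_⟩⟩
    have hyU : y ∈ (U : Subgroup G) := by
      have := (U : Subgroup G).mul_mem ((U : Subgroup G).mul_mem ((U : Subgroup G).inv_mem x.2)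
        (hlt.le hy)) x.2
      simpa [mul_assoc] using this
    exact (Subgroup.mem_normalizer_iff.1 hx ⟨y, hyU⟩).2 hy
  set K := (pCore 2 N).map N.subtype with hK
  have hKN : N ≤ Subgroup.normalizer (K : Set G) := by
    intro x hx
    rw [Subgroup.mem_normalizer_iff]
    intro y
    constructor
    · rintro ⟨y', hy', rfl⟩
      exact ⟨⟨x, hx⟩ * y' * ⟨x, hx⟩⁻¹, (inferInstance : (pCore 2 N).Normal).conj_mem y' hy' _, rfl⟩
    · rintro ⟨y', hy', e⟩
      refine ⟨⟨x, hx⟩⁻¹ * y' * ⟨x, hx⟩, (inferInstance : (pCore 2 N).Normal).conj_mem' y' hy' _, ?_⟩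
      have e' : (y' : G) = x * y * x⁻¹ := e
      change x⁻¹ * (y' : G) * x = y
      rw [e']
      group
  have hKle : ∀ U : Sylow 2 G, D < (U : Subgroup G) → K ≤ (U : Subgroup G) := by
    intro U hlt
    have h1 : IsPGroup 2 ((U : Subgroup G) ⊓ N ⊔ K : Subgroup G) :=
      (U.isPGroup'.to_le inf_le_left).to_sup_of_normal_right'
        ((Cores.isPGroup_pCore 2 N).map N.subtype) (inf_le_right.trans hKN)
    obtain ⟨R, hR⟩ := h1.exists_le_sylow
    by_cases e : U = R
    · exact e ▸ le_sup_right.trans hR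
    · exfalso
      have h2 := hmax (U, R) e
      exact absurd h2 (not_le.2 (lt_of_lt_of_le (Set.ncard_lt_ncard (hgrow U hlt) (Set.toFinite _))
        (Subgroup.card_le_of_le (le_inf inf_le_left (le_sup_left.trans hR)))))
  have hlt1 : D < (S1 : Subgroup G) := lt_of_le_of_ne inf_le_left fun e => hmem
    (Sylow.ext (S1.is_maximal' S2.isPGroup' (inf_eq_left.1 e)).symm)
  have hlt2 : D < (S2 : Subgroup G) := lt_of_le_of_ne inf_le_right fun e => hmem
    (Sylow.ext (S2.is_maximal' S1.isPGroup' (inf_eq_right.1 e)))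
  have hcore : pCore 2 N = D.subgroupOf N := by
    refine le_antisymm (fun x hx => ?_)
      (Cores.le_pCore (hDp.of_equiv (Subgroup.subgroupOfEquivOfLe hDN).symm))
    exact le_inf (hKle S1 hlt1) (hKle S2 hlt2) ⟨x, hx, rfl⟩
  refine ⟨D, hD1, hDp, hcore, ?_⟩
  obtain ⟨x, hx, hxD⟩ := SetLike.exists_of_lt (hgrow S1 hlt1)
  let q : N ⧸ D.subgroupOf N := QuotientGroup.mk' _ ⟨x, hx.2⟩
  have hq1 : q ≠ 1 := fun e => hxD (by
    simp only [q, QuotientGroup.mk'_apply, QuotientGroup.eq_one_iff, Subgroup.mem_subgroupOf] at e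
    exact e)
  obtain ⟨j, hj⟩ := (IsPGroup.iff_orderOf.1 S1.isPGroup') ⟨x, hx.1⟩
  rw [Subgroup.orderOf_mk] at hj
  have hd : orderOf q ∣ 2 ^ j := by
    rw [← hj, ← Subgroup.orderOf_mk x hx.2]
    exact orderOf_map_dvd _ _
  obtain ⟨i, -, hi⟩ := (Nat.dvd_prime_pow Nat.prime_two).1 hd
  refine (dvd_trans ?_ (orderOf_dvd_natCard q))
  rw [hi]
  refine dvd_pow_self 2 fun e => hq1 (orderOf_eq_one_iff.1 ?_)
  rw [hi, e, pow_zero]

theorem pCore_two_eq_bot [IsSimpleGroup G] (hns : ¬ Group.IsSolvable G) : pCore 2 G = ⊥ := by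
  haveI := Fact.mk Nat.prime_two
  refine (Subgroup.Normal.eq_bot_or_eq_top (H := pCore 2 G) inferInstance).resolve_right fun e => hns ?_
  haveI := ((Cores.pCore_eq_top_iff).1 e).isNilpotent
  infer_instance

/-- The simple case. -/
theorem Spec.good_of_simple [IsSimpleGroup G] (h : Spec G) (hns : ¬ Group.IsSolvable G)
    (ih : ∀ (H : Type u) [Group H] [Finite H], Nat.card H < Nat.card G →
      Spec H → ¬ Group.IsSolvable H → Good H) : Good G := by
  haveI := Fact.mk Nat.prime_two
  haveI := Fact.mk Nat.prime_three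
  haveI := Fact.mk Nat.prime_five
  by_cases hTI : ∀ S T : Sylow 2 G, ∀ g ∈ S, g ∈ T → g ≠ 1 → S = T
  · obtain ⟨e⟩ := Cfsg.Agent.S0494.result (h.card_eq_sixty_of_ti hns hTI)
    exact Or.inr ⟨⊥, inferInstance, ⟨inferInstance, fun a ha => by
      rw [Subgroup.mem_bot.1 ha, one_pow]⟩, ⟨QuotientGroup.quotientBot.trans e⟩⟩
  obtain ⟨D, hD1, hDp, hcore, h2⟩ := h.exists_max_intersection hTI
  set N := Subgroup.normalizer (D : Set G) with hN
  have hNlt : Nat.card N < Nat.card G := by
    refine lt_of_le_of_ne (Subgroup.card_le_card_group N) fun e => ?_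
    haveI : D.Normal := Subgroup.normalizer_eq_top_iff.1 (Subgroup.eq_top_of_card_eq N e)
    exact hD1 (le_bot_iff.1 (pCore_two_eq_bot hns ▸ Cores.le_pCore hDp))
  have hcore1 : pCore 2 N ≠ ⊥ := by
    rw [hcore, Ne, Subgroup.subgroupOf_eq_bot]
    exact fun hd => hD1 (disjoint_self.1 (hd.mono_right Subgroup.le_normalizer))
  have hD'p : IsPGroup 2 (D.subgroupOf N) :=
    hDp.of_equiv (Subgroup.subgroupOfEquivOfLe Subgroup.le_normalizer).symm
  haveI hD'n : (D.subgroupOf N).Normal := by rw [← hcore]; infer_instance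
  have hX0 : pCore 2 (N ⧸ D.subgroupOf N) = ⊥ := by
    apply Subgroup.comap_injective (QuotientGroup.mk'_surjective (D.subgroupOf N))
    rw [Cores.comap_pCore_quotient _ hD'p, MonoidHom.comap_bot, QuotientGroup.ker_mk', hcore]
  have hI : ∃ I : InterData G, Nat.card I.F = I.k →
      ∃ r s : G, orderOf r = 3 ∧ orderOf s = 2 ∧ s * r * s⁻¹ = r⁻¹ := by
    by_cases hsol : Group.IsSolvable N
    · haveI := hsol
      haveI : Group.IsSolvable (N ⧸ D.subgroupOf N) :=
        Group.isSolvable_of_surjective (QuotientGroup.mk'_surjective _)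
      have hD'1 : D.subgroupOf N ≠ ⊥ := hcore ▸ hcore1
      obtain ⟨p, r, t, hp, hr, htt, htr, hcard, hsq⟩ :=
        (h.subgroup N).dihedral_of_solvable hD'p hD'1 hX0 h2
      refine h.interData_of_dihedral hD1
        (fun x hx => congrArg Subtype.val (hsq ⟨x, Subgroup.le_normalizer hx⟩ hx)) hp
        (r := (r : G)) (t := (t : G)) ?_ ?_ ?_ r.2 t.2 ?_
      · rw [Subgroup.orderOf_coe, hr]
      · exact congrArg Subtype.val htt
      · exact congrArg Subtype.val htr
      · rw [hcard, Nat.card_congr (Subgroup.subgroupOfEquivOfLe Subgroup.le_normalizer).toEquiv]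
    · rcases (ih N hNlt (h.subgroup N) hsol) with he | ⟨K, hK, ⟨-, hK2⟩, ⟨e⟩⟩
      · obtain ⟨e⟩ := he
        haveI := isSimpleGroup_six
        haveI : Nontrivial N := e.toEquiv.nontrivial
        haveI : IsSimpleGroup N := IsSimpleGroup.isSimpleGroup_of_surjective (G := alternatingGroup (Fin 6))
          e.symm.toMonoidHom e.symm.surjective
        exact absurd (pCore_two_eq_bot hsol) hcore1
      · have hKp : IsPGroup 2 K := fun g => ⟨1, Subtype.ext (hK2 g g.2)⟩
        haveI := hKp.isNilpotent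
        set π := e.toMonoidHom.comp (QuotientGroup.mk' K) with hπ
        have hsurj : Function.Surjective π := e.surjective.comp (QuotientGroup.mk'_surjective K)
        refine h.interData_of_five hDp hD1 π hsurj ?_
        have hker : π.ker = K := by
          ext x
          rw [hπ, MonoidHom.mem_ker, MonoidHom.comp_apply, MulEquiv.coe_toMonoidHom,
            EmbeddingLike.map_eq_one_iff, QuotientGroup.mk'_apply, QuotientGroup.eq_one_iff]
        rw [hker, ← hcore]
        refine le_antisymm (Cores.le_pCore hKp) ?_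
        rw [← hker]
        intro x hx
        haveI := isSimpleGroup_five
        have hns5 : ¬ Group.IsSolvable (alternatingGroup (Fin 5)) := fun hs => by
          haveI := hs
          exact hsol (Group.isSolvable_of_ker_le_range (f := K.subtype) (g := π)
            (by rw [hker, Subgroup.range_subtype]))
        have hm := Cores.map_pCore_le_of_surjective (p := 2) hsurj ⟨x, hx, rfl⟩
        rw [pCore_two_eq_bot hns5, Subgroup.mem_bot] at hm
        exact hm
  obtain ⟨I, hI⟩ := hI
  obtain ⟨hFk, hS, hc⟩ := I.count h hns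
  obtain ⟨r, s, hr, hs, hrs⟩ := hI hFk
  obtain ⟨-, hd3, hd5⟩ := h.dvd_of_not_isSolvable hns
  obtain ⟨k3, e3, hk3, hB, hi3⟩ := h.oddData (p := 3) (q := 5) (Or.inl ⟨rfl, rfl⟩) hd3
  obtain ⟨k5, e5, hk5, hC, -⟩ := h.oddData (p := 5) (q := 3) (Or.inr ⟨rfl, rfl⟩) hd5
  have hk3' : k3 = 2 ∨ k3 = 4 ∨ k3 = 8 := by
    rcases hk3 with ⟨-, he⟩ | ⟨hk, -⟩
    · exfalso
      have h1 := hi3 r hr
      rw [he, zero_mul, Nat.card_eq_zero] at h1
      rcases h1 with h1 | h1
      · exact h1.elim' ⟨s, hs, hrs⟩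
      · exact not_finite {u : G // orderOf u = 2 ∧ u * r * u⁻¹ = r⁻¹}
    · exact hk
  have hk5' : k5 = 1 ∨ k5 = 3 ∨ k5 = 2 ∨ k5 = 4 ∨ k5 = 8 := by
    rcases hk5 with ⟨hk, -⟩ | ⟨hk, -⟩ <;> omega
  have hfa : 2 ^ (Nat.card G).factorization 2 = I.k ^ 3 := by
    rw [← hS, Sylow.card_eq_multiplicity I.S]
  have hprod := h.card_eq_prod
  rw [hfa] at hprod
  have h360 := nonti_arith I.k_mem
    ((Nat.prime_three.dvd_iff_one_le_factorization Nat.card_pos.ne').1 hd3)
    ((Nat.prime_five.dvd_iff_one_le_factorization Nat.card_pos.ne').1 hd5) hprod hk3' hk5'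
    (c2 := orderCount G 2 + orderCount G 4) h.card_eq_sum hc hB hC
  exact Or.inl (Cfsg.Agent.S0497.result h360)

theorem good_aux : ∀ (n : ℕ) (G : Type u) [Group G] [Finite G], Nat.card G ≤ n →
    Spec G → ¬ Group.IsSolvable G → Good G := by
  intro n
  induction n with
  | zero =>
    intro G _ _ hn
    have := Nat.card_pos (α := G)
    omega
  | succ n ih =>
    intro G _ _ hn h hns
    have ih' : ∀ (H : Type u) [Group H] [Finite H], Nat.card H < Nat.card G →
        Spec H → ¬ Group.IsSolvable H → Good H := fun H _ _ hlt => ih H (by omega)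
    rcases h.good_or_isSimpleGroup hns ih' with hg | hs
    · exact hg
    · haveI := hs
      exact h.good_of_simple hns ih'

/-- A non-solvable group with element orders at most five is `A6` or elementary abelian by `A5`. -/
theorem Spec.good (h : Spec G) (hns : ¬ Group.IsSolvable G) : Good G := good_aux _ G le_rfl h hns

end CfsgLib.SmallSpectrum
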