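import Cfsg.Agent.Lib.SmallSpectrum.Radical
import Cfsg.Agent.Lib.TwoGroups.RankOne
import Mathlib.SetTheory.Cardinal.Finite

/-!
# Sylow subgroups of odd order in a group with small element orders
-/

set_option autoImplicit false
set_option linter.unusedSectionVars false
set_option linter.style.haveILetI false

namespace CfsgLib.SmallSpectrum

open Cfsg

universe u

variable {G : Type u} [Group G] [Finite G]

/-- A `p`-group acting without fixed points on a non-trivial group of coprime order. -/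
theorem Spec.card_dvd_of_fpf (h : Spec G) {p r : ℕ} [Fact p.Prime] [hr : Fact r.Prime] (hrp : r ≠ p)
    {R V : Subgroup G} (hR : IsPGroup r R) (hV : IsPGroup p V) (hV1 : V ≠ ⊥)
    (hn : R ≤ Subgroup.normalizer (V : Set G)) :
    Nat.card R ∣ if r = 2 then 8 else r := by
  have hfpf : ∀ a ∈ R, a ≠ 1 → V ⊓ Subgroup.centralizer ({a} : Set G) = ⊥ := fun a ha ha1 => by
    refine h.fpf hV (fun hd => hrp ?_) ha1
    obtain ⟨k, hk⟩ := (IsPGroup.iff_orderOf.1 hR) ⟨a, ha⟩
    rw [Subgroup.orderOf_mk] at hk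
    rw [hk] at hd
    exact ((Nat.prime_dvd_prime_iff_eq Fact.out hr.out).1
      ((Fact.out : p.Prime).dvd_of_dvd_pow hd)).symm
  obtain ⟨k, hk⟩ := (IsPGroup.iff_card).1 hR
  have hpow : ∀ i, 2 * i ≤ 5 → i ≠ 0 → i ≤ 2 := fun i h1 _ => by omega
  rcases Cores.isCyclic_or_quaternion_of_fpf hR hV1 hn hfpf with hc | ⟨rfl, m, hm, ⟨e⟩⟩
  · obtain ⟨g, hg⟩ := hc.exists_generator
    have hle := h (g : G)
    rw [Subgroup.orderOf_coe, orderOf_eq_card_of_forall_mem_zpowers hg, hk] at hle
    rw [hk]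
    have h2 := hr.out.two_le
    rcases eq_or_ne r 2 with rfl | hr2
    · rw [if_pos rfl]
      have : k ≤ 2 := by
        by_contra hh
        have := Nat.pow_le_pow_right (show 1 ≤ 2 by norm_num) (show 3 ≤ k by omega)
        omega
      exact (pow_dvd_pow 2 (show k ≤ 3 by omega))
    · rw [if_neg hr2]
      have : k ≤ 1 := by
        by_contra hh
        have := Nat.pow_le_pow_right (show 1 ≤ r by omega) (show 2 ≤ k by omega)
        have := Nat.pow_le_pow_left (show 3 ≤ r by omega) 2
        omega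
      exact (pow_dvd_pow r this).trans (pow_one r).dvd
  · rw [if_pos rfl]
    haveI : NeZero (2 ^ m) := ⟨by positivity⟩
    have hle := h ((e.symm (QuaternionGroup.a 1) : R) : G)
    rw [Subgroup.orderOf_coe, e.symm.orderOf_eq, QuaternionGroup.orderOf_a_one] at hle
    have hm1 : m = 1 := by
      by_contra hh
      have := Nat.pow_le_pow_right (show 1 ≤ 2 by norm_num) (show 2 ≤ m by omega)
      omega
    rw [Nat.card_congr e.toEquiv, Nat.card_eq_fintype_card, QuaternionGroup.card, hm1]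
    rfl

/-- An elementary abelian `q`-subgroup above a normal `p`-subgroup has order at most `q`. -/
theorem Spec.card_le_of_elementary_mod (h : Spec G) {p q : ℕ} [Fact p.Prime] [hq : Fact q.Prime]
    (hpq : p ≠ q) {K : Subgroup G} [K.Normal] (hK : IsPGroup p K) (hK1 : K ≠ ⊥)
    {B : Subgroup (G ⧸ K)} (hB : IsPGroup q B) (hexp : ∀ b ∈ B, b ^ q = 1)
    (hcomm : ∀ a ∈ B, ∀ b ∈ B, Commute a b) : Nat.card B ≤ q := by
  obtain ⟨k, hk⟩ := (IsPGroup.iff_card).1 hB
  set X := B.comap (QuotientGroup.mk' K) with hX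
  have hdvd : q ^ k ∣ Nat.card X := by
    rw [← hk]
    exact Subgroup.card_dvd_of_surjective ((QuotientGroup.mk' K).subgroupComap B)
      (MonoidHom.subgroupComap_surjective_of_surjective _ _ (QuotientGroup.mk'_surjective K))
  obtain ⟨Q, hQ⟩ := Sylow.exists_subgroup_card_pow_prime (G := X) q hdvd
  set Q' := Q.map X.subtype with hQ'
  have hcardQ : Nat.card Q' = q ^ k := by
    rw [hQ', Subgroup.card_map_of_injective X.subtype_injective, hQ]
  have hQp : IsPGroup q Q' := IsPGroup.of_card hcardQ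
  have hQX : Q' ≤ X := Subgroup.map_subtype_le Q
  have hzero : ∀ x ∈ Q', x ∈ K → x = 1 := fun x hx hxK => by
    obtain ⟨i, hi⟩ := (IsPGroup.iff_orderOf.1 hQp) ⟨x, hx⟩
    obtain ⟨j, hj⟩ := (IsPGroup.iff_orderOf.1 hK) ⟨x, hxK⟩
    rw [Subgroup.orderOf_mk] at hi hj
    refine orderOf_eq_one_iff.1 (Nat.eq_one_of_dvd_coprimes ?_ hi.dvd hj.dvd)
    exact ((Nat.coprime_primes hq.out Fact.out).2 hpq.symm).pow _ _
  rw [hk, ← hcardQ]
  rcases eq_or_ne Q' ⊥ with hb | hb
  · rw [hb, Subgroup.card_bot]; exact hq.out.one_le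
  obtain ⟨g, hg, hg1⟩ := (Subgroup.bot_or_exists_ne_one Q').resolve_left hb
  have hq1 : ∀ x ∈ Q', x ^ q = 1 := fun x hx => hzero _ (pow_mem hx q) (by
    rw [← QuotientGroup.eq_one_iff]
    exact hexp _ (hQX hx))
  have hgo : orderOf g = q := orderOf_eq_prime (hq1 g hg) hg1
  have hnorm : ∀ t : G, t ∈ Subgroup.normalizer (K : Set G) := fun t => by
    rw [Subgroup.normalizer_eq_top]; exact Subgroup.mem_top t
  have hc : ∀ x ∈ Q', Commute g x := fun x hx => by
    refine commutatorElement_eq_one_iff_commute.1 (hzero _ ?_ ?_)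
    · rw [commutatorElement_def]
      exact Q'.mul_mem (Q'.mul_mem (Q'.mul_mem hg hx) (Q'.inv_mem hg)) (Q'.inv_mem hx)
    · rw [← QuotientGroup.eq_one_iff]
      have hc0 := hcomm _ (hQX hg) _ (hQX hx)
      exact (map_commutatorElement (QuotientGroup.mk' K) g x).trans
        (commutatorElement_eq_one_iff_commute.2 hc0)
  have hle : Q' ≤ Subgroup.zpowers g := fun x hx =>
    h.mem_zpowers_of_commute hq.out hpq hK hK1 hgo (hq1 x hx) (hc x hx) (hnorm g) (hnorm x)
  have := Subgroup.card_le_of_le hle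
  rwa [Nat.card_zpowers, hgo] at this

/-- With a non-trivial normal `p`-subgroup, `p` odd, the Sylow `p`-subgroup is normal. -/
theorem Spec.not_dvd_quotient_pCore (h : Spec G) {p : ℕ} [hp : Fact p.Prime] (hp2 : p ≠ 2)
    (hK : pCore p G ≠ ⊥) : ¬ p ∣ Nat.card (G ⧸ pCore p G) := by
  intro hd
  set K := pCore p G with hKdef
  have hKp : IsPGroup p K := Cores.isPGroup_pCore p G
  haveI hsol : Group.IsSolvable G := by
    by_contra hns
    exact hK (h.eq_bot_of_normal_pGroup hns hp2 hKp)
  haveI : Nontrivial (G ⧸ K) := Finite.one_lt_card_iff_nontrivial.1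
    (hp.out.one_lt.trans_le (Nat.le_of_dvd Nat.card_pos hd))
  obtain ⟨q, hq, A, hAn, hAc, hAq, hA1, -⟩ :=
    BGTypes.exists_normal_abelian_pGroup_le (G := G ⧸ K) (H := ⊤) top_ne_bot
  have hqp : p ≠ q := by
    rintro rfl
    exact hA1 (le_bot_iff.1 ((Cores.pCore_quotient_pCore p G) ▸ Cores.le_pCore hAq))
  have hQ := h.quotient K
  let Ω : Subgroup (G ⧸ K) :=
    { carrier := {x | x ∈ A ∧ x ^ q = 1}
      one_mem' := ⟨A.one_mem, one_pow q⟩
      mul_mem' := fun {a b} ha hb => ⟨A.mul_mem ha.1 hb.1, by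
        rw [Commute.mul_pow (congrArg Subtype.val (hAc.is_comm.comm (⟨a, ha.1⟩ : A) ⟨b, hb.1⟩)),
          ha.2, hb.2, one_mul]⟩
      inv_mem' := fun {a} ha => ⟨A.inv_mem ha.1, by rw [inv_pow, ha.2, inv_one]⟩ }
  haveI hΩn : Ω.Normal := ⟨fun x hx g => ⟨hAn.conj_mem x hx.1 g, by
    rw [← MulAut.conj_apply, ← map_pow, hx.2, map_one]⟩⟩
  obtain ⟨a, ha⟩ : ∃ a : A, orderOf a = q := by
    refine exists_prime_orderOf_dvd_card' q ?_
    haveI := (Subgroup.nontrivial_iff_ne_bot _).2 hA1
    obtain ⟨k, hk, hcard⟩ := hAq.nontrivial_iff_card.1 inferInstance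
    exact hcard ▸ dvd_pow_self q hk.ne'
  have haq : (a : G ⧸ K) ^ q = 1 := by
    rw [← ha, ← Subgroup.orderOf_coe, pow_orderOf_eq_one]
  have haΩ : (a : G ⧸ K) ∈ Ω := ⟨a.2, haq⟩
  have hcard := h.card_le_of_elementary_mod hqp hKp hK (B := Ω) (hAq.to_le fun x hx => hx.1)
    (fun b hb => hb.2)
    (fun x hx y hy => congrArg Subtype.val (hAc.is_comm.comm (⟨x, hx.1⟩ : A) ⟨y, hy.1⟩))
  have heq : Subgroup.zpowers (a : G ⧸ K) = Ω :=
    Subgroup.eq_of_le_of_card_ge (Subgroup.zpowers_le.2 haΩ)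
      (by rw [Nat.card_zpowers, Subgroup.orderOf_coe, ha]; exact hcard)
  have hΩcard : Nat.card Ω = q := by rw [← heq, Nat.card_zpowers, Subgroup.orderOf_coe, ha]
  haveI : Fact q.Prime := hq
  obtain ⟨x, hx⟩ := exists_prime_orderOf_dvd_card' (G := G ⧸ K) p hd
  have hxn : x ∈ Subgroup.normalizer (Ω : Set (G ⧸ K)) := by
    rw [Subgroup.normalizer_eq_top]; exact Subgroup.mem_top x
  haveI : IsCyclic Ω := isCyclic_of_prime_card hΩcard
  let f := Subgroup.normalizerMonoidHom Ω ⟨x, hxn⟩
  have h1 : orderOf f ∣ p := ((orderOf_map_dvd _ _).trans (Subgroup.orderOf_mk x hxn).dvd).trans hx.dvd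
  have h2 : orderOf f ∣ q - 1 := by
    have := orderOf_dvd_natCard f
    rwa [IsCyclic.card_mulAut, hΩcard, Nat.totient_prime hq.out] at this
  have hcop : p.Coprime (q - 1) := by
    have hd1 : p ∣ Nat.card G := hd.trans (Subgroup.card_quotient_dvd_card K)
    have hd2 : q ∣ Nat.card G := by
      refine (dvd_trans ?_ (Subgroup.card_quotient_dvd_card K))
      rw [← hΩcard]
      exact Subgroup.card_subgroup_dvd_card Ω
    rcases h.prime_le hp.out hd1 with rfl | rfl | rfl
    · exact absurd rfl hp2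
    · rcases h.prime_le hq.out hd2 with rfl | rfl | rfl
      · decide
      · exact absurd rfl hqp
      · decide
    · rcases h.prime_le hq.out hd2 with rfl | rfl | rfl
      · decide
      · decide
      · exact absurd rfl hqp
  have hf1 : f = 1 := orderOf_eq_one_iff.1 (Nat.eq_one_of_dvd_coprimes hcop h1 h2)
  have hc : Commute x (a : G ⧸ K) := by
    have := congrArg Subtype.val (DFunLike.congr_fun hf1 ⟨(a : G ⧸ K), haΩ⟩)
    exact mul_inv_eq_iff_eq_mul.1 this
  rcases hQ.eq_one_of_commute hc (by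
    rw [hx, Subgroup.orderOf_coe, ha]; exact (Nat.coprime_primes hp.out hq.out).2 hqp) with e | e
  · rw [e, orderOf_one] at hx; exact hp.out.ne_one hx.symm
  · rw [← Subgroup.orderOf_coe, e, orderOf_one] at ha; exact hq.out.ne_one ha.symm

/-- All `p`-subgroups of a group with non-trivial `p`-core (`p` odd) lie in the core. -/
theorem Spec.le_pCore_of_isPGroup (h : Spec G) {p : ℕ} [hp : Fact p.Prime] (hp2 : p ≠ 2)
    (hK : pCore p G ≠ ⊥) {U : Subgroup G} (hU : IsPGroup p U) : U ≤ pCore p G := by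
  intro x hx
  have hnd := h.not_dvd_quotient_pCore hp2 hK
  obtain ⟨k, hk⟩ := (IsPGroup.iff_orderOf.1 hU) ⟨x, hx⟩
  rw [Subgroup.orderOf_mk] at hk
  rw [← QuotientGroup.eq_one_iff, ← orderOf_eq_one_iff]
  refine Nat.eq_one_of_dvd_coprimes ?_ ((orderOf_map_dvd (QuotientGroup.mk' _) x).trans hk.dvd)
    (orderOf_dvd_natCard _)
  exact ((hp.out.coprime_iff_not_dvd).2 hnd).pow_left k

/-- For odd `p`, distinct Sylow `p`-subgroups meet trivially. -/
theorem Spec.sylow_eq_of_mem (h : Spec G) {p : ℕ} [hp : Fact p.Prime] (hp2 : p ≠ 2) {P Q : Sylow p G}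
    {g : G} (hgP : g ∈ P) (hgQ : g ∈ Q) (hg : g ≠ 1) : P = Q := by
  classical
  by_contra hne
  haveI := Fintype.ofFinite (Sylow p G)
  let s := (Finset.univ : Finset (Sylow p G × Sylow p G)).filter fun x => x.1 ≠ x.2
  obtain ⟨⟨P', Q'⟩, hmem, hmax⟩ := s.exists_max_image
    (fun x => Nat.card ((x.1 : Subgroup G) ⊓ x.2 : Subgroup G)) ⟨(P, Q), by simp [s, hne]⟩
  simp only [s, Finset.mem_filter, Finset.mem_univ, true_and] at hmem hmax
  set K := (P' : Subgroup G) ⊓ Q' with hK
  have hK1 : K ≠ ⊥ := by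
    intro hb
    have h1 := hmax (P, Q) hne
    dsimp only at h1
    rw [hb, Subgroup.card_bot] at h1
    have : ((P : Subgroup G) ⊓ Q : Subgroup G) = ⊥ := Subgroup.eq_bot_of_card_le _ h1
    exact hg (Subgroup.mem_bot.1 (this ▸ ⟨hgP, hgQ⟩))
  set N := Subgroup.normalizer (K : Set G) with hN
  have hKN : K ≤ N := Subgroup.le_normalizer
  haveI : (K.subgroupOf N).Normal :=
    (Subgroup.normal_subgroupOf_iff_le_normalizer hKN).2 le_rfl
  have hKp : IsPGroup p K := P'.isPGroup'.to_le inf_le_left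
  have hcore : pCore p N ≠ ⊥ := fun hb => by
    have := Cores.le_pCore (N := K.subgroupOf N)
      (hKp.of_equiv (Subgroup.subgroupOfEquivOfLe hKN).symm)
    rw [hb, le_bot_iff, Subgroup.subgroupOf_eq_bot] at this
    exact hK1 (disjoint_self.1 (this.mono_right hKN))
  obtain ⟨R, hR⟩ := ((Cores.isPGroup_pCore p N).map N.subtype).exists_le_sylow
  have key : ∀ U : Sylow p G, K < (U : Subgroup G) → ∀ V : Sylow p G,
      (Nat.card ((U : Subgroup G) ⊓ R : Subgroup G) ≤ Nat.card K ∨ U = V) → R = V → U = R := by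
    intro U hlt V hV hRV
    rcases hV with hle | rfl
    swap
    · exact hRV.symm
    exfalso
    have hKU : K ≤ (U : Subgroup G) := hlt.le
    haveI := U.isPGroup'.isNilpotent
    have hne' : K.subgroupOf U < ⊤ := lt_top_iff_ne_top.2 fun e => by
      rw [Subgroup.subgroupOf_eq_top] at e
      exact hlt.not_ge e
    have hn := Group.normalizerCondition_of_isNilpotent _ hne'
    obtain ⟨x, hx, hxK⟩ := SetLike.exists_of_lt hn
    have hxN : (x : G) ∈ N := by
      rw [hN, Subgroup.mem_normalizer_iff]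
      intro y
      have := Subgroup.mem_normalizer_iff.1 hx
      constructor
      · intro hy; exact (this ⟨y, hKU hy⟩).1 hy
      · intro hy
        have hyU : y ∈ (U : Subgroup G) := by
          have := (U : Subgroup G).mul_mem ((U : Subgroup G).mul_mem ((U : Subgroup G).inv_mem x.2) (hKU hy)) x.2
          simpa [mul_assoc] using this
        exact (this ⟨y, hyU⟩).2 hy
    have hxR : (x : G) ∈ R := hR ⟨⟨x, hxN⟩,
      (h.subgroup N).le_pCore_of_isPGroup hp2 hcore
        ((U.isPGroup'.to_le (inf_le_left : (U : Subgroup G) ⊓ N ≤ U)).of_equiv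
          (Subgroup.subgroupOfEquivOfLe inf_le_right).symm) ⟨x.2, hxN⟩, rfl⟩
    have hKR : K ≤ (R : Subgroup G) := fun y hy => hR ⟨⟨y, hKN hy⟩,
      Cores.le_pCore (N := K.subgroupOf N)
        (hKp.of_equiv (Subgroup.subgroupOfEquivOfLe hKN).symm) hy, rfl⟩
    have : K < (U : Subgroup G) ⊓ R :=
      lt_of_le_of_ne (le_inf hKU hKR) fun e => hxK (show (x : G) ∈ K from e ▸ ⟨x.2, hxR⟩)
    exact absurd hle (not_le.2 (Set.ncard_lt_ncard this (Set.toFinite _)))
  have hsub : ∀ U V : Sylow p G, U ≠ V → (U : Subgroup G) ⊓ V = K → U = R ∧ V = R → False :=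
    fun U V hUV _ hh => hUV (hh.1.trans hh.2.symm)
  have hlt1 : K < (P' : Subgroup G) := lt_of_le_of_ne inf_le_left fun e => hmem
    (Sylow.ext (P'.is_maximal' Q'.isPGroup' (inf_eq_left.1 e)).symm)
  have hlt2 : K < (Q' : Subgroup G) := lt_of_le_of_ne inf_le_right fun e => hmem
    (Sylow.ext (Q'.is_maximal' P'.isPGroup' (inf_eq_right.1 e)))
  have hcl : ∀ U : Sylow p G, K < (U : Subgroup G) → U = R := fun U hU => by
    by_cases e : U = R
    · exact e
    · exact key U hU R (Or.inl (hmax (U, R) e)) rfl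
  exact hsub P' Q' hmem rfl ⟨hcl P' hlt1, hcl Q' hlt2⟩

theorem Spec.orderOf_of_mem_sylow (h : Spec G) {p : ℕ} [hp : Fact p.Prime] (hp2 : p ≠ 2)
    {P : Sylow p G} {g : G} (hg : g ∈ P) (hg1 : g ≠ 1) : orderOf g = p := by
  obtain ⟨k, hk⟩ := (IsPGroup.iff_orderOf.1 P.isPGroup') ⟨g, hg⟩
  have e := Subgroup.orderOf_mk g hg
  rw [e] at hk
  have hle := h g
  have h3 : 3 ≤ p := by
    have := hp.out.two_le
    omega
  rcases k with _ | _ | k
  · exact absurd (orderOf_eq_one_iff.1 hk) hg1
  · rwa [pow_one] at hk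
  · have := Nat.pow_le_pow_right (show 1 ≤ p by omega) (show 2 ≤ k + 1 + 1 by omega)
    nlinarith

theorem exists_mem_sylow {p : ℕ} [Fact p.Prime] {g : G} (hg : orderOf g = p) :
    ∃ P : Sylow p G, g ∈ P := by
  obtain ⟨P, hP⟩ := (IsPGroup.of_card (G := Subgroup.zpowers g) (n := 1)
    (by rw [pow_one, Nat.card_zpowers, hg])).exists_le_sylow
  exact ⟨P, hP (Subgroup.mem_zpowers g)⟩

/-- The number of elements of odd prime order. -/
theorem Spec.card_orderOf_eq (h : Spec G) {p : ℕ} [hp : Fact p.Prime] (hp2 : p ≠ 2) (P : Sylow p G) :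
    Nat.card {g : G // orderOf g = p} * Nat.card (Subgroup.normalizer (P : Set G)) =
      Nat.card G * (Nat.card P - 1) := by
  classical
  haveI := Fintype.ofFinite (Sylow p G)
  let f : (Σ Q : Sylow p G, {x : Q // x ≠ 1}) → {g : G // orderOf g = p} := fun x =>
    ⟨(x.2.1 : G), h.orderOf_of_mem_sylow hp2 x.2.1.2
      (fun e => x.2.2 (Subtype.ext e))⟩
  have hf : Function.Bijective f := by
    constructor
    · rintro ⟨Q, ⟨x, hx⟩, hx1⟩ ⟨Q', ⟨x', hx'⟩, hx'1⟩ e
      obtain rfl : x = x' := congrArg Subtype.val e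
      obtain rfl := h.sylow_eq_of_mem hp2 hx hx' (fun e => hx1 (Subtype.ext e))
      rfl
    · rintro ⟨g, hg⟩
      obtain ⟨Q, hQ⟩ := exists_mem_sylow hg
      refine ⟨⟨Q, ⟨g, hQ⟩, fun e => ?_⟩, rfl⟩
      rw [show g = 1 from congrArg Subtype.val e, orderOf_one] at hg
      exact hp.out.ne_one hg.symm
  have hc : ∀ Q : Sylow p G, Nat.card {x : Q // x ≠ 1} = Nat.card P - 1 := fun Q => by
    rw [show Nat.card P = Nat.card Q by rw [P.card_eq_multiplicity, Q.card_eq_multiplicity]]
    haveI := Fintype.ofFinite Q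
    simp only [Nat.card_eq_fintype_card, Fintype.card_subtype_compl, Fintype.card_subtype_eq]
    rfl
  rw [← Nat.card_congr (Equiv.ofBijective f hf), Nat.card_sigma, Finset.sum_congr rfl
    (fun Q _ => hc Q), Finset.sum_const, Finset.card_univ, ← Nat.card_eq_fintype_card, smul_eq_mul,
    Sylow.card_eq_index_normalizer P, ← Subgroup.card_mul_index (Subgroup.normalizer (P : Set G))]
  ring

theorem mem_normalizer_sylow_of_inverts (h : Spec G) {p : ℕ} [hp : Fact p.Prime] (hp2 : p ≠ 2)
    {P : Sylow p G} {g u : G} (hg : g ∈ P) (hg1 : g ≠ 1) (hu : u * g * u⁻¹ = g⁻¹) :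
    u ∈ Subgroup.normalizer (P : Set G) := by
  refine Sylow.smul_eq_iff_mem_normalizer.1 (h.sylow_eq_of_mem hp2 (g := g⁻¹) ?_
    ((P : Subgroup G).inv_mem hg) (inv_ne_one.2 hg1))
  rw [← hu]
  exact Subgroup.smul_mem_pointwise_smul g (MulAut.conj u) _ hg

/-- The counting data at an odd prime: `P` is the Sylow order, `h` the index in the normaliser and
`e` says whether the normaliser contains involutions. -/
theorem Spec.oddData (h : Spec G) {p q : ℕ} [hp : Fact p.Prime] (hpq : p = 3 ∧ q = 5 ∨ p = 5 ∧ q = 3)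
    (hd : p ∣ Nat.card G) : ∃ k e : ℕ, ((k = 1 ∨ k = q) ∧ e = 0 ∨ (k = 2 ∨ k = 4 ∨ k = 8) ∧ e = 1) ∧
      Nat.card {g : G // orderOf g = p} * (k * p ^ (Nat.card G).factorization p) =
        Nat.card G * (p ^ (Nat.card G).factorization p - 1) ∧
      ∀ g : G, orderOf g = p → Nat.card {u : G // orderOf u = 2 ∧ u * g * u⁻¹ = g⁻¹} =
        e * p ^ (Nat.card G).factorization p := by
  classical
  haveI := Fact.mk Nat.prime_two
  have hp2 : p ≠ 2 := by omega
  have hqp : q.Prime := by rcases hpq with ⟨-, rfl⟩ | ⟨-, rfl⟩ <;> norm_num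
  haveI := Fact.mk hqp
  -- the data at one Sylow subgroup
  have main : ∀ P : Sylow p G, ∃ k e : ℕ, ((k = 1 ∨ k = q) ∧ e = 0 ∨ (k = 2 ∨ k = 4 ∨ k = 8) ∧ e = 1) ∧
      Nat.card (Subgroup.normalizer (P : Set G)) = k * Nat.card P ∧ (e = 1 ↔ Even k) ∧
      Nat.card {u : G // orderOf u = 2 ∧ u ∈ Subgroup.normalizer (P : Set G)} = e * Nat.card P := by
    intro P
    set N := Subgroup.normalizer (P : Set G) with hN
    have hPN : (P : Subgroup G) ≤ N := Subgroup.le_normalizer
    haveI hPn : ((P : Subgroup G).subgroupOf N).Normal :=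
      (Subgroup.normal_subgroupOf_iff_le_normalizer hPN).2 le_rfl
    have hP1 : (P : Subgroup G) ≠ ⊥ := fun e => by
      have := P.dvd_card_of_dvd_card hd
      rw [e, Subgroup.card_bot, Nat.dvd_one] at this
      exact hp.out.ne_one this
    have hC : ∀ c, (∀ v ∈ (P : Subgroup G), Commute c v) → c ∈ (P : Subgroup G) := by
      intro c hc
      obtain ⟨v, hv, hv1⟩ := (Subgroup.bot_or_exists_ne_one (P : Subgroup G)).resolve_left hP1
      have hCp : IsPGroup p (Subgroup.centralizer ((P : Subgroup G) : Set G)) :=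
        (h.isPGroup_centralizer (h.orderOf_of_mem_sylow hp2 hv hv1)).to_le
          (Subgroup.centralizer_le (Set.singleton_subset_iff.2 hv))
      have hsup := P.is_maximal' (hCp.to_sup_of_normal_right' P.isPGroup'
        (Subgroup.centralizer_le_normalizer _)) le_sup_right
      rw [← hsup]
      exact Subgroup.mem_sup_left (Subgroup.mem_centralizer_iff.2 fun w hw => (hc w hw).eq.symm)
    set k := ((P : Subgroup G).subgroupOf N).index with hk
    have hcard : Nat.card N = k * Nat.card P := by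
      rw [← Subgroup.card_mul_index ((P : Subgroup G).subgroupOf N), ← hk,
        Nat.card_congr (Subgroup.subgroupOfEquivOfLe hPN).toEquiv, mul_comm]
    have hpk : ¬ p ∣ k := (P.subtype hPN).not_dvd_index
    have hk8 : k ∣ 8 * q := by
      refine (Nat.dvd_iff_prime_pow_dvd_dvd _ _).2 fun r i hr hri => ?_
      rcases Nat.eq_zero_or_pos i with rfl | hi
      · simp
      haveI := Fact.mk hr
      have hrk : r ∣ k := (dvd_pow_self r hi.ne').trans hri
      have hrp : r ≠ p := fun e => hpk (e ▸ hrk)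
      obtain ⟨R, hR⟩ := Sylow.exists_subgroup_card_pow_prime (G := N) r (n := i)
        (hcard ▸ hri.mul_right _)
      have hR' : IsPGroup r (R.map N.subtype) := (IsPGroup.of_card hR).map _
      have hb := h.card_dvd_of_fpf hrp hR' P.isPGroup' hP1 (Subgroup.map_subtype_le R)
      rw [Subgroup.card_map_of_injective N.subtype_injective, hR] at hb
      have hrG : r ∣ Nat.card G := hrk.trans ((Subgroup.index_dvd_card _).trans
        (Subgroup.card_subgroup_dvd_card N))
      rcases eq_or_ne r 2 with rfl | hr2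
      · rw [if_pos rfl] at hb
        exact hb.mul_right q
      · rw [if_neg hr2] at hb
        have hrq : r = q := by
          rcases h.prime_le hr hrG with e | e | e <;> omega
        subst hrq
        exact hb.mul_left 8
    by_cases hev : 2 ∣ k
    · have h2N : 2 ∣ Nat.card N := hcard ▸ hev.mul_right _
      obtain ⟨s, hs⟩ := exists_prime_orderOf_dvd_card' (G := N) 2 h2N
      have hsG : orderOf (s : G) = 2 := by rw [Subgroup.orderOf_coe, hs]
      have hinv := fun v (hv : v ∈ (P : Subgroup G)) => h.inverts hp2 P.isPGroup' hsG s.2 hv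
      have hq : ¬ q ∣ k := by
        intro hqk
        have hqN : q ∣ Nat.card N := hcard ▸ hqk.mul_right _
        obtain ⟨g, hg⟩ := exists_prime_orderOf_dvd_card' (G := N) q hqN
        have hc : ((s : G) * g * (s : G)⁻¹ * (g : G)⁻¹) ∈ (P : Subgroup G) := by
          refine hC _ fun v hv => mul_inv_eq_iff_eq_mul.1 ?_
          have h1 := conj_mem_of_mem_normalizer (inv_mem g.2) hv
          have h2 := hinv _ hv
          calc (s : G) * g * (s : G)⁻¹ * (g : G)⁻¹ * v * ((s : G) * g * (s : G)⁻¹ * (g : G)⁻¹)⁻¹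
              = (s : G) * ((g : G) * ((s : G)⁻¹ * ((g : G)⁻¹ * v * ((g : G)⁻¹)⁻¹) * (s : G)) *
                  (g : G)⁻¹) * (s : G)⁻¹ := by group
            _ = (s : G) * ((g : G) * ((g : G)⁻¹ * v * ((g : G)⁻¹)⁻¹)⁻¹ * (g : G)⁻¹) *
                  (s : G)⁻¹ := by
                have h3 := hinv _ h1
                congr 3
                rw [← h3]
                have hss : (s : G) * s = 1 := by rw [← sq, ← hsG, pow_orderOf_eq_one]
                rw [inv_eq_of_mul_eq_one_left hss]
            _ = ((s : G) * v * (s : G)⁻¹)⁻¹ := by group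
            _ = v := by rw [h2, inv_inv]
        have hcc : Commute (QuotientGroup.mk' ((P : Subgroup G).subgroupOf N) s)
            (QuotientGroup.mk' ((P : Subgroup G).subgroupOf N) g) := by
          rw [← commutatorElement_eq_one_iff_commute, ← map_commutatorElement,
            QuotientGroup.mk'_apply, QuotientGroup.eq_one_iff]
          exact hc
        have hord : ∀ (x : N) (r : ℕ), r.Prime → r ≠ p → orderOf x = r →
            orderOf (QuotientGroup.mk' ((P : Subgroup G).subgroupOf N) x) = r := by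
          intro x r hr hrp hx
          refine ((Nat.dvd_prime hr).1 (hx ▸ orderOf_map_dvd _ x)).resolve_left fun e => ?_
          rw [orderOf_eq_one_iff, QuotientGroup.mk'_apply, QuotientGroup.eq_one_iff] at e
          have hx1 : (x : G) ≠ 1 := fun e => by
            rw [← Subgroup.orderOf_coe, e, orderOf_one] at hx
            exact hr.ne_one hx.symm
          have := h.orderOf_of_mem_sylow hp2 (show (x : G) ∈ P from e) hx1
          rw [Subgroup.orderOf_coe, hx] at this
          exact hrp this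
        have o1 := hord s 2 Nat.prime_two (Ne.symm hp2) hs
        have o2 := hord g q hqp (by omega) hg
        rcases ((h.subgroup N).quotient _).eq_one_of_commute hcc
          (by rw [o1, o2]; exact (Nat.coprime_primes Nat.prime_two hqp).2 (by omega)) with e | e
        · rw [e, orderOf_one] at o1; omega
        · rw [e, orderOf_one] at o2; omega
      have hk8' : k ∣ 8 := ((hqp.coprime_iff_not_dvd).2 hq).symm.dvd_of_dvd_mul_right hk8
      refine ⟨k, 1, Or.inr ⟨?_, rfl⟩, hcard, ⟨fun _ => even_iff_two_dvd.2 hev, fun _ => rfl⟩, ?_⟩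
      · have := Nat.le_of_dvd (by norm_num) hk8'
        interval_cases k <;> omega
      rw [one_mul]
      refine (Nat.card_congr (Equiv.ofBijective (fun v : P => (⟨(s : G) * v, ?_, ?_⟩ :
        {u : G // orderOf u = 2 ∧ u ∈ Subgroup.normalizer (P : Set G)})) ⟨?_, ?_⟩)).symm
      · refine orderOf_eq_prime ?_ fun e => ?_
        · have h3 := hinv _ v.2
          have hss : (s : G) * s = 1 := by rw [← sq, ← hsG, pow_orderOf_eq_one]
          rw [inv_eq_of_mul_eq_one_left hss] at h3
          calc ((s : G) * v) ^ 2 = ((s : G) * v * s) * v := by rw [sq]; group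
            _ = 1 := by rw [h3, inv_mul_cancel]
        · have hsP : (s : G) ∈ (P : Subgroup G) := by
            rw [mul_eq_one_iff_eq_inv] at e
            rw [e]
            exact (P : Subgroup G).inv_mem v.2
          have := h.orderOf_of_mem_sylow hp2 hsP fun e => by rw [e, orderOf_one] at hsG; omega
          omega
      · exact N.mul_mem s.2 (hPN v.2)
      · intro a b hab
        exact Subtype.ext (mul_left_cancel (congrArg Subtype.val hab))
      · rintro ⟨u, hu2, huN⟩
        refine ⟨⟨(s : G)⁻¹ * u, hC _ fun v hv => mul_inv_eq_iff_eq_mul.1 ?_⟩, Subtype.ext ?_⟩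
        · have h3 := hinv _ hv
          have h4 := h.inverts hp2 P.isPGroup' hu2 huN hv
          calc (s : G)⁻¹ * u * v * ((s : G)⁻¹ * u)⁻¹ = (s : G)⁻¹ * (u * v * u⁻¹) * s := by group
            _ = v := by rw [h4, ← h3]; group
        · simp
    · have hkq : k ∣ q :=
        ((show (2 ^ 3).Coprime k from (Nat.Coprime.pow_left 3
          ((Nat.prime_two.coprime_iff_not_dvd).2 hev)))).symm.dvd_of_dvd_mul_left hk8
      refine ⟨k, 0, Or.inl ⟨(Nat.dvd_prime hqp).1 hkq, rfl⟩, hcard,
        ⟨fun e => absurd e zero_ne_one, fun e => absurd (even_iff_two_dvd.1 e) hev⟩, ?_⟩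
      rw [zero_mul, Nat.card_eq_zero]
      refine Or.inl ⟨fun ⟨u, hu, huN⟩ => ?_⟩
      have h2 : 2 ∣ k * Nat.card P := by
        rw [← hcard, ← hu, ← Subgroup.orderOf_mk u huN]
        exact orderOf_dvd_natCard _
      rcases Nat.prime_two.dvd_mul.1 h2 with h2 | h2
      · exact hev h2
      · obtain ⟨i, hi⟩ := (IsPGroup.iff_card).1 P.isPGroup'
        rw [hi] at h2
        exact hp2 ((Nat.prime_dvd_prime_iff_eq Nat.prime_two hp.out).1
          (Nat.prime_two.dvd_of_dvd_pow h2)).symm
  obtain ⟨P⟩ := (inferInstance : Nonempty (Sylow p G))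
  obtain ⟨k, e, hke, hcard, hev, -⟩ := main P
  refine ⟨k, e, hke, ?_, ?_⟩
  · have := h.card_orderOf_eq hp2 P
    rwa [hcard, P.card_eq_multiplicity] at this
  intro g hg
  obtain ⟨Q, hgQ⟩ := exists_mem_sylow hg
  obtain ⟨k', e', hke', hcard', hev', hcount⟩ := main Q
  have hPQ : Nat.card (Subgroup.normalizer (P : Set G)) = Nat.card (Subgroup.normalizer (Q : Set G)) := by
    refine Nat.eq_of_mul_eq_mul_right (Nat.pos_of_ne_zero
      (Subgroup.index_ne_zero_of_finite (H := Subgroup.normalizer (P : Set G)))) ?_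
    rw [Subgroup.card_mul_index]
    rw [← Sylow.card_eq_index_normalizer P, Sylow.card_eq_index_normalizer Q, Subgroup.card_mul_index]
  rw [hcard, hcard', P.card_eq_multiplicity, Q.card_eq_multiplicity] at hPQ
  have hkk : k = k' := Nat.eq_of_mul_eq_mul_right (pow_pos hp.out.pos _) hPQ
  subst hkk
  have hee : e' = e := by
    rcases hke with ⟨hk, he⟩ | ⟨hk, he⟩ <;> rcases hke' with ⟨hk', he'⟩ | ⟨hk', he'⟩ <;> omega
  rw [← hee, ← Q.card_eq_multiplicity, ← hcount]
  have hg1 : g ≠ 1 := fun e => by rw [e, orderOf_one] at hg; exact hp.out.ne_one hg.symm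
  refine Nat.card_congr (Equiv.subtypeEquivRight fun u => and_congr_right fun hu => ⟨?_, ?_⟩)
  · exact mem_normalizer_sylow_of_inverts h hp2 hgQ hg1
  · exact fun huN => h.inverts hp2 Q.isPGroup' hu huN hgQ

end CfsgLib.SmallSpectrum
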