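import Cfsg.Agent.Lib.SmallSpectrum.TI

/-!
# A maximal intersection of Sylow 2-subgroups: weak closure and the count of 2-elements
-/

set_option autoImplicit false
set_option linter.unusedSectionVars false
set_option linter.style.haveILetI false

namespace CfsgLib.SmallSpectrum

open Cfsg
open scoped Pointwise

universe u

variable {G : Type u} [Group G] [Finite G]

/-- The image of a subgroup under conjugation. -/
abbrev conjSub (g : G) (A : Subgroup G) : Subgroup G := A.map (MulAut.conj g).toMonoidHom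

theorem mem_conjSub {g x : G} {A : Subgroup G} :
    x ∈ conjSub g A ↔ g⁻¹ * x * g ∈ A := by
  constructor
  · rintro ⟨y, hy, rfl⟩
    simpa [MulAut.conj_apply, mul_assoc] using hy
  · intro hx
    exact ⟨_, hx, by simp [MulAut.conj_apply, mul_assoc]⟩

theorem conj_mem_conjSub {g x : G} {A : Subgroup G} (hx : x ∈ A) : g * x * g⁻¹ ∈ conjSub g A :=
  ⟨x, hx, rfl⟩

theorem card_conjSub (g : G) (A : Subgroup G) : Nat.card (conjSub g A) = Nat.card A :=
  Subgroup.card_map_of_injective (MulAut.conj g).injective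

theorem conjSub_conjSub (g h : G) (A : Subgroup G) : conjSub g (conjSub h A) = conjSub (g * h) A := by
  ext x
  simp only [mem_conjSub, mul_inv_rev, mul_assoc]

theorem conjSub_eq_iff_mem_normalizer {g : G} {A : Subgroup G} :
    conjSub g A = A ↔ g ∈ Subgroup.normalizer (A : Set G) := by
  constructor
  · intro h
    rw [Subgroup.mem_normalizer_iff]
    intro x
    constructor
    · intro hx
      rw [← h]
      exact conj_mem_conjSub hx
    · intro hx
      rw [← h, mem_conjSub] at hx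
      simpa [mul_assoc] using hx
  · intro h
    ext x
    rw [mem_conjSub, Subgroup.mem_normalizer_iff.1 h (g⁻¹ * x * g)]
    simp [mul_assoc]

theorem conjSub_one (A : Subgroup G) : conjSub 1 A = A :=
  conjSub_eq_iff_mem_normalizer.2 (one_mem _)

theorem sq_of_conjSub {A : Subgroup G} (h : ∀ x ∈ A, x ^ 2 = 1) (g : G) :
    ∀ x ∈ conjSub g A, x ^ 2 = 1 := by
  rintro _ ⟨y, hy, rfl⟩
  rw [← map_pow, h y hy, map_one]

/-- The data attached to a maximal intersection `D` of Sylow 2-subgroups. -/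
structure InterData (G : Type u) [Group G] where
  D : Subgroup G
  S : Sylow 2 G
  F : Subgroup G
  k : ℕ
  s : G
  sq : ∀ x ∈ D, x ^ 2 = 1
  D_le : D ≤ (S : Subgroup G)
  F_le : F ≤ D
  F_ne : F ≠ ⊥
  F_central : ∀ f ∈ F, ∀ t ∈ S, t ∈ Subgroup.normalizer (D : Set G) → Commute f t
  card_D : Nat.card D = Nat.card F * Nat.card F
  card_T : Nat.card ((S : Subgroup G) ⊓ Subgroup.normalizer (D : Set G) : Subgroup G) = k * Nat.card D
  k_le : k ≤ Nat.card F
  k_mem : k = 2 ∨ k = 4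
  cent : ∀ t ∈ S, t ∈ Subgroup.normalizer (D : Set G) → t ∉ D → ∀ x ∈ D, Commute t x → x ∈ F
  s_mem : s ∈ S
  s_norm : s ∈ Subgroup.normalizer (D : Set G)
  s_not : s ∉ D
  s_sq : s * s = 1
  cosets : ∀ t ∈ S, t ∈ Subgroup.normalizer (D : Set G) → t ∉ D →
    ∃ g ∈ Subgroup.normalizer (D : Set G), (g * s * g⁻¹)⁻¹ * t ∈ D
  conj_D : Nat.card F = k → ∀ x ∈ D, ∀ y ∈ D, x ≠ 1 → y ≠ 1 → IsConj x y

namespace InterData

variable (I : InterData G)

/-- The Sylow subgroup of the local subgroup. -/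
abbrev T : Subgroup G := (I.S : Subgroup G) ⊓ Subgroup.normalizer (I.D : Set G)

theorem D_le_T : I.D ≤ I.T := le_inf I.D_le Subgroup.le_normalizer

theorem comm {x y : G} (hx : x ∈ I.D) (hy : y ∈ I.D) : Commute x y := commute_of_sq_eq_one I.sq hx hy

theorem inv_eq {x : G} (hx : x ∈ I.D) : x⁻¹ = x :=
  inv_eq_of_mul_eq_one_left (by rw [← pow_two, I.sq x hx])

theorem relIndex_T : I.D.relIndex I.T = I.k := by
  have h := Subgroup.card_mul_index (I.D.subgroupOf I.T)
  rw [Nat.card_congr (Subgroup.subgroupOfEquivOfLe I.D_le_T).toEquiv, ← Subgroup.relIndex] at h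
  exact Nat.eq_of_mul_eq_mul_left (Nat.card_pos (α := I.D)) (by rw [h, I.card_T, mul_comm])

/-- An involution of `T` outside `D` maps `D` onto `F` by `d ↦ d * t d t⁻¹`. -/
theorem exists_preimage {t : G} (ht : t ∈ I.T) (htD : t ∉ I.D) (htt : t * t = 1) {f : G}
    (hf : f ∈ I.F) : ∃ d ∈ I.D, d * (t * d * t⁻¹) = f := by
  have hti : t⁻¹ = t := inv_eq_of_mul_eq_one_left htt
  have hmem : ∀ d ∈ I.D, t * d * t⁻¹ ∈ I.D := fun d hd => conj_mem_of_mem_normalizer ht.2 hd
  let a : I.D →* I.D :=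
    { toFun := fun d => ⟨d * (t * d * t⁻¹), I.D.mul_mem d.2 (hmem d d.2)⟩
      map_one' := Subtype.ext (by simp)
      map_mul' := fun x y => Subtype.ext (by
        change (x : G) * y * (t * ((x : G) * y) * t⁻¹) =
          (x : G) * (t * x * t⁻¹) * ((y : G) * (t * y * t⁻¹))
        have hc := (I.comm y.2 (hmem x x.2)).eq
        calc (x : G) * y * (t * ((x : G) * y) * t⁻¹)
            = (x : G) * ((y : G) * (t * x * t⁻¹)) * (t * y * t⁻¹) := by group
          _ = (x : G) * (t * x * t⁻¹) * ((y : G) * (t * y * t⁻¹)) := by rw [hc]; group) }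
  have hker : a.ker = I.F.subgroupOf I.D := by
    ext x
    rw [MonoidHom.mem_ker, Subgroup.mem_subgroupOf, Subtype.ext_iff]
    change (x : G) * (t * x * t⁻¹) = 1 ↔ _
    constructor
    · intro e
      refine I.cent t ht.1 ht.2 htD x x.2 (mul_inv_eq_iff_eq_mul.1 ?_)
      rw [eq_inv_of_mul_eq_one_right e, I.inv_eq x.2]
    · intro hxF
      have hc := (I.F_central x hxF t ht.1 ht.2).symm
      rw [hc.eq, mul_inv_cancel_right, ← pow_two, I.sq x x.2]
  have hle : a.range ≤ I.F.subgroupOf I.D := by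
    rintro _ ⟨x, rfl⟩
    rw [Subgroup.mem_subgroupOf]
    refine I.cent t ht.1 ht.2 htD _ (a x).2 (mul_inv_eq_iff_eq_mul.1 ?_)
    change t * ((x : G) * (t * x * t⁻¹)) * t⁻¹ = (x : G) * (t * x * t⁻¹)
    have hc := (I.comm x.2 (hmem x x.2)).eq
    rw [hc, hti]
    calc t * (t * x * t * x) * t = (t * t) * x * (t * x * t) := by group
      _ = t * x * t * x := by
        rw [htt, one_mul]
        have := hc
        rw [hti] at this
        exact this
  have heq : a.range = I.F.subgroupOf I.D := by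
    refine Subgroup.eq_of_le_of_card_ge hle ?_
    have h := Subgroup.card_mul_index a.ker
    rw [Subgroup.index_ker, hker, Nat.card_congr (Subgroup.subgroupOfEquivOfLe I.F_le).toEquiv,
      I.card_D] at h
    rw [Nat.card_congr (Subgroup.subgroupOfEquivOfLe I.F_le).toEquiv]
    exact (Nat.eq_of_mul_eq_mul_left Nat.card_pos h).ge
  obtain ⟨d, hd⟩ := (heq.symm ▸ (hf : (⟨f, I.F_le hf⟩ : I.D) ∈ I.F.subgroupOf I.D) :
    (⟨f, I.F_le hf⟩ : I.D) ∈ a.range)
  exact ⟨d, d.2, congrArg Subtype.val hd⟩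

/-- A rival of `D` in `T`. -/
def IsRival (A : Subgroup G) : Prop :=
  A ≤ I.T ∧ A ≠ I.D ∧ Nat.card A = Nat.card I.D ∧ ∀ x ∈ A, x ^ 2 = 1

theorem rival_props {A : Subgroup G} (hA : I.IsRival A) :
    A ⊓ I.D = I.F ∧ Nat.card I.F = I.k ∧ ∀ t ∈ I.T, t ∉ I.D → t * t = 1 → t ∈ A := by
  obtain ⟨hAT, hne, hcard, hA2⟩ := hA
  obtain ⟨t0, ht0, ht0D⟩ : ∃ t ∈ A, t ∉ I.D := by
    by_contra hh
    push Not at hh
    exact hne (Subgroup.eq_of_le_of_card_ge hh hcard.ge)
  have hle : A ⊓ I.D ≤ I.F := fun x hx => I.cent t0 (hAT ht0).1 (hAT ht0).2 ht0D x hx.2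
    (commute_of_sq_eq_one hA2 ht0 hx.1)
  have hrel : I.D.relIndex A ≤ I.k := by
    rw [← I.relIndex_T]
    exact Subgroup.relIndex_le_of_le_right hAT (by
      rw [I.relIndex_T]; rcases I.k_mem with e | e <;> omega)
  have hprod : Nat.card (A ⊓ I.D : Subgroup G) * I.D.relIndex A = Nat.card A := by
    rw [← Subgroup.inf_relIndex_left A I.D, ← Subgroup.relIndex_bot_left, ← Subgroup.relIndex_bot_left,
      Subgroup.relIndex_mul_relIndex ⊥ (A ⊓ I.D) A bot_le inf_le_left]
  have h1 : Nat.card (A ⊓ I.D : Subgroup G) ≤ Nat.card I.F := Subgroup.card_le_of_le hle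
  rw [hcard, I.card_D] at hprod
  have hFpos := Nat.card_pos (α := I.F)
  have hk := I.k_le
  have e1 : Nat.card (A ⊓ I.D : Subgroup G) = Nat.card I.F := by nlinarith
  rw [e1] at hprod
  have e2 : I.D.relIndex A = Nat.card I.F := Nat.eq_of_mul_eq_mul_left hFpos hprod
  have e3 : Nat.card I.F = I.k := by omega
  have hF : A ⊓ I.D = I.F := Subgroup.eq_of_le_of_card_ge hle e1.ge
  refine ⟨hF, e3, fun t ht htD htt => ?_⟩
  let φ := Subgroup.quotientSubgroupOfEmbeddingOfLE I.D hAT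
  have hbij : Function.Surjective φ :=
    (φ.injective.bijective_of_nat_card_le (by
      rw [← Subgroup.index_eq_card, ← Subgroup.index_eq_card, ← Subgroup.relIndex, ← Subgroup.relIndex,
        I.relIndex_T, e2, e3])).2
  obtain ⟨q, hq⟩ := hbij (QuotientGroup.mk (⟨t, ht⟩ : I.T))
  obtain ⟨a, rfl⟩ := QuotientGroup.mk_surjective q
  have hd : (a : G)⁻¹ * t ∈ I.D := (QuotientGroup.eq (s := I.D.subgroupOf I.T) (a := Subgroup.inclusion hAT a) (b := ⟨t, ht⟩)).1 hq
  have haa : (a : G) * a = 1 := by rw [← pow_two, hA2 a a.2]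
  have hai : (a : G)⁻¹ = a := inv_eq_of_mul_eq_one_left haa
  have haD : (a : G) ∉ I.D := fun h => htD (by
    have := I.D.mul_mem h hd
    rwa [mul_inv_cancel_left] at this)
  have hdF : (a : G)⁻¹ * t ∈ I.F := by
    refine I.cent a (hAT a.2).1 (hAT a.2).2 haD _ hd ?_
    have hdi := I.inv_eq hd
    rw [mul_inv_rev, inv_inv, inv_eq_of_mul_eq_one_left htt] at hdi
    change (a : G) * ((a : G)⁻¹ * t) = (a : G)⁻¹ * t * a
    rw [mul_inv_cancel_left, hai]
    rw [hai] at hdi
    rw [← hdi, mul_assoc, haa, mul_one]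
  have := A.mul_mem a.2 ((hF.symm ▸ hdF : (a : G)⁻¹ * t ∈ A ⊓ I.D)).1
  rwa [mul_inv_cancel_left] at this

theorem rival_unique {A B : Subgroup G} (hA : I.IsRival A) (hB : I.IsRival B) : A = B := by
  refine Subgroup.eq_of_le_of_card_ge (fun x hx => ?_) (hB.2.2.1.trans hA.2.2.1.symm).le
  obtain ⟨hAF, -, -⟩ := I.rival_props hA
  obtain ⟨hBF, -, hBi⟩ := I.rival_props hB
  by_cases hxD : x ∈ I.D
  · exact (hBF.symm ▸ (hAF ▸ ⟨hx, hxD⟩ : x ∈ I.F) : x ∈ B ⊓ I.D).1
  · exact hBi x (hA.1 hx) hxD (by rw [← pow_two, hA.2.2.2 x hx])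

theorem T_eq (h : Spec G) : I.T = (I.S : Subgroup G) := by
  haveI := Fact.mk Nat.prime_two
  by_contra hne
  haveI := I.S.isPGroup'.isNilpotent
  have hlt : I.T.subgroupOf I.S < ⊤ := lt_top_iff_ne_top.2 fun e => by
    rw [Subgroup.subgroupOf_eq_top] at e
    exact hne (le_antisymm inf_le_left e)
  obtain ⟨e, he, heT⟩ := SetLike.exists_of_lt (Group.normalizerCondition_of_isNilpotent _ hlt)
  set x : G := (e : G) with hx
  have hxS : x ∈ (I.S : Subgroup G) := e.2
  have hxH : x ∉ Subgroup.normalizer (I.D : Set G) := fun hh => heT ⟨hxS, hh⟩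
  have hconjT : ∀ y ∈ I.T, x * y * x⁻¹ ∈ I.T := fun y hy =>
    (Subgroup.mem_normalizer_iff.1 he ⟨y, hy.1⟩).1 hy
  set A := conjSub x I.D with hA
  have hAr : I.IsRival A := by
    refine ⟨?_, fun hh => hxH (conjSub_eq_iff_mem_normalizer.1 hh), card_conjSub x _,
      sq_of_conjSub I.sq x⟩
    rintro _ ⟨y, hy, rfl⟩
    exact hconjT y (I.D_le_T hy)
  obtain ⟨hAF, -, hAi⟩ := I.rival_props hAr
  have hA2 : conjSub x A = I.D := by
    by_contra hh
    have hr : I.IsRival (conjSub x A) := by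
      refine ⟨?_, hh, (card_conjSub x _).trans hAr.2.2.1, sq_of_conjSub hAr.2.2.2 x⟩
      rintro _ ⟨y, hy, rfl⟩
      exact hconjT y (hAr.1 hy)
    have h1 := congrArg (conjSub x⁻¹) (I.rival_unique hr hAr)
    rw [conjSub_conjSub, inv_mul_cancel, conjSub_one] at h1
    conv_rhs at h1 => rw [hA, conjSub_conjSub, inv_mul_cancel, conjSub_one]
    exact hAr.2.1 h1
  have hFfix : ∀ f ∈ I.F, x * f * x⁻¹ ∈ I.F := fun f hf => by
    rw [← hAF] at hf ⊢
    exact ⟨conj_mem_conjSub hf.2, hA2 ▸ conj_mem_conjSub hf.1⟩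
  have hx2T : x * x ∈ I.T := ⟨(I.S : Subgroup G).mul_mem hxS hxS, conjSub_eq_iff_mem_normalizer.1 (by
    rw [← conjSub_conjSub]; exact hA2)⟩
  have hx4 : x ^ 4 = 1 := h.pow_four_of_mem I.S.isPGroup' (pow_mem hxS 2)
  have hxxF : x * x ∈ I.F := by
    have hh : (x * x) * (x * x) = 1 := by rw [← hx4]; simp [pow_succ, mul_assoc]
    have hfix : x * (x * x) * x⁻¹ = x * x := by group
    by_cases hD : x * x ∈ I.D
    · rw [← hAF]
      exact ⟨by rw [← hfix]; exact conj_mem_conjSub hD, hD⟩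
    · exact absurd (by rw [← hfix, ← hA2]; exact conj_mem_conjSub (hAi _ hx2T hD hh)) hD
  obtain ⟨a, haD, haF⟩ : ∃ a ∈ I.D, a ∉ I.F := by
    by_contra hh
    push Not at hh
    have := Subgroup.card_le_of_le (H := I.D) (K := I.F) hh
    rw [I.card_D] at this
    have h1 : 1 < Nat.card I.F := Finite.one_lt_card_iff_nontrivial.2
      ((Subgroup.nontrivial_iff_ne_bot _).2 I.F_ne)
    nlinarith
  set b := x * a * x⁻¹ with hb
  have hbA : b ∈ A := conj_mem_conjSub haD
  have hbF : b ∉ I.F := fun hh => haF (by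
    have := hFfix _ (hFfix _ hh)
    have h2 : x * (x * b * x⁻¹) * x⁻¹ = (x * x) * b * (x * x)⁻¹ := by group
    rw [h2, (I.F_central (x * x) hxxF b (hAr.1 hbA).1 (hAr.1 hbA).2).eq, mul_inv_cancel_right] at this
    have h3 := hFfix _ (hFfix _ (hFfix _ this))
    have h4 : x * (x * (x * b * x⁻¹) * x⁻¹) * x⁻¹ = (x ^ 4) * a * (x ^ 4)⁻¹ := by
      simp only [hb, pow_succ, pow_zero, one_mul, mul_inv_rev, mul_assoc]
    rwa [h4, hx4, one_mul, inv_one, mul_one] at h3)
  have hbD : b ∉ I.D := fun hh => hbF (hAF ▸ ⟨hbA, hh⟩)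
  have hnc : ¬ Commute b a := fun hc => haF (I.cent b (hAr.1 hbA).1 (hAr.1 hbA).2 hbD a haD hc)
  have hxaS : x * a ∈ (I.S : Subgroup G) := (I.S : Subgroup G).mul_mem hxS (I.D_le haD)
  have h4 := h.pow_four_of_mem I.S.isPGroup' (pow_mem hxaS 2)
  have hcb : Commute (x * x) b := I.F_central _ hxxF b (hAr.1 hbA).1 (hAr.1 hbA).2
  have hca : Commute (x * x) a := I.F_central _ hxxF a (I.D_le haD) (Subgroup.le_normalizer haD)
  have e1 : (x * a) ^ 2 = (x * x) * (b * a) := by
    calc (x * a) ^ 2 = b * (x * x) * a := by rw [pow_two, hb]; group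
      _ = (x * x) * (b * a) := by rw [← hcb.eq, mul_assoc]
  rw [show 4 = 2 * 2 from rfl, pow_mul, e1, (hcb.mul_right hca).mul_pow] at h4
  have hxx2 : (x * x) ^ 2 = 1 := by rw [← pow_two, ← pow_mul, hx4]
  rw [hxx2, one_mul] at h4
  apply hnc
  have h5 : (b * a)⁻¹ = b * a := inv_eq_of_mul_eq_one_left (by rw [← pow_two, h4])
  rw [mul_inv_rev, I.inv_eq haD, inv_eq_of_mul_eq_one_left (show b * b = 1 by
    rw [← pow_two, hAr.2.2.2 b hbA])] at h5
  exact h5.symm

theorem mem_normalizer_of_mem (h : Spec G) {t : G} (ht : t ∈ I.S) :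
    t ∈ Subgroup.normalizer (I.D : Set G) :=
  ((I.T_eq h).symm ▸ (show t ∈ (I.S : Subgroup G) from ht) : t ∈ I.T).2

theorem mem_T (h : Spec G) {t : G} (ht : t ∈ I.S) : t ∈ I.T := ⟨ht, I.mem_normalizer_of_mem h ht⟩

/-- `D` is weakly closed in `S`. -/
theorem weakly_closed (h : Spec G) {g : G} (hg : conjSub g I.D ≤ (I.S : Subgroup G)) :
    g ∈ Subgroup.normalizer (I.D : Set G) := by
  haveI := Fact.mk Nat.prime_two
  by_contra hgH
  set A := conjSub g I.D with hA
  have hne : A ≠ I.D := fun hh => hgH (conjSub_eq_iff_mem_normalizer.1 hh)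
  have hAr : I.IsRival A := ⟨fun x hx => I.mem_T h (hg hx), hne, card_conjSub g _, sq_of_conjSub I.sq g⟩
  have hrival : ∀ B : Subgroup G, B ≤ (I.S : Subgroup G) → Nat.card B = Nat.card I.D →
      (∀ x ∈ B, x ^ 2 = 1) → B = I.D ∨ B = A := fun B h1 h2 h3 => by
    by_cases e : B = I.D
    · exact Or.inl e
    · exact Or.inr (I.rival_unique ⟨fun x hx => I.mem_T h (h1 hx), e, h2, h3⟩ hAr)
  have hSA : (I.S : Subgroup G) ≤ Subgroup.normalizer (A : Set G) := by
    intro x hx
    refine conjSub_eq_iff_mem_normalizer.1 ((hrival _ ?_ ((card_conjSub x _).trans hAr.2.2.1)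
      (sq_of_conjSub hAr.2.2.2 x)).resolve_left fun e => ?_)
    · rintro _ ⟨y, hy, rfl⟩
      exact (I.S : Subgroup G).mul_mem ((I.S : Subgroup G).mul_mem hx (hg hy))
        ((I.S : Subgroup G).inv_mem hx)
    · have hxi : x⁻¹ ∈ Subgroup.normalizer (I.D : Set G) :=
        I.mem_normalizer_of_mem h ((I.S : Subgroup G).inv_mem hx)
      have h2 := congrArg (conjSub x⁻¹) e
      rw [conjSub_conjSub, inv_mul_cancel, conjSub_one, conjSub_eq_iff_mem_normalizer.2 hxi] at h2
      exact hne h2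
  have hSg : ((g • I.S : Sylow 2 G) : Subgroup G) ≤ Subgroup.normalizer (A : Set G) := by
    intro x hx
    change x ∈ MulAut.conj g • (I.S : Subgroup G) at hx
    rw [Subgroup.pointwise_smul_def] at hx
    obtain ⟨y, hy, rfl⟩ := hx
    refine conjSub_eq_iff_mem_normalizer.1 ?_
    change conjSub (g * y * g⁻¹) A = A
    rw [hA, conjSub_conjSub, inv_mul_cancel_right, ← conjSub_conjSub,
      conjSub_eq_iff_mem_normalizer.2 (I.mem_normalizer_of_mem h hy)]
  obtain ⟨y, hy⟩ := MulAction.exists_smul_eq (Subgroup.normalizer (A : Set G))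
    ((g • I.S : Sylow 2 G).subtype hSg) (I.S.subtype hSA)
  rw [Sylow.smul_subtype] at hy
  have hy' := Sylow.subtype_injective hy
  rw [Subgroup.smul_def, ← mul_smul] at hy'
  have hn := Sylow.smul_eq_iff_mem_normalizer.1 hy'
  set n := (y : G) * g with hn'
  have hnD : conjSub n I.D = A := by
    rw [hn', ← conjSub_conjSub, ← hA, conjSub_eq_iff_mem_normalizer]
    exact y.2
  have hnA : conjSub n A = I.D := by
    refine (hrival _ ?_ ((card_conjSub n _).trans hAr.2.2.1) (sq_of_conjSub hAr.2.2.2 n)).resolve_right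
      fun e => hne ?_
    · rintro _ ⟨z, hz, rfl⟩
      exact conj_mem_of_mem_normalizer hn (hg hz)
    · have h2 := congrArg (conjSub n⁻¹) (e.trans hnD.symm)
      simp only [hA, conjSub_conjSub, ← mul_assoc, inv_mul_cancel, one_mul, conjSub_one] at h2
      exact h2
  have hn2 : n ^ 2 ∈ Subgroup.normalizer (I.D : Set G) := conjSub_eq_iff_mem_normalizer.1 (by
    rw [pow_two, ← conjSub_conjSub, hnD, hnA])
  have hnH : n ∉ Subgroup.normalizer (I.D : Set G) := fun hh =>
    hne (hnD.symm.trans (conjSub_eq_iff_mem_normalizer.2 hh))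
  have hpow := pow_orderOf_eq_one n
  have htwo : orderOf n = 2 ∨ orderOf n = 4 → False := fun ho => by
    have hp : IsPGroup 2 (Subgroup.zpowers n) := by
      rcases ho with e | e
      · exact IsPGroup.of_card (n := 1) (by rw [Nat.card_zpowers, e, pow_one])
      · exact IsPGroup.of_card (n := 2) (by rw [Nat.card_zpowers, e]; rfl)
    have hsup := I.S.is_maximal'
      (hp.to_sup_of_normal_right' I.S.isPGroup' (Subgroup.zpowers_le.2 hn)) le_sup_right
    exact hnH (I.mem_normalizer_of_mem h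
      (hsup ▸ Subgroup.mem_sup_left (Subgroup.mem_zpowers n) : n ∈ (I.S : Subgroup G)))
  rcases h.orderOf_eq n with o | o | o | o | o <;> rw [o] at hpow
  · exact hnH ((orderOf_eq_one_iff.1 o).symm ▸ one_mem _)
  · exact htwo (Or.inl o)
  · exact hnH (by
      rw [show n = (n ^ 2) ^ 2 by rw [← pow_mul, pow_succ, hpow, one_mul]]
      exact pow_mem hn2 2)
  · exact htwo (Or.inr o)
  · exact hnH (by
      rw [show n = (n ^ 2) ^ 3 by rw [← pow_mul, pow_succ, hpow, one_mul]]
      exact pow_mem hn2 3)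

theorem centralizer_eq (h : Spec G) {z : G} (hz : z ∈ I.F) (hz1 : z ≠ 1) :
    Subgroup.centralizer ({z} : Set G) = (I.S : Subgroup G) := by
  haveI := Fact.mk Nat.prime_two
  have hz2 := orderOf_eq_two_of_sq (by rw [← pow_two, I.sq z (I.F_le hz)]) hz1
  exact I.S.is_maximal' (h.isPGroup_centralizer hz2) fun x hx =>
    Subgroup.mem_centralizer_singleton_iff.2 (I.F_central z hz x hx (I.mem_normalizer_of_mem h hx)).eq.symm

theorem mem_S_of_commute (h : Spec G) {z x : G} (hz : z ∈ I.F) (hz1 : z ≠ 1) (hc : Commute x z) :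
    x ∈ I.S := by
  change x ∈ (I.S : Subgroup G)
  rw [← I.centralizer_eq h hz hz1]
  exact Subgroup.mem_centralizer_singleton_iff.2 hc.eq

/-- Involutions of the local subgroup outside `D` are conjugate to `s`. -/
theorem conj_s (h : Spec G) {w : G} (hwH : w ∈ Subgroup.normalizer (I.D : Set G)) (hwD : w ∉ I.D)
    (hw : w * w = 1) : ∃ g ∈ Subgroup.normalizer (I.D : Set G), g * I.s * g⁻¹ = w := by
  haveI := Fact.mk Nat.prime_two
  have hw1 : w ≠ 1 := fun e => hwD (e ▸ one_mem _)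
  have hwp : IsPGroup 2 (Subgroup.zpowers (⟨w, hwH⟩ : Subgroup.normalizer (I.D : Set G))) :=
    IsPGroup.of_card (n := 1) (by
      rw [Nat.card_zpowers, Subgroup.orderOf_mk, orderOf_eq_two_of_sq hw hw1, pow_one])
  have hSH : (I.S : Subgroup G) ≤ Subgroup.normalizer (I.D : Set G) := fun x hx =>
    I.mem_normalizer_of_mem h hx
  obtain ⟨R, hR⟩ := hwp.exists_le_sylow
  obtain ⟨y, hy⟩ := MulAction.exists_smul_eq (Subgroup.normalizer (I.D : Set G)) R (I.S.subtype hSH)
  have hw'S : (y : G) * w * (y : G)⁻¹ ∈ I.S := by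
    have : y * ⟨w, hwH⟩ * y⁻¹ ∈ ((y • R : Sylow 2 _) : Subgroup (Subgroup.normalizer (I.D : Set G))) :=
      Subgroup.smul_mem_pointwise_smul _ (MulAut.conj y) _ (hR (Subgroup.mem_zpowers _))
    rw [hy] at this
    exact this
  set w' := (y : G) * w * (y : G)⁻¹ with hw'
  have hw'w : w' * w' = 1 := by
    rw [hw', show (y : G) * w * (y : G)⁻¹ * ((y : G) * w * (y : G)⁻¹) = (y : G) * (w * w) * (y : G)⁻¹ by
      group, hw, mul_one, mul_inv_cancel]
  have hw'D : w' ∉ I.D := fun hh => hwD (by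
    have := conj_mem_of_mem_normalizer (inv_mem y.2) hh
    rw [hw'] at this
    simpa [mul_assoc] using this)
  obtain ⟨g, hg, hgd⟩ := I.cosets w' hw'S (hSH hw'S) hw'D
  set t := g * I.s * g⁻¹ with ht
  have htD : t ∉ I.D := fun hh => hw'D (by
    have := I.D.mul_mem hh hgd
    rwa [mul_inv_cancel_left] at this)
  have htS : t ∈ (I.S : Subgroup G) := by
    have := (I.S : Subgroup G).mul_mem hw'S ((I.S : Subgroup G).inv_mem (I.D_le hgd))
    rwa [mul_inv_rev, inv_inv, mul_inv_cancel_left] at this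
  have htt : t * t = 1 := by
    rw [ht, show g * I.s * g⁻¹ * (g * I.s * g⁻¹) = g * (I.s * I.s) * g⁻¹ by group, I.s_sq, mul_one,
      mul_inv_cancel]
  have hti : t⁻¹ = t := inv_eq_of_mul_eq_one_left htt
  have hf : t⁻¹ * w' ∈ I.F := by
    refine I.cent t htS (hSH htS) htD _ hgd ?_
    have hdi := I.inv_eq hgd
    rw [mul_inv_rev, inv_inv, inv_eq_of_mul_eq_one_left hw'w] at hdi
    change t * (t⁻¹ * w') = t⁻¹ * w' * t
    rw [hti] at hdi ⊢
    rw [mul_assoc t w', hdi]
  obtain ⟨d, hd, hdd⟩ := I.exists_preimage ⟨htS, hSH htS⟩ htD htt hf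
  refine ⟨(y : G)⁻¹ * (d * g), mul_mem (inv_mem y.2) (mul_mem (Subgroup.le_normalizer hd) hg), ?_⟩
  have hdw : d * t * d⁻¹ = w' := by
    have hc : Commute (t⁻¹ * w') t :=
      I.F_central _ hf t htS (hSH htS)
    calc d * t * d⁻¹ = d * (t * d * t⁻¹) * t := by rw [I.inv_eq hd]; group
      _ = (t⁻¹ * w') * t := by rw [hdd]
      _ = w' := by rw [hc.eq, mul_inv_cancel_left]
  calc (y : G)⁻¹ * (d * g) * I.s * ((y : G)⁻¹ * (d * g))⁻¹
      = (y : G)⁻¹ * (d * t * d⁻¹) * y := by rw [ht]; group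
    _ = w := by rw [hdw, hw']; group

theorem card_F_eq_and_conj [IsSimpleGroup G] (h : Spec G) (hns : ¬ Group.IsSolvable G) {z : G}
    (hz : z ∈ I.F) (hz1 : z ≠ 1) : Nat.card I.F = I.k ∧ IsConj z I.s := by
  haveI := Fact.mk Nat.prime_two
  set H := Subgroup.normalizer (I.D : Set G) with hH
  have hHtop : H ≠ ⊤ := fun e => by
    haveI : I.D.Normal := Subgroup.normalizer_eq_top_iff.1 e
    rcases Subgroup.Normal.eq_bot_or_eq_top (H := I.D) inferInstance with e' | e'
    · exact I.F_ne (le_bot_iff.1 (e' ▸ I.F_le))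
    · refine hns (isSolvable_of_comm (G := G) fun a b => ?_)
      exact I.comm (e' ▸ Subgroup.mem_top a) (e' ▸ Subgroup.mem_top b)
  have hzz : z * z = 1 := by rw [← pow_two, I.sq z (I.F_le hz)]
  have hz2 := orderOf_eq_two_of_sq hzz hz1
  have hs2 := orderOf_eq_two_of_sq I.s_sq fun e => I.s_not (e ▸ one_mem _)
  have hsz : IsConj z I.s := by
    by_contra hnc
    refine h.false_of_two_classes hHtop hz2 (Subgroup.le_normalizer (I.F_le hz)) hs2 hnc
      (fun g hg => ?_) (fun w hw hw2 => ?_)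
    · have hgg : g * z * g⁻¹ * (g * z * g⁻¹) = 1 := by
        rw [show g * z * g⁻¹ * (g * z * g⁻¹) = g * (z * z) * g⁻¹ by group, hzz, mul_one, mul_inv_cancel]
      by_cases hD : g * z * g⁻¹ ∈ I.D
      · have hle : conjSub g⁻¹ I.D ≤ (I.S : Subgroup G) := by
          rintro _ ⟨d, hd, rfl⟩
          refine I.mem_S_of_commute h hz hz1 ?_
          have := (I.comm hd hD).map (MulAut.conj g⁻¹).toMonoidHom
          simpa [MulAut.conj_apply, mul_assoc] using this
        have := inv_mem (I.weakly_closed h hle)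
        rwa [inv_inv] at this
      · obtain ⟨g', -, hg'⟩ := I.conj_s h hg hD hgg
        exact absurd ((isConj_iff.2 ⟨g, rfl⟩).trans (isConj_iff.2 ⟨g', hg'⟩).symm) hnc
    · by_cases hD : w ∈ I.D
      · exact ⟨1, one_mem _, by simpa using I.comm hD (I.F_le hz)⟩
      · obtain ⟨g, hg, hgw⟩ := I.conj_s h hw hD (mul_self_of_orderOf_two hw2)
        refine ⟨g, hg, ?_⟩
        rw [← hgw]
        exact ((I.F_central z hz I.s I.s_mem I.s_norm).map (MulAut.conj g).toMonoidHom).symm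
  refine ⟨le_antisymm ?_ I.k_le, hsz⟩
  obtain ⟨g, hg⟩ := isConj_iff.1 hsz
  have hmem : ∀ f ∈ I.F, g⁻¹ * f * g ∈ (I.S : Subgroup G) := fun f hf => by
    refine I.mem_S_of_commute h hz hz1 ?_
    have := (I.F_central f hf I.s I.s_mem I.s_norm).map (MulAut.conj g⁻¹).toMonoidHom
    rw [← hg] at this
    simpa [MulAut.conj_apply, mul_assoc] using this
  let φ : I.F → I.T ⧸ I.D.subgroupOf I.T := fun f =>
    QuotientGroup.mk (⟨g⁻¹ * f * g, I.mem_T h (hmem f f.2)⟩ : I.T)
  have hφ : Function.Injective φ := by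
    intro a b hab
    have hd : (g⁻¹ * (a : G) * g)⁻¹ * (g⁻¹ * b * g) ∈ I.D :=
      (QuotientGroup.eq (s := I.D.subgroupOf I.T) (a := (⟨_, I.mem_T h (hmem a a.2)⟩ : I.T))
        (b := ⟨_, I.mem_T h (hmem b b.2)⟩)).1 hab
    have e : (g⁻¹ * (a : G) * g)⁻¹ * (g⁻¹ * b * g) = g⁻¹ * ((a : G)⁻¹ * b) * g := by group
    rw [e] at hd
    by_contra hne
    set x := (a : G)⁻¹ * b with hx
    have hxF : x ∈ I.F := I.F.mul_mem (I.F.inv_mem a.2) b.2
    have hx1 : x ≠ 1 := fun e => hne (Subtype.ext (inv_mul_eq_one.1 e))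
    have hle : conjSub g I.D ≤ (I.S : Subgroup G) := by
      rintro _ ⟨d, hd', rfl⟩
      refine I.mem_S_of_commute h hxF hx1 ?_
      have := (I.comm hd' hd).map (MulAut.conj g).toMonoidHom
      simpa [MulAut.conj_apply, mul_assoc] using this
    refine I.s_not ?_
    rw [← hg]
    exact conj_mem_of_mem_normalizer (I.weakly_closed h hle) (I.F_le hz)
  have := Nat.card_le_card_of_injective φ hφ
  rwa [← Subgroup.index_eq_card, ← Subgroup.relIndex, I.relIndex_T] at this

/-- All involutions are conjugate to `z`. -/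
theorem isConj_involution [IsSimpleGroup G] (h : Spec G) (hns : ¬ Group.IsSolvable G) {z w : G}
    (hz : z ∈ I.F) (hz1 : z ≠ 1) (hw : orderOf w = 2) : IsConj z w := by
  haveI := Fact.mk Nat.prime_two
  obtain ⟨hFk, hsz⟩ := I.card_F_eq_and_conj h hns hz hz1
  obtain ⟨R, hR⟩ := h.mem_two_group (Or.inl hw)
  obtain ⟨g, hg⟩ := MulAction.exists_smul_eq G R I.S
  have hw'S : g * w * g⁻¹ ∈ I.S := hg ▸ Subgroup.smul_mem_pointwise_smul w (MulAut.conj g) _ hR
  have hw' : orderOf (g * w * g⁻¹) = 2 := by rw [← MulAut.conj_apply, MulEquiv.orderOf_eq, hw]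
  have hzw' : IsConj z (g * w * g⁻¹) := by
    by_cases hD : g * w * g⁻¹ ∈ I.D
    · exact I.conj_D hFk z (I.F_le hz) _ hD hz1 fun e => by rw [e, orderOf_one] at hw'; omega
    · obtain ⟨g', -, hg'⟩ := I.conj_s h (I.mem_normalizer_of_mem h hw'S) hD (mul_self_of_orderOf_two hw')
      exact hsz.trans (isConj_iff.2 ⟨g', hg'⟩)
  exact hzw'.trans (isConj_iff.2 ⟨g⁻¹, by group⟩)

theorem card_square_roots (h : Spec G) {z : G} (hz : z ∈ I.F) (hz1 : z ≠ 1) :
    Nat.card {x : G // x ^ 2 = z} = (I.k - 1) * Nat.card I.F := by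
  classical
  set K := I.D.subgroupOf I.T with hK
  have hroot : ∀ x : G, x ^ 2 = z → x ∈ I.T ∧ x ∉ I.D := fun x hx => by
    refine ⟨I.mem_T h (I.mem_S_of_commute h hz hz1 ?_), fun hD => hz1 (hx.symm.trans (I.sq x hD))⟩
    rw [← hx]
    exact (Commute.refl x).pow_right 2
  have hdata : ∀ c : {c : I.T ⧸ K // c ≠ QuotientGroup.mk 1}, ∃ x : G, ∃ hxT : x ∈ I.T,
      QuotientGroup.mk (⟨x, hxT⟩ : I.T) = c.1 ∧ x ^ 2 = z ∧
      ∀ y : G, y ∈ I.D → ((x * y) ^ 2 = z ↔ y ∈ I.F) := by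
    rintro ⟨c, hc⟩
    obtain ⟨t', rfl⟩ := QuotientGroup.mk_surjective c
    have ht'D : (t' : G) ∉ I.D := fun hh => hc (QuotientGroup.eq.2 (by
      rw [Subgroup.mem_subgroupOf]; simpa using I.D.inv_mem hh))
    obtain ⟨g, hg, hgd⟩ := I.cosets t' t'.2.1 t'.2.2 ht'D
    set t := g * I.s * g⁻¹ with ht
    have htD : t ∉ I.D := fun hh => ht'D (by
      have := I.D.mul_mem hh hgd
      rwa [mul_inv_cancel_left] at this)
    have htT : t ∈ I.T := by
      have := I.T.mul_mem t'.2 (I.T.inv_mem (I.D_le_T hgd))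
      rwa [mul_inv_rev, inv_inv, mul_inv_cancel_left] at this
    have htt : t * t = 1 := by
      rw [ht, show g * I.s * g⁻¹ * (g * I.s * g⁻¹) = g * (I.s * I.s) * g⁻¹ by group, I.s_sq, mul_one,
        mul_inv_cancel]
    have hti : t⁻¹ = t := inv_eq_of_mul_eq_one_left htt
    obtain ⟨d, hd, hdd⟩ := I.exists_preimage htT htD htt hz
    have hdt : t * d * t⁻¹ ∈ I.D := conj_mem_of_mem_normalizer htT.2 hd
    have hsq : (t * d) ^ 2 = z := by
      rw [← hdd, (I.comm hd hdt).eq, pow_two, hti]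
      group
    refine ⟨t * d, I.T.mul_mem htT (I.D_le_T hd), QuotientGroup.eq.2 ?_, hsq, fun y hy => ?_⟩
    · rw [Subgroup.mem_subgroupOf]
      change (t * d)⁻¹ * (t' : G) ∈ I.D
      rw [mul_inv_rev, mul_assoc]
      exact I.D.mul_mem (I.D.inv_mem hd) hgd
    have hyt : t * y * t⁻¹ ∈ I.D := conj_mem_of_mem_normalizer htT.2 hy
    have e : (t * d * y) ^ 2 = z * (y * (t * y * t⁻¹)) := by
      have c1 := (I.comm hd hy).eq
      have c2 : Commute (t * y * t⁻¹) d := I.comm hyt hd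
      calc (t * d * y) ^ 2 = (t * d * t⁻¹) * ((t * y * t⁻¹) * d) * y := by
            rw [pow_two, hti]
            calc t * d * y * (t * d * y) = t * d * 1 * y * t * d * y := by group
              _ = t * d * (t * t) * y * t * d * y := by rw [htt]
              _ = t * d * t * (t * y * t * d) * y := by group
        _ = (d * (t * d * t⁻¹)) * (y * (t * y * t⁻¹)) := by
            rw [c2.eq, (I.comm hy hyt).eq, (I.comm hd hdt).eq]
            group
        _ = z * (y * (t * y * t⁻¹)) := by rw [hdd]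
    rw [e, mul_eq_left]
    constructor
    · intro e'
      refine I.cent t htT.1 htT.2 htD y hy (mul_inv_eq_iff_eq_mul.1 ?_)
      rw [eq_inv_of_mul_eq_one_right e', I.inv_eq hy]
    · intro hyF
      rw [(I.F_central y hyF t htT.1 htT.2).symm.eq, mul_inv_cancel_right, ← pow_two, I.sq y hy]
  choose x hxT hxc hx2 hxy using hdata
  let Φ : {c : I.T ⧸ K // c ≠ QuotientGroup.mk 1} × I.F → {x : G // x ^ 2 = z} := fun p =>
    ⟨x p.1 * p.2, (hxy p.1 p.2 (I.F_le p.2.2)).2 p.2.2⟩
  have hΦ : Function.Bijective Φ := by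
    constructor
    · rintro ⟨c, f⟩ ⟨c', f'⟩ e
      have e' : x c * f = x c' * f' := congrArg Subtype.val e
      obtain rfl : c = c' := by
        refine Subtype.ext ?_
        rw [← hxc c, ← hxc c']
        refine QuotientGroup.eq.2 ?_
        rw [hK, Subgroup.mem_subgroupOf]
        change (x c)⁻¹ * x c' ∈ I.D
        have : (x c)⁻¹ * x c' = (f : G) * (f' : G)⁻¹ := by
          rw [show (x c') = x c * f * (f' : G)⁻¹ by rw [e', mul_inv_cancel_right]]
          group
        rw [this]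
        exact I.D.mul_mem (I.F_le f.2) (I.D.inv_mem (I.F_le f'.2))
      rw [Subtype.ext (mul_left_cancel e')]
    · rintro ⟨w, hw⟩
      obtain ⟨hwT, hwD⟩ := hroot w hw
      let c : {c : I.T ⧸ K // c ≠ QuotientGroup.mk 1} :=
        ⟨QuotientGroup.mk ⟨w, hwT⟩, fun e => hwD (by
          have := QuotientGroup.eq.1 e
          rw [hK, Subgroup.mem_subgroupOf] at this
          simpa using I.D.inv_mem this)⟩
      have hd : (x c)⁻¹ * w ∈ I.D :=
        (QuotientGroup.eq (s := I.D.subgroupOf I.T) (a := (⟨x c, hxT c⟩ : I.T)) (b := ⟨w, hwT⟩)).1 (hxc c)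
      refine ⟨(c, ⟨_, (hxy c _ hd).1 (by rw [mul_inv_cancel_left, hw])⟩), Subtype.ext ?_⟩
      exact mul_inv_cancel_left _ _
  haveI := Fintype.ofFinite (I.T ⧸ K)
  rw [← Nat.card_congr (Equiv.ofBijective Φ hΦ), Nat.card_prod]
  congr 1
  rw [← I.relIndex_T, Subgroup.relIndex, Subgroup.index_eq_card]
  simp only [Nat.card_eq_fintype_card, Fintype.card_subtype_compl, Fintype.card_subtype_eq]
  rfl

/-- The count of non-trivial 2-elements. -/
theorem count [IsSimpleGroup G] (h : Spec G) (hns : ¬ Group.IsSolvable G) :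
    Nat.card I.F = I.k ∧ Nat.card I.S = I.k ^ 3 ∧
      (orderCount G 2 + orderCount G 4) * I.k ^ 3 = Nat.card G * (1 + (I.k - 1) * I.k) := by
  classical
  haveI := Fintype.ofFinite G
  haveI := Fact.mk Nat.prime_two
  obtain ⟨z, hz, hz1⟩ := (Subgroup.bot_or_exists_ne_one I.F).resolve_left I.F_ne
  obtain ⟨hFk, -⟩ := I.card_F_eq_and_conj h hns hz hz1
  have hS : Nat.card I.S = I.k ^ 3 := by
    have := I.card_T
    rw [show ((I.S : Subgroup G) ⊓ Subgroup.normalizer (I.D : Set G) : Subgroup G) = (I.S : Subgroup G)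
      from I.T_eq h, I.card_D, hFk] at this
    rw [this]
    ring
  refine ⟨hFk, hS, ?_⟩
  have hz2 := orderOf_eq_two_of_sq (by rw [← pow_two, I.sq z (I.F_le hz)]) hz1
  have hI : orderCount G 2 * I.k ^ 3 = Nat.card G := by
    have h1 := MulAction.index_stabilizer (ConjAct G) z
    rw [ConjAct.stabilizer_eq_centralizer, ← Nat.card_coe_set_eq] at h1
    have h2 : Nat.card (MulAction.orbit (ConjAct G) z) = orderCount G 2 := by
      refine Nat.card_congr (Equiv.subtypeEquivRight fun w => ?_)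
      rw [ConjAct.mem_orbit_conjAct]
      constructor
      · intro hc
        obtain ⟨g, hg⟩ := isConj_iff.1 hc.symm
        rw [← hg, ← MulAut.conj_apply, MulEquiv.orderOf_eq, hz2]
      · exact fun hw => (I.isConj_involution h hns hz hz1 hw).symm
    rw [h2] at h1
    have h3 : (Subgroup.centralizer ({z} : Set G)).index = orderCount G 2 := h1
    rw [← h3, ← hS, ← I.centralizer_eq h hz hz1, mul_comm, Subgroup.card_mul_index]
  have hroots : ∀ w : {w : G // orderOf w = 2}, Nat.card {x : G // x ^ 2 = w.1} = (I.k - 1) * I.k := by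
    intro w
    obtain ⟨g, hg⟩ := isConj_iff.1 (I.isConj_involution h hns hz hz1 w.2)
    have := I.card_square_roots h hz hz1
    rw [hFk] at this
    rw [← this]
    refine (Nat.card_congr (Equiv.subtypeEquiv (MulAut.conj g).toEquiv fun x => ?_)).symm
    rw [MulEquiv.toEquiv_eq_coe, MulEquiv.coe_toEquiv, ← map_pow, ← hg, ← MulAut.conj_apply]
    exact (MulAut.conj g).injective.eq_iff.symm
  let f : {x : G // orderOf x = 4} → Σ w : {w : G // orderOf w = 2}, {x : G // x ^ 2 = w.1} := fun x =>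
    ⟨⟨x.1 ^ 2, by rw [orderOf_pow' _ two_ne_zero, x.2]; norm_num⟩, x.1, rfl⟩
  have hf : Function.Bijective f := by
    constructor
    · intro a b e
      exact Subtype.ext (congrArg (fun p => p.2.1) e)
    · rintro ⟨⟨w, hw⟩, x, hx⟩
      have hx' : x ^ 2 = w := hx
      have hx4 : orderOf x = 4 := by
        refine orderOf_eq_four ?_ ?_
        · rw [show 4 = 2 * 2 from rfl, pow_mul, hx', pow_two, mul_self_of_orderOf_two hw]
        · rw [hx']; intro e; rw [e, orderOf_one] at hw; omega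
      refine ⟨⟨x, hx4⟩, ?_⟩
      subst hx'
      rfl
  have h4 : orderCount G 4 = orderCount G 2 * ((I.k - 1) * I.k) := by
    rw [orderCount, Nat.card_congr (Equiv.ofBijective f hf), Nat.card_sigma,
      Finset.sum_congr rfl (fun w _ => hroots w), Finset.sum_const, Finset.card_univ,
      ← Nat.card_eq_fintype_card, smul_eq_mul]
    rfl
  rw [h4, ← hI]
  ring

end InterData

end CfsgLib.SmallSpectrum
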