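import Cfsg.Prelude.Def_Transfer
import Cfsg.Agent.Lib.SmallSpectrum.ElemAb
import Cfsg.Agent.Lib.SmallSpectrum.AltFacts
import Cfsg.Agent.Lib.Cores.PCore
import Cfsg.Agent.Lib.Cores.MinimalNormal
import Cfsg.Agent.Lib.BGTypes.CNQuotient
import Mathlib.GroupTheory.Sylow

/-!
# Reduction to the simple case
-/

set_option autoImplicit false
set_option linter.unusedSectionVars false
set_option linter.style.haveILetI false

namespace CfsgLib.SmallSpectrum

open Cfsg

universe u

/-- The conclusion: `A6`, or elementary abelian by `A5`. -/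
def Good (G : Type*) [Group G] : Prop :=
  Nonempty (G ≃* ↥(alternatingGroup (Fin 6))) ∨
    ∃ (N : Subgroup G) (_ : N.Normal), Cfsg.IsElementaryAbelian 2 N ∧
      Nonempty (G ⧸ N ≃* ↥(alternatingGroup (Fin 5)))

variable {G : Type u} [Group G] [Finite G]

theorem not_isSolvable_quotient {p : ℕ} [Fact p.Prime] {N : Subgroup G} [N.Normal]
    (hN : IsPGroup p N) (hns : ¬ Group.IsSolvable G) : ¬ Group.IsSolvable (G ⧸ N) := fun hQ => by
  haveI := hN.isNilpotent
  exact hns (Group.isSolvable_of_ker_le_range N.subtype (QuotientGroup.mk' N)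
    (by rw [QuotientGroup.ker_mk', Subgroup.range_subtype]))

/-- The conjugation action of a `p`-group without fixed points on a subgroup. -/
theorem card_modEq_one_of_fpf {p : ℕ} [Fact p.Prime] {x : G} (hx : orderOf x = p) {V : Subgroup G}
    (hn : x ∈ Subgroup.normalizer (V : Set G))
    (hfix : ∀ v ∈ V, Commute x v → v = 1) : Nat.card V ≡ 1 [MOD p] := by
  let φ : Subgroup.zpowers x →* MulAut V :=
    (Subgroup.normalizerMonoidHom V).comp (Subgroup.inclusion (Subgroup.zpowers_le.2 hn))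
  letI act : MulAction (Subgroup.zpowers x) V := MulAction.compHom V φ
  have hP : IsPGroup p (Subgroup.zpowers x) :=
    IsPGroup.of_card (n := 1) (by rw [pow_one, Nat.card_zpowers, hx])
  have h := hP.card_modEq_card_fixedPoints V
  have hf : MulAction.fixedPoints (Subgroup.zpowers x) V = {1} := by
    ext v
    constructor
    · intro hv
      have h1 : φ ⟨x, Subgroup.mem_zpowers x⟩ v = v := hv ⟨x, Subgroup.mem_zpowers x⟩
      have h2 : x * (v : G) * x⁻¹ = v := congrArg Subtype.val h1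
      exact Subtype.ext (hfix v v.2 (mul_inv_eq_iff_eq_mul.1 h2))
    · rintro rfl z
      exact map_one (φ z)
  rwa [hf, Nat.card_coe_set_eq, Set.ncard_singleton] at h

/-- No non-trivial normal subgroup of odd prime power order in a non-solvable group. -/
theorem Spec.eq_bot_of_normal_pGroup (h : Spec G) (hns : ¬ Group.IsSolvable G) {p : ℕ}
    [hp : Fact p.Prime] (hp2 : p ≠ 2) {V : Subgroup G} [V.Normal] (hV : IsPGroup p V) : V = ⊥ := by
  by_contra hV1
  have hpV : p ∣ Nat.card V := by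
    haveI := (Subgroup.nontrivial_iff_ne_bot _).2 hV1
    obtain ⟨k, hk, hcard⟩ := hV.nontrivial_iff_card.1 inferInstance
    exact hcard ▸ dvd_pow_self p hk.ne'
  obtain ⟨v, hv⟩ := exists_prime_orderOf_dvd_card' (G := V) p hpV
  let C := Subgroup.centralizer (V : Set G)
  have hC : IsPGroup p C := by
    refine (h.isPGroup_centralizer (x := (v : G)) (by rw [Subgroup.orderOf_coe, hv])).to_le ?_
    exact Subgroup.centralizer_le (by simp)
  haveI : C.Normal := Subgroup.normal_centralizer
  have hQ := h.quotient C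
  obtain ⟨h2, h3, -⟩ := hQ.dvd_of_not_isSolvable (not_isSolvable_quotient hC hns)
  obtain ⟨y, hy⟩ := exists_prime_orderOf_dvd_card' (G := G ⧸ C) 2 h2
  haveI := Fact.mk Nat.prime_three
  obtain ⟨x, hx⟩ := exists_prime_orderOf_dvd_card' (G := G ⧸ C) 3 h3
  have hlift : ∀ y : G ⧸ C, orderOf y = 2 → ∃ g : G, (g : G ⧸ C) = y ∧ orderOf g = 2 := by
    intro y hy
    obtain ⟨g, rfl⟩ := QuotientGroup.mk'_surjective C y
    refine ⟨g, rfl, ?_⟩
    have hd : 2 ∣ orderOf g := hy ▸ orderOf_map_dvd (QuotientGroup.mk' C) g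
    rcases h.orderOf_eq g with e | e | e | e | e <;> rw [e] at hd <;> try omega
    exfalso
    have hg2 : g ^ 2 ∈ C := by
      rw [← QuotientGroup.eq_one_iff]
      have := pow_orderOf_eq_one (QuotientGroup.mk' C g)
      rwa [hy, ← map_pow] at this
    obtain ⟨k, hk⟩ := hC ⟨_, hg2⟩
    have hk' : (g ^ 2) ^ p ^ k = 1 := congrArg Subtype.val hk
    rw [← pow_mul] at hk'
    have hd4 := orderOf_dvd_of_pow_eq_one hk'
    rw [e, show 4 = 2 * 2 from rfl] at hd4
    have := Nat.prime_two.dvd_of_dvd_pow (Nat.dvd_of_mul_dvd_mul_left two_pos hd4)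
    exact hp2 ((Nat.prime_dvd_prime_iff_eq Nat.prime_two hp.out).1 this).symm
  have huniq : ∀ y' : G ⧸ C, orderOf y' = 2 → y' = y := by
    intro y' hy'
    obtain ⟨g, rfl, hg⟩ := hlift y hy
    obtain ⟨g', rfl, hg'⟩ := hlift y' hy'
    rw [QuotientGroup.eq, Subgroup.mem_centralizer_iff]
    intro w hw
    have hn : ∀ t : G, t ∈ Subgroup.normalizer (V : Set G) := fun t => by
      rw [Subgroup.normalizer_eq_top]; exact Subgroup.mem_top t
    have e1 := h.inverts hp2 hV hg (hn g) hw
    have e2 := h.inverts hp2 hV hg' (hn g') hw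
    have e3 : g * w * g⁻¹ = g' * w * g'⁻¹ := e1.trans e2.symm
    calc w * (g'⁻¹ * g) = g'⁻¹ * (g' * w * g'⁻¹) * g := by group
      _ = g'⁻¹ * g * w := by rw [← e3]; group
  have hcomm : Commute x y := by
    have := huniq (x * y * x⁻¹) (by rw [← MulAut.conj_apply, MulEquiv.orderOf_eq, hy])
    exact mul_inv_eq_iff_eq_mul.1 this
  rcases hQ.eq_one_of_commute hcomm (by rw [hx, hy]; decide) with e | e
  · rw [e, orderOf_one] at hx; omega
  · rw [e, orderOf_one] at hy; omega

/-- Lifting an inverting element through a normal 2-subgroup. -/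
theorem Spec.exists_inverting (h : Spec G) {R : Subgroup G} [R.Normal] (hR : IsPGroup 2 R) {r g : G}
    {q : ℕ} (hq : q = 3 ∨ q = 5) (hr : orderOf r = q) (hg : g * r * g⁻¹ * r ∈ R) :
    ∃ t : G, t * t = 1 ∧ t * r * t⁻¹ = r⁻¹ ∧ t * g⁻¹ ∈ R := by
  have hqp : q.Prime := by rcases hq with rfl | rfl <;> norm_num
  haveI := Fact.mk hqp
  have hq2 : ¬ 2 ∣ orderOf r := by rcases hq with rfl | rfl <;> omega
  have hr1 : r ≠ 1 := fun e => by rw [e, orderOf_one] at hr; exact hqp.ne_one hr.symm
  let φ : R → R := fun u => ⟨u * (r * (u : G)⁻¹ * r⁻¹),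
    R.mul_mem u.2 (Subgroup.Normal.conj_mem inferInstance _ (R.inv_mem u.2) r)⟩
  have hinj : Function.Injective φ := by
    intro a b hab
    have e : (a : G) * (r * (a : G)⁻¹ * r⁻¹) = b * (r * (b : G)⁻¹ * r⁻¹) := congrArg Subtype.val hab
    have hc : Commute r ((b : G)⁻¹ * a) := by
      change r * ((b : G)⁻¹ * a) = (b : G)⁻¹ * a * r
      calc r * ((b : G)⁻¹ * a) = (b : G)⁻¹ * ((b : G) * (r * (b : G)⁻¹ * r⁻¹)) * r * a := by group
        _ = (b : G)⁻¹ * a * r := by rw [← e]; group
    have := h.eq_one_of_pGroup hR (R.mul_mem (R.inv_mem b.2) a.2) hc hq2 hr1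
    exact Subtype.ext (inv_mul_eq_one.1 this).symm
  have hw : g * r⁻¹ * g⁻¹ * r⁻¹ ∈ R := by
    have := R.inv_mem (Subgroup.Normal.mem_comm inferInstance hg)
    simpa [mul_assoc] using this
  obtain ⟨u, hu⟩ := (Finite.injective_iff_surjective.1 hinj) ⟨_, hw⟩
  have hu' : (u : G) * (r * (u : G)⁻¹ * r⁻¹) = g * r⁻¹ * g⁻¹ * r⁻¹ := congrArg Subtype.val hu
  have e : ((u : G)⁻¹ * g) * r * ((u : G)⁻¹ * g)⁻¹ = r⁻¹ := by
    calc ((u : G)⁻¹ * g) * r * ((u : G)⁻¹ * g)⁻¹
        = ((u : G)⁻¹ * (g * r⁻¹ * g⁻¹ * r⁻¹) * (r * u))⁻¹ := by group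
      _ = r⁻¹ := by rw [← hu']; group
  refine ⟨(u : G)⁻¹ * g, ?_, e, by rw [mul_inv_cancel_right]; exact R.inv_mem u.2⟩
  · set t := (u : G)⁻¹ * g with ht
    have hne : ¬ Commute t r := fun hc => by
      rw [hc.eq, mul_inv_cancel_right] at e
      have h2 : r ^ 2 = 1 := by rw [sq]; nth_rewrite 1 [e]; exact inv_mul_cancel r
      have := orderOf_dvd_of_pow_eq_one h2
      rw [hr] at this
      rcases hq with rfl | rfl <;> omega
    have hc2 : Commute (t * t) r := by
      refine mul_inv_eq_iff_eq_mul.1 ?_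
      calc t * t * r * (t * t)⁻¹ = t * (t * r * t⁻¹) * t⁻¹ := by group
        _ = t * r⁻¹ * t⁻¹ := by rw [e]
        _ = (t * r * t⁻¹)⁻¹ := by group
        _ = r := by rw [e, inv_inv]
    rcases h.orderOf_eq t with o | o | o | o | o
    · rw [orderOf_eq_one_iff.1 o, mul_one]
    · rw [← sq, ← o, pow_orderOf_eq_one]
    · exfalso
      apply hne
      have h3 : t = (t * t) ^ 2 := by
        calc t = t * t ^ 3 := by rw [← o, pow_orderOf_eq_one, mul_one]
          _ = (t * t) ^ 2 := by rw [← sq t, ← pow_mul, ← pow_succ']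
      rw [h3]
      exact hc2.pow_left 2
    · exfalso
      have ho : orderOf (t * t) = 2 := by
        rw [← sq, orderOf_pow' _ (two_ne_zero), o]
        norm_num
      rcases h.eq_one_of_commute hc2 (by rw [ho, hr]; exact (Nat.prime_two.coprime_iff_not_dvd).2 (hr ▸ hq2)) with e' | e'
      · rw [e', orderOf_one] at ho; omega
      · exact hr1 e'
    · exfalso
      apply hne
      have h3 : t = (t * t) ^ 3 := by
        calc t = t * t ^ 5 := by rw [← o, pow_orderOf_eq_one, mul_one]
          _ = (t * t) ^ 3 := by rw [← sq t, ← pow_mul, ← pow_succ']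
      rw [h3]
      exact hc2.pow_left 3

theorem Good.hasDihedrals_quotient {G : Type*} [Group G] [Finite G] (h : Good G) :
    Nonempty (G ≃* ↥(alternatingGroup (Fin 6))) ∨ ∃ (N : Subgroup G) (_ : N.Normal),
      IsPGroup 2 N ∧ Nonempty (G ⧸ N ≃* ↥(alternatingGroup (Fin 5))) := by
  rcases h with h | ⟨N, hN, ⟨-, h2⟩, he⟩
  · exact Or.inl h
  · exact Or.inr ⟨N, hN, fun g => ⟨1, Subtype.ext (h2 g g.2)⟩, he⟩

/-- A `Good` group without normal 2-subgroups is `A5` or `A6`. -/
theorem Good.equiv_of_pCore_eq_bot {G : Type*} [Group G] [Finite G] (h : Good G)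
    (h0 : pCore 2 G = ⊥) : Nonempty (G ≃* ↥(alternatingGroup (Fin 6))) ∨
      Nonempty (G ≃* ↥(alternatingGroup (Fin 5))) := by
  rcases h.hasDihedrals_quotient with h | ⟨N, hN, h2, ⟨e⟩⟩
  · exact Or.inl h
  · have : N = ⊥ := le_bot_iff.1 (h0 ▸ Cores.le_pCore h2)
    subst this
    exact Or.inr ⟨QuotientGroup.quotientBot.symm.trans e⟩

theorem Spec.good_of_pCore_ne_bot (h : Spec G) (hns : ¬ Group.IsSolvable G)
    (hR : pCore 2 G ≠ ⊥) (ih : ∀ (H : Type u) [Group H] [Finite H], Nat.card H < Nat.card G →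
      Spec H → ¬ Group.IsSolvable H → Good H) : Good G := by
  set R := pCore 2 G with hRdef
  haveI := Fact.mk Nat.prime_two
  have hR2 : IsPGroup 2 R := Cores.isPGroup_pCore 2 G
  have hlt : Nat.card (G ⧸ R) < Nat.card G := by
    rw [Subgroup.card_eq_card_quotient_mul_card_subgroup R]
    exact lt_mul_of_one_lt_right Nat.card_pos
      (Finite.one_lt_card_iff_nontrivial.2 ((Subgroup.nontrivial_iff_ne_bot _).2 hR))
  have hQ := (ih _ hlt (h.quotient R) (not_isSolvable_quotient hR2 hns)).equiv_of_pCore_eq_bot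
    (Cores.pCore_quotient_pCore 2 G)
  have hlift : ∀ (x : G ⧸ R) (q : ℕ), q.Prime → q ≠ 2 → orderOf x = q →
      ∃ g : G, (g : G ⧸ R) = x ∧ orderOf g = q := by
    intro x q hq hq2 hx
    obtain ⟨g, rfl⟩ := QuotientGroup.mk'_surjective R x
    refine ⟨g, rfl, ?_⟩
    have hd : q ∣ orderOf g := hx ▸ orderOf_map_dvd (QuotientGroup.mk' R) g
    have := hq.two_le
    obtain ⟨k, hk⟩ := hd
    have hpos := orderOf_pos g
    have hle := h g
    have hq35 : q = 3 ∨ q = 5 := by
      rcases h.prime_le hq ((Dvd.intro k hk.symm).trans (orderOf_dvd_natCard g)) with e | e | e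
      · exact absurd e hq2
      · exact Or.inl e
      · exact Or.inr e
    rcases hq35 with rfl | rfl <;> omega
  rcases hQ with he | he
  · obtain ⟨e⟩ := he
    exfalso
    haveI := Fact.mk Nat.prime_three
    have hc : Nat.card G = 360 * Nat.card R := by
      rw [Subgroup.card_eq_card_quotient_mul_card_subgroup R, Nat.card_congr e.toEquiv,
        card_alternatingGroup_six]
    obtain ⟨P, hP⟩ := Sylow.exists_subgroup_card_pow_prime (G := G) 3 (n := 2)
      (by rw [hc]; exact Dvd.dvd.mul_right (by norm_num) _)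
    have hexp : ∀ b ∈ P, b ^ 3 = 1 := fun b hb => by
      have hd : orderOf b ∣ 9 := by
        have := orderOf_dvd_natCard (⟨b, hb⟩ : P)
        rwa [Subgroup.orderOf_mk, hP] at this
      rw [← orderOf_dvd_iff_pow_eq_one]
      rcases h.orderOf_eq b with o | o | o | o | o <;> rw [o] at hd ⊢ <;> omega
    haveI := IsPGroup.isMulCommutative_of_card_eq_prime_sq hP
    have hPne : P ≠ ⊥ := fun he => by rw [he, Subgroup.card_bot] at hP; omega
    obtain ⟨g, hgP, hg1⟩ := (Subgroup.bot_or_exists_ne_one P).resolve_left hPne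
    have hgo : orderOf g = 3 := orderOf_eq_prime (hexp g hgP) hg1
    have hnorm : ∀ t : G, t ∈ Subgroup.normalizer (R : Set G) := fun t => by
      rw [Subgroup.normalizer_eq_top]; exact Subgroup.mem_top t
    have hle : P ≤ Subgroup.zpowers g := fun b hb =>
      h.mem_zpowers_of_commute (p := 2) Nat.prime_three (by norm_num) hR2 hR hgo (hexp b hb)
        (congrArg Subtype.val (mul_comm' (⟨g, hgP⟩ : P) ⟨b, hb⟩)) (hnorm g) (hnorm b)
    have := Subgroup.card_le_of_le hle
    rw [Nat.card_zpowers, hgo, hP] at this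
    omega
  · obtain ⟨e⟩ := he
    obtain ⟨r', s', hr', -, he'⟩ := (hasDihedrals_five.map e.symm).1
    obtain ⟨r, rfl, hr⟩ := hlift r' 3 Nat.prime_three (by norm_num) hr'
    obtain ⟨g, rfl⟩ := QuotientGroup.mk'_surjective R s'
    have hg : g * r * g⁻¹ * r ∈ R := by
      rw [← QuotientGroup.eq_one_iff]
      simp only [QuotientGroup.mk_mul, QuotientGroup.mk_inv]
      rw [QuotientGroup.mk'_apply] at he'
      rw [he', inv_mul_cancel]
    obtain ⟨t, ht2, htr, -⟩ := h.exists_inverting hR2 (Or.inl rfl) hr hg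
    have hnorm : ∀ x : G, x ∈ Subgroup.normalizer (R : Set G) := fun x => by
      rw [Subgroup.normalizer_eq_top]; exact Subgroup.mem_top x
    have hsq : ∀ x ∈ R, x ^ 2 = 1 := fun x hx =>
      h.sq_eq_one hR2 (Or.inl rfl) hr ht2 htr (hnorm r) (hnorm t) hx
    exact Or.inr ⟨R, inferInstance,
      ⟨⟨⟨fun a b => Subtype.ext (commute_of_sq_eq_one hsq a.2 b.2)⟩⟩, hsq⟩, ⟨e⟩⟩

/-- Card of the normaliser in a Frattini argument. -/
theorem card_normalizer_mul {M : Subgroup G} [M.Normal] {p : ℕ} [Fact p.Prime] (P : Sylow p M) :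
    Nat.card (Subgroup.normalizer (((P : Subgroup M).map M.subtype : Subgroup G) : Set G)) * Nat.card M =
      Nat.card G * Nat.card (M ⊓
        Subgroup.normalizer (((P : Subgroup M).map M.subtype : Subgroup G) : Set G) : Subgroup G) := by
  set N := Subgroup.normalizer (((P : Subgroup M).map M.subtype : Subgroup G) : Set G) with hN
  have htop : N ⊔ M = ⊤ := Sylow.normalizer_sup_eq_top P
  have h1 : M.index = M.relIndex N := by
    rw [← Subgroup.relIndex_top_right M, ← htop, Subgroup.relIndex_sup_right]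
  have h2 : Nat.card (M ⊓ N : Subgroup G) * M.relIndex N = Nat.card N := by
    rw [← Subgroup.inf_relIndex_right, ← Subgroup.relIndex_bot_left, ← Subgroup.relIndex_bot_left,
      Subgroup.relIndex_mul_relIndex ⊥ (M ⊓ N) N bot_le inf_le_right]
  rw [← h2, ← h1, ← Subgroup.card_mul_index M]
  ring

theorem exists_sylow_eq_zpowers {M : Type*} [Group M] [Finite M] {p : ℕ} [hp : Fact p.Prime] {r : M}
    (hr : orderOf r = p) (hd : ¬ p ^ 2 ∣ Nat.card M) :
    ∃ P : Sylow p M, (P : Subgroup M) = Subgroup.zpowers r := by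
  have hP : IsPGroup p (Subgroup.zpowers r) :=
    IsPGroup.of_card (n := 1) (by rw [pow_one, Nat.card_zpowers, hr])
  obtain ⟨P, hle⟩ := hP.exists_le_sylow
  refine ⟨P, (Subgroup.eq_of_le_of_card_ge hle ?_).symm⟩
  obtain ⟨k, hk⟩ := (IsPGroup.iff_card).1 P.isPGroup'
  have hk2 : k ≤ 1 := by
    by_contra h2
    exact hd ((pow_dvd_pow p (by omega)).trans (hk ▸ Subgroup.card_subgroup_dvd_card _))
  rw [Nat.card_zpowers, hr, hk]
  exact (Nat.pow_le_pow_right hp.out.pos hk2).trans_eq (pow_one p)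

/-- The normaliser of a self-centralising subgroup of prime order. -/
theorem Spec.card_normalizer_dvd (h : Spec G) {p : ℕ} [hp : Fact p.Prime] {x : G}
    (hx : orderOf x = p) (hd : ¬ p ^ 2 ∣ Nat.card G) :
    Nat.card (Subgroup.normalizer (Subgroup.zpowers x : Set G)) ∣ p * (p - 1) := by
  set V := Subgroup.zpowers x with hV
  set N := Subgroup.normalizer (V : Set G)
  have hC : Nat.card (Subgroup.centralizer (V : Set G)) ∣ p := by
    have hC' : IsPGroup p (Subgroup.centralizer (V : Set G)) :=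
      (h.isPGroup_centralizer hx).to_le
        (Subgroup.centralizer_le (by simp [hV]))
    obtain ⟨k, hk⟩ := (IsPGroup.iff_card).1 hC'
    have : k ≤ 1 := by
      by_contra h2
      exact hd ((pow_dvd_pow p (by omega)).trans (hk ▸ Subgroup.card_subgroup_dvd_card _))
    rw [hk]
    exact (pow_dvd_pow p this).trans (pow_one p).dvd
  let f := Subgroup.normalizerMonoidHom V
  have h1 := Subgroup.card_mul_index f.ker
  rw [Subgroup.index_ker] at h1
  rw [← h1]
  refine mul_dvd_mul ?_ ?_
  · refine Dvd.dvd.trans ?_ hC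
    rw [Subgroup.normalizerMonoidHom_ker]
    exact Subgroup.card_comap_dvd_of_injective _ _ (Subgroup.subtype_injective _)
  · refine (Subgroup.card_subgroup_dvd_card f.range).trans ?_
    rw [IsCyclic.card_mulAut, Nat.card_zpowers, hx, Nat.totient_prime hp.out]

theorem card_dvd_inf_normalizer {M : Subgroup G} {p : ℕ} (hp : p.Prime) (hp2 : p ≠ 2) {r s : M}
    (hr : orderOf r = p) (hs : orderOf s = 2) (hsr : s * r * s⁻¹ = r⁻¹) :
    2 * p ∣ Nat.card (M ⊓ Subgroup.normalizer (Subgroup.zpowers (r : G) : Set G) : Subgroup G) := by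
  set K := M ⊓ Subgroup.normalizer (Subgroup.zpowers (r : G) : Set G) with hK
  have hsr' : (s : G) * r * (s : G)⁻¹ = (r : G)⁻¹ := congrArg Subtype.val hsr
  have hrK : (r : G) ∈ K := ⟨r.2, Subgroup.le_normalizer (Subgroup.mem_zpowers _)⟩
  have hsK : (s : G) ∈ K := by
    refine ⟨s.2, Subgroup.mem_normalizer_iff.2 fun y => ?_⟩
    have hfwd : ∀ y ∈ Subgroup.zpowers (r : G), (s : G) * y * (s : G)⁻¹ ∈ Subgroup.zpowers (r : G) := by
      rintro _ ⟨i, rfl⟩
      refine ⟨-i, ?_⟩
      rw [← conj_zpow, hsr', inv_zpow', ]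
    refine ⟨hfwd y, fun hy => ?_⟩
    have hss : (s : G) * s = 1 := by
      have := pow_orderOf_eq_one (s : G)
      rwa [Subgroup.orderOf_coe, hs, sq] at this
    have hsi : (s : G)⁻¹ = s := inv_eq_of_mul_eq_one_left hss
    have h1 := hfwd _ hy
    rw [hsi] at h1
    simpa [← mul_assoc, hss, mul_assoc _ (s : G) s] using h1
  have h1 : p ∣ Nat.card K := by
    have := orderOf_dvd_natCard (⟨_, hrK⟩ : K)
    rwa [Subgroup.orderOf_mk, Subgroup.orderOf_coe, hr] at this
  have h2 : 2 ∣ Nat.card K := by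
    have := orderOf_dvd_natCard (⟨_, hsK⟩ : K)
    rwa [Subgroup.orderOf_mk, Subgroup.orderOf_coe, hs] at this
  exact ((Nat.coprime_primes Nat.prime_two hp).2 (Ne.symm hp2)).mul_dvd_of_dvd_of_dvd h2 h1

theorem two_pow_le {n a b : ℕ} (hd : 2 ^ a ∣ n) (hn : ¬ 2 ^ (b + 1) ∣ n) : a ≤ b := by
  by_contra hab
  exact hn ((pow_dvd_pow 2 (by omega)).trans hd)

/-- `A6` has no extension of degree two with all element orders at most five. -/
theorem Spec.false_of_sixData (h : Spec G) {M : Subgroup G} [M.Normal] (hM : Nat.card M = 360)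
    (hidx : M.index = 2) (hdata : HasSixData M) : False := by
  classical
  haveI := Fact.mk Nat.prime_two
  haveI := Fact.mk Nat.prime_three
  obtain ⟨c', a', r', hc4', ha2', hr3', e1', e2', e3'⟩ := hdata.2
  obtain ⟨c, hcdef⟩ : ∃ c : G, c = c' := ⟨_, rfl⟩
  obtain ⟨a, hadef⟩ : ∃ a : G, a = a' := ⟨_, rfl⟩
  obtain ⟨r, hrdef⟩ : ∃ r : G, r = r' := ⟨_, rfl⟩
  have hc4 : orderOf c = 4 := by rw [hcdef, Subgroup.orderOf_coe, hc4']
  have ha2 : orderOf a = 2 := by rw [hadef, Subgroup.orderOf_coe, ha2']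
  have hr3 : orderOf r = 3 := by rw [hrdef, Subgroup.orderOf_coe, hr3']
  have e1 : a * c * a⁻¹ = c⁻¹ := by rw [hcdef, hadef]; exact congrArg Subtype.val e1'
  have e2 : r * a * r⁻¹ = c ^ 2 := by rw [hcdef, hadef, hrdef]; exact congrArg Subtype.val e2'
  have e3 : r * c ^ 2 * r⁻¹ = a * c ^ 2 := by
    rw [hcdef, hadef, hrdef]; exact congrArg Subtype.val e3'
  have hcM : c ∈ M := hcdef ▸ c'.2
  have haM : a ∈ M := hadef ▸ a'.2
  have hc4' : c ^ 4 = 1 := by rw [← hc4, pow_orderOf_eq_one]
  have haa : a * a = 1 := by rw [← sq, ← ha2, pow_orderOf_eq_one]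
  have hai : a⁻¹ = a := inv_eq_of_mul_eq_one_left haa
  set z := c ^ 2 with hz
  have hz2 : orderOf z = 2 := by rw [hz, orderOf_pow' _ two_ne_zero, hc4]; norm_num
  have hzz : z * z = 1 := by rw [hz, ← pow_add, hc4']
  have hzi : z⁻¹ = z := inv_eq_of_mul_eq_one_left hzz
  have hcz : Commute c z := (Commute.refl c).pow_right 2
  have haz : Commute a z := by
    refine mul_inv_eq_iff_eq_mul.1 ?_
    rw [hz, ← conj_pow, e1, inv_pow]
    exact hzi
  have hane : a ∉ Subgroup.zpowers c := by
    rintro ⟨i, hi⟩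
    have hcc : a * c * a⁻¹ = c := by
      rw [← hi]
      exact mul_inv_eq_iff_eq_mul.2 ((Commute.refl c).zpow_left i)
    rw [e1] at hcc
    have : c ^ 2 = 1 := by rw [sq]; nth_rewrite 1 [← hcc]; exact inv_mul_cancel c
    have := orderOf_dvd_of_pow_eq_one this
    rw [hc4] at this
    omega
  have hpow : ∀ {K : Subgroup G}, IsPGroup 2 K → K ≤ M → Nat.card K ≤ 8 := by
    intro K hK hKM
    obtain ⟨k, hk⟩ := (IsPGroup.iff_card).1 hK
    have hk' : k ≤ 3 :=
      two_pow_le (n := 360) (hk ▸ hM ▸ Subgroup.card_dvd_of_le hKM) (by norm_num)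
    rw [hk]
    exact Nat.pow_le_pow_right (by norm_num) hk'
  -- the Sylow 2-subgroup of `M` centralising `z`
  set D := M ⊓ Subgroup.centralizer ({z} : Set G) with hD
  have hcD : c ∈ D := ⟨hcM, Subgroup.mem_centralizer_singleton_iff.2 hcz.eq⟩
  have haD : a ∈ D := ⟨haM, Subgroup.mem_centralizer_singleton_iff.2 haz.eq⟩
  have hD2 : IsPGroup 2 D := (h.isPGroup_centralizer hz2).to_le inf_le_right
  have hcD' : Subgroup.zpowers c ≤ D := Subgroup.zpowers_le.2 hcD
  have hD8 : Nat.card D = 8 := by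
    obtain ⟨k, hk⟩ := (IsPGroup.iff_card).1 hD2
    have h8 := hpow hD2 inf_le_left
    have h4 : 4 < Nat.card D := by
      have hl : 4 ≤ Nat.card D := by
        have := Subgroup.card_le_of_le hcD'
        rwa [Nat.card_zpowers, hc4] at this
      refine lt_of_le_of_ne hl fun he => hane ?_
      rw [Subgroup.eq_of_le_of_card_ge hcD' (by rw [Nat.card_zpowers, hc4, he])]
      exact haD
    rw [hk] at h8 h4 ⊢
    have : k = 3 := by
      have h1 : k ≤ 3 := by
        by_contra hh
        have := Nat.pow_le_pow_right (show 1 ≤ 2 by norm_num) (show 4 ≤ k by omega)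
        omega
      interval_cases k <;> omega
    rw [this]; rfl
  have hDel : ∀ x ∈ D, x ∈ Subgroup.zpowers c ∨ ∃ i : ℤ, x = a * c ^ i := by
    intro x hx
    by_cases hxc : x ∈ Subgroup.zpowers c
    · exact Or.inl hxc
    · right
      have hi : ((Subgroup.zpowers c).subgroupOf D).index = 2 := by
        have := Subgroup.card_mul_index ((Subgroup.zpowers c).subgroupOf D)
        rw [Nat.card_congr (Subgroup.subgroupOfEquivOfLe hcD').toEquiv, Nat.card_zpowers, hc4,
          hD8] at this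
        omega
      have := (Subgroup.mul_mem_iff_of_index_two hi (a := (⟨a, haD⟩ : D)) (b := ⟨x, hx⟩)).2
        (iff_of_false hane hxc)
      obtain ⟨i, hi⟩ := (this : a * x ∈ Subgroup.zpowers c)
      exact ⟨i, by rw [show c ^ i = a * x from hi, ← mul_assoc, haa, one_mul]⟩
  have hsq : ∀ i : ℤ, (a * c ^ i) * (a * c ^ i) = 1 := fun i => by
    calc (a * c ^ i) * (a * c ^ i) = (a * c ^ i * a⁻¹) * c ^ i := by rw [hai]; group
      _ = 1 := by rw [← conj_zpow, e1, inv_zpow, inv_mul_cancel]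
  -- a subgroup of order 16
  obtain ⟨S, hS16, hDS⟩ := Sylow.exists_subgroup_card_pow_prime_le (G := G) (p := 2) (n := 3) (m := 4)
    (by rw [← Subgroup.card_mul_index M, hM, hidx]; norm_num) D (by rw [hD8]; rfl) (by norm_num)
  have hS2 : IsPGroup 2 S := IsPGroup.of_card hS16
  have hSM : S ⊓ M = D := (Subgroup.eq_of_le_of_card_ge (le_inf hDS inf_le_left)
    (hD8 ▸ hpow (hS2.to_le inf_le_left) inf_le_right)).symm
  obtain ⟨g0, hg0S, hg0M⟩ : ∃ g ∈ S, g ∉ M := by
    by_contra hh
    push Not at hh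
    have := hpow hS2 hh
    rw [hS16] at this
    norm_num at this
  have hconj : ∀ g ∈ S, ∀ x ∈ D, g * x * g⁻¹ ∈ D := fun g hg x hx => hSM ▸
    ⟨S.mul_mem (S.mul_mem hg (hDS hx)) (S.inv_mem hg),
      Subgroup.Normal.conj_mem inferInstance x hx.1 g⟩
  have hinvc : ∀ g ∈ S, g * c * g⁻¹ = c ∨ g * c * g⁻¹ = c⁻¹ := by
    intro g hg
    have ho : orderOf (g * c * g⁻¹) = 4 := by
      rw [← MulAut.conj_apply, MulEquiv.orderOf_eq, hc4]
    rcases hDel _ (hconj g hg c hcD) with hm | ⟨i, hi⟩
    · obtain ⟨i, hi⟩ := (mem_zpowers_iff_mem_range_orderOf.1 hm : _) |> Finset.mem_image.1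
      obtain ⟨hi4, hi⟩ := hi
      rw [Finset.mem_range, hc4] at hi4
      rw [← hi] at ho ⊢
      interval_cases i
      · simp at ho
      · exact Or.inl (pow_one c)
      · rw [← hz, hz2] at ho; omega
      · exact Or.inr (eq_inv_of_mul_eq_one_left (by rw [← pow_succ, hc4']))
    · have := orderOf_dvd_of_pow_eq_one (show (g * c * g⁻¹) ^ 2 = 1 by rw [sq, hi, hsq])
      rw [ho] at this
      omega
  obtain ⟨g1, hg1S, hg1M, hg1c⟩ : ∃ g ∈ S, g ∉ M ∧ Commute g c := by
    rcases hinvc g0 hg0S with e | e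
    · exact ⟨g0, hg0S, hg0M, mul_inv_eq_iff_eq_mul.1 e⟩
    · refine ⟨g0 * a, S.mul_mem hg0S (hDS haD), fun hm => hg0M ?_, mul_inv_eq_iff_eq_mul.1 ?_⟩
      · exact (M.mul_mem_cancel_right haM).1 hm
      · calc g0 * a * c * (g0 * a)⁻¹ = (g0 * (a * c * a⁻¹) * g0⁻¹) := by group
          _ = (g0 * c * g0⁻¹)⁻¹ := by rw [e1]; group
          _ = c := by rw [e, inv_inv]
  have h8 : ∀ g : G, g ^ 2 = c ∨ g ^ 2 = c⁻¹ → False := by
    intro g hg
    have h4 : orderOf (g ^ 2) = 4 := by
      rcases hg with e | e <;> rw [e]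
      · exact hc4
      · rw [orderOf_inv, hc4]
    have ho : orderOf g = 2 * 4 := by
      have hd : orderOf (g ^ 2) ∣ orderOf g := orderOf_pow_dvd 2
      have hpos := orderOf_pos g
      rcases h.orderOf_eq g with o | o | o | o | o <;> rw [h4, o] at hd <;> try omega
      rw [orderOf_pow' _ two_ne_zero, o] at h4
      norm_num at h4
    have := h g
    omega
  -- an involution outside `M` centralising `c`
  obtain ⟨w, hwS, hwM, hwc, hww⟩ : ∃ w ∈ S, w ∉ M ∧ Commute w c ∧ w * w = 1 := by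
    have hg1sq : g1 ^ 2 ∈ D := hSM ▸ ⟨pow_mem hg1S 2,
      (Subgroup.sq_mem_of_index_two hidx g1)⟩
    have hcomm : Commute (g1 ^ 2) c := hg1c.pow_left 2
    rcases hDel _ hg1sq with hm | ⟨i, hi⟩
    · obtain ⟨i, hi4, hi⟩ := Finset.mem_image.1 (mem_zpowers_iff_mem_range_orderOf.1 hm)
      rw [Finset.mem_range, hc4] at hi4
      interval_cases i
      · exact ⟨g1, hg1S, hg1M, hg1c, by rw [← sq, ← hi, pow_zero]⟩
      · exact absurd (Or.inl (by rw [← hi, pow_one])) (h8 g1)
      · refine ⟨g1 * c, S.mul_mem hg1S (hDS hcD), fun hm => hg1M ((M.mul_mem_cancel_right hcM).1 hm),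
          hg1c.mul_left (Commute.refl c), ?_⟩
        rw [← sq, hg1c.mul_pow, ← hi, hzz]
      · exact absurd (Or.inr (by rw [← hi]; exact eq_inv_of_mul_eq_one_left (by rw [← pow_succ, hc4'])))
          (h8 g1)
    · exfalso
      have : a * c * a⁻¹ = c := by
        rw [hi] at hcomm
        have h' := hcomm.eq
        calc a * c * a⁻¹ = a * c ^ i * c * (c ^ i)⁻¹ * a⁻¹ := by group
          _ = c * (a * c ^ i) * (c ^ i)⁻¹ * a⁻¹ := by rw [h']
          _ = c := by group
      rw [e1] at this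
      have h2 : c ^ 2 = 1 := by rw [sq]; nth_rewrite 1 [← this]; exact inv_mul_cancel c
      have := orderOf_dvd_of_pow_eq_one h2
      rw [hc4] at this
      omega
  have hwi : w⁻¹ = w := inv_eq_of_mul_eq_one_left hww
  have hwz : Commute w z := hwc.pow_right 2
  have hwaz : w * a * w⁻¹ = a ∨ w * a * w⁻¹ = a * z := by
    rcases hDel _ (hconj w hwS a haD) with hm | ⟨i, hi⟩
    · exfalso
      obtain ⟨i, hi⟩ := hm
      apply hane
      refine ⟨i, ?_⟩
      calc c ^ i = w * c ^ i * w⁻¹ := by rw [(hwc.zpow_right i).eq, mul_inv_cancel_right]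
        _ = w * (w * a * w⁻¹) * w⁻¹ := by rw [show c ^ i = w * a * w⁻¹ from hi]
        _ = (w * w) * a * (w * w)⁻¹ := by group
        _ = a := by rw [hww]; group
    · obtain ⟨n, hn⟩ : ∃ n : ℕ, n < 4 ∧ c ^ i = c ^ n := by
        obtain ⟨n, hn4, hn⟩ := Finset.mem_image.1
          (mem_zpowers_iff_mem_range_orderOf.1 (Subgroup.zpow_mem_zpowers c i))
        rw [Finset.mem_range, hc4] at hn4
        exact ⟨n, hn4, hn.symm⟩
      have hwa : (w * a) ^ 2 = a * c ^ n * a := by
        rw [← hn.2, ← hi, hwi, sq]; group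
      have hn4 := hn.1
      interval_cases n
      · exact Or.inl (by rw [hi, hn.2, pow_zero, mul_one])
      · exact absurd (Or.inr (by rw [hwa, pow_one]; nth_rewrite 2 [← hai]; exact e1)) (h8 (w * a))
      · exact Or.inr (by rw [hi, hn.2])
      · refine absurd (Or.inl ?_) (h8 (w * a))
        rw [hwa]
        calc a * c ^ 3 * a = (a * c * a⁻¹) ^ 3 := by rw [conj_pow, hai]
          _ = c := by
            rw [e1, inv_pow]
            exact inv_eq_of_mul_eq_one_left (by rw [← pow_succ', hc4'])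
  obtain ⟨w', hw'M, hw'a, hw'z⟩ : ∃ w', w' ∉ M ∧ Commute w' a ∧ Commute w' z := by
    rcases hwaz with e | e
    · exact ⟨w, hwM, mul_inv_eq_iff_eq_mul.1 e, hwz⟩
    · refine ⟨w * c, fun hm => hwM ((M.mul_mem_cancel_right hcM).1 hm), mul_inv_eq_iff_eq_mul.1 ?_,
        hwz.mul_left hcz⟩
      have hca : c * a * c⁻¹ = a * z := by
        calc c * a * c⁻¹ = a * (a⁻¹ * c * a) * c⁻¹ := by group
          _ = a * z := by
            rw [hai]
            nth_rewrite 3 [← hai]
            rw [e1, ← hzi, hz]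
            group
      calc w * c * a * (w * c)⁻¹ = w * (c * a * c⁻¹) * w⁻¹ := by group
        _ = (w * a * w⁻¹) * (w * z * w⁻¹) := by rw [hca]; group
        _ = a := by rw [e, hwz.eq, mul_inv_cancel_right, mul_assoc, hzz, mul_one]
  set C := Subgroup.centralizer ({a, z} : Set G) with hC
  have hmemC : ∀ {x : G}, x ∈ C ↔ Commute x a ∧ Commute x z := fun {x} => by
    rw [hC, Subgroup.mem_centralizer_iff]
    simp only [Set.mem_insert_iff, Set.mem_singleton_iff, forall_eq_or_imp, forall_eq]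
    exact ⟨fun h => ⟨h.1.symm, h.2.symm⟩, fun h => ⟨h.1.eq.symm, h.2.eq.symm⟩⟩
  have hC2 : IsPGroup 2 C :=
    (h.isPGroup_centralizer hz2).to_le (Subgroup.centralizer_le (by simp))
  have hC8 : Nat.card C = 8 := by
    have hlt : Nat.card (C ⊓ M : Subgroup G) < 8 := by
      have hle : C ⊓ M ≤ D := fun x hx =>
        ⟨hx.2, Subgroup.mem_centralizer_singleton_iff.2 (hmemC.1 hx.1).2.eq⟩
      rw [← hD8]
      refine lt_of_le_of_ne (Subgroup.card_le_of_le hle) fun he => ?_
      have hcC : c ∈ C ⊓ M := by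
        rw [Subgroup.eq_of_le_of_card_ge hle he.ge]; exact hcD
      have h' := (hmemC.1 hcC.1).1
      rw [← h'.eq, mul_inv_cancel_right] at e1
      have h2 : c ^ 2 = 1 := by rw [sq]; nth_rewrite 1 [e1]; exact inv_mul_cancel c
      have := orderOf_dvd_of_pow_eq_one h2
      rw [hc4] at this
      omega
    have hrel : M.relIndex C ∣ 2 := hidx ▸ Subgroup.relIndex_dvd_index_of_normal M C
    have hcard : Nat.card (C ⊓ M : Subgroup G) * M.relIndex C = Nat.card C := by
      rw [inf_comm, ← Subgroup.inf_relIndex_right M C, ← Subgroup.relIndex_bot_left,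
        ← Subgroup.relIndex_bot_left,
        Subgroup.relIndex_mul_relIndex ⊥ (M ⊓ C) C bot_le inf_le_right]
    have hge : 4 ≤ Nat.card (C ⊓ M : Subgroup G) ∧ Nat.card (C ⊓ M : Subgroup G) < Nat.card C := by
      constructor
      · classical
        have hsub : ({1, a, z, a * z} : Finset G) ⊆ (Set.toFinite ((C ⊓ M : Subgroup G) : Set G)).toFinset := by
          intro x hx
          simp only [Finset.mem_insert, Finset.mem_singleton] at hx
          rw [Set.Finite.mem_toFinset, SetLike.mem_coe]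
          have hz' : z ∈ C ⊓ M := ⟨hmemC.2 ⟨haz.symm, Commute.refl z⟩, pow_mem hcM 2⟩
          have ha' : a ∈ C ⊓ M := ⟨hmemC.2 ⟨Commute.refl a, haz⟩, haM⟩
          rcases hx with rfl | rfl | rfl | rfl
          · exact one_mem _
          · exact ha'
          · exact hz'
          · exact mul_mem ha' hz'
        have hle := Finset.card_le_card hsub
        rw [← Set.ncard_eq_toFinset_card, ← Nat.card_coe_set_eq] at hle
        refine le_trans ?_ hle
        have hza : z ≠ a := fun e => hane (e ▸ Subgroup.npow_mem_zpowers c 2)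
        have ha1 : a ≠ 1 := fun e => hane (e ▸ one_mem _)
        have hz1 : z ≠ 1 := fun e => by rw [e, orderOf_one] at hz2; omega
        rw [Finset.card_insert_of_notMem, Finset.card_insert_of_notMem,
          Finset.card_insert_of_notMem, Finset.card_singleton]
        · simp [ha1, hz1]
        · simp only [Finset.mem_insert, Finset.mem_singleton]
          rintro (e | e)
          · exact hza e.symm
          · exact hz1 (mul_eq_left.1 e.symm)
        · simp only [Finset.mem_insert, Finset.mem_singleton]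
          rintro (e | e | e)
          · exact ha1 e.symm
          · exact hz1 e.symm
          · exact hza (mul_left_cancel (a := a) (by rw [← e, haa])).symm.symm
      · refine lt_of_le_of_ne (Subgroup.card_le_of_le inf_le_left) fun he => hw'M ?_
        have := Subgroup.eq_of_le_of_card_ge (inf_le_left : C ⊓ M ≤ C) he.ge
        have h2 : w' ∈ C ⊓ M := this.symm ▸ hmemC.2 ⟨hw'a, hw'z⟩
        exact h2.2
    obtain ⟨k, hk⟩ := (IsPGroup.iff_card).1 hC2
    have hrle := Nat.le_of_dvd two_pos hrel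
    have hlt2 : Nat.card C < 16 := by
      rw [← hcard]
      calc Nat.card (C ⊓ M : Subgroup G) * M.relIndex C
          ≤ 7 * 2 := Nat.mul_le_mul (by omega) hrle
        _ < 16 := by norm_num
    rw [hk] at hge hlt2 ⊢
    have : k ≤ 3 := by
      by_contra hh
      have := Nat.pow_le_pow_right (show 1 ≤ 2 by norm_num) (show 4 ≤ k by omega)
      omega
    interval_cases k <;> omega
  have hrC : ∀ x ∈ C, r * x * r⁻¹ ∈ C := fun x hx => by
    obtain ⟨h1, h2⟩ := hmemC.1 hx
    have h1' := h1.map (MulAut.conj r).toMonoidHom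
    have h2' := h2.map (MulAut.conj r).toMonoidHom
    simp only [MulEquiv.toMonoidHom_eq_coe, MonoidHom.coe_coe, MulAut.conj_apply, e2, e3] at h1' h2'
    refine hmemC.2 ⟨?_, h1'⟩
    have := h2'.mul_right h1'.inv_right
    rwa [mul_inv_cancel_right] at this
  have hrN : r ∈ Subgroup.normalizer (C : Set G) := by
    refine Subgroup.mem_normalizer_iff.2 fun x => ⟨hrC x, fun hx => ?_⟩
    have h3 := hrC _ (hrC _ hx)
    have : r ^ 3 = 1 := by rw [← hr3, pow_orderOf_eq_one]
    have e : r * (r * (r * x * r⁻¹) * r⁻¹) * r⁻¹ = r ^ 3 * x * (r ^ 3)⁻¹ := by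
      simp only [pow_succ, pow_zero, one_mul, mul_inv_rev, mul_assoc]
    rwa [e, this, one_mul, inv_one, mul_one] at h3
  have hmod := card_modEq_one_of_fpf hr3 hrN fun v hv hc' => h.eq_one_of_pGroup hC2 hv hc'
    (by omega) (fun e => by rw [e, orderOf_one] at hr3; omega)
  rw [hC8] at hmod
  exact absurd hmod (by decide)

theorem Spec.good_or_isSimpleGroup (h : Spec G) (hns : ¬ Group.IsSolvable G)
    (ih : ∀ (H : Type u) [Group H] [Finite H], Nat.card H < Nat.card G →
      Spec H → ¬ Group.IsSolvable H → Good H) : Good G ∨ IsSimpleGroup G := by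
  by_cases hR : pCore 2 G = ⊥
  swap
  · exact Or.inl (h.good_of_pCore_ne_bot hns hR ih)
  right
  haveI : Nontrivial G := by
    by_contra hh
    rw [not_nontrivial_iff_subsingleton] at hh
    exact hns inferInstance
  refine ⟨fun M hMn => ?_⟩
  by_contra hM
  push Not at hM
  haveI := hMn
  haveI := Fact.mk Nat.prime_two
  haveI := Fact.mk Nat.prime_three
  haveI := Fact.mk Nat.prime_five
  have hMns : ¬ Group.IsSolvable M := fun hs => by
    obtain ⟨p, hp, A, hAn, -, hAp, hA1, -⟩ := BGTypes.exists_normal_abelian_pGroup_le (H := M) hM.1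
    by_cases hp2 : p = 2
    · subst hp2
      exact hA1 (le_bot_iff.1 (hR ▸ Cores.le_pCore hAp))
    · exact hA1 (h.eq_bot_of_normal_pGroup hns hp2 hAp)
  have hlt : Nat.card M < Nat.card G :=
    lt_of_le_of_ne (Subgroup.card_le_card_group M) fun e =>
      hM.2 (Subgroup.eq_top_of_card_eq M e)
  have hM0 : pCore 2 M = ⊥ := by
    have := Cores.map_subtype_pCore_le (p := 2) (N := M) hMn.isSubnormal
    rw [hR, le_bot_iff, Subgroup.map_eq_bot_iff_of_injective _ M.subtype_injective] at this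
    exact this
  have hiso := (ih M hlt (h.subgroup M) hMns).equiv_of_pCore_eq_bot hM0
  have hcard : (Nat.card M = 60 ∨ Nat.card M = 360) ∧ HasDihedrals M := by
    rcases hiso with he | he <;> obtain ⟨e⟩ := he
    · exact ⟨Or.inr ((Nat.card_congr e.toEquiv).trans card_alternatingGroup_six),
        hasDihedrals_six.map e.symm⟩
    · exact ⟨Or.inl ((Nat.card_congr e.toEquiv).trans card_alternatingGroup_five),
        hasDihedrals_five.map e.symm⟩
  obtain ⟨hMc, ⟨r3, s3, hr3, hs3, he3⟩, ⟨r5, s5, hr5, hs5, he5⟩⟩ := hcard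
  -- `25` does not divide the group order
  have h25 : ¬ 5 ^ 2 ∣ Nat.card G := by
    intro h25
    obtain ⟨Q⟩ := (inferInstance : Nonempty (Sylow 3 M))
    have hN := card_normalizer_mul Q
    set V := (Q : Subgroup M).map M.subtype with hV
    have h5 : 5 ∣ Nat.card (Subgroup.normalizer (V : Set G)) := by
      by_contra h5
      have : 5 ^ 2 ∣ Nat.card M :=
        (((Nat.prime_five.coprime_iff_not_dvd).2 h5).pow_left 2).dvd_of_dvd_mul_left
          (hN ▸ h25.mul_right _)
      rcases hMc with e | e <;> rw [e] at this <;> norm_num at this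
    obtain ⟨x, hx⟩ := exists_prime_orderOf_dvd_card' 5 h5
    have hV3 : IsPGroup 3 V := Q.isPGroup'.map _
    have hmod := card_modEq_one_of_fpf (x := (x : G)) (by rw [Subgroup.orderOf_coe, hx]) x.2
      fun v hv hc' => h.eq_one_of_pGroup hV3 hv hc' (by rw [Subgroup.orderOf_coe, hx]; norm_num)
        (fun e => by rw [← Subgroup.orderOf_coe, e, orderOf_one] at hx; omega)
    rw [hV, Subgroup.card_map_of_injective M.subtype_injective] at hmod
    obtain ⟨k, hk⟩ := (IsPGroup.iff_card).1 Q.isPGroup'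
    rw [hk] at hmod
    have hk1 : 3 ∣ Nat.card Q := Q.dvd_card_of_dvd_card (by rcases hMc with e | e <;> rw [e] <;> norm_num)
    have hk2 : k ≤ 2 := by
      by_contra hh
      have h27 : 3 ^ 3 ∣ Nat.card M :=
        (pow_dvd_pow 3 (by omega)).trans (hk ▸ Subgroup.card_subgroup_dvd_card _)
      rcases hMc with e | e <;> rw [e] at h27 <;> norm_num at h27
    rw [hk] at hk1
    interval_cases k
    · norm_num at hk1
    · exact absurd hmod (by decide)
    · exact absurd hmod (by decide)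
  have key : ∀ (p : ℕ), Fact p.Prime → p ≠ 2 → ∀ r s : M, orderOf r = p → orderOf s = 2 →
      s * r * s⁻¹ = r⁻¹ → ¬ p ^ 2 ∣ Nat.card G → M.index * (2 * p) ∣ p * (p - 1) := by
    intro p hp hp2 r s hr hs he hd
    obtain ⟨P, hP⟩ := exists_sylow_eq_zpowers hr
      (fun hh => hd (hh.trans (Subgroup.card_subgroup_dvd_card M)))
    have hN := card_normalizer_mul P
    rw [hP, MonoidHom.map_zpowers, Subgroup.subtype_apply] at hN
    have hd2 := h.card_normalizer_dvd (x := (r : G)) (by rw [Subgroup.orderOf_coe, hr]) hd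
    have hd1 := card_dvd_inf_normalizer hp.out hp2 hr hs he
    rw [← Subgroup.card_mul_index M] at hN
    have hN' := Nat.eq_of_mul_eq_mul_right (Nat.card_pos (α := M)) (hN.trans (by ring :
      _ = (M.index * Nat.card (M ⊓ Subgroup.normalizer (Subgroup.zpowers (r : G) : Set G) :
        Subgroup G)) * Nat.card M))
    exact (mul_dvd_mul_left _ hd1).trans (hN' ▸ hd2)
  have hidx : M.index = 2 := by
    have h2 := key 5 inferInstance (by norm_num) r5 s5 hr5 hs5 he5 h25
    have hne : M.index ≠ 1 := fun e => hM.2 (Subgroup.index_eq_one.1 e)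
    have hle : M.index * 10 ∣ 2 * 10 := by simpa using h2
    have := Nat.dvd_of_mul_dvd_mul_right (by norm_num) hle
    exact ((Nat.dvd_prime Nat.prime_two).1 this).resolve_left hne
  have hG : Nat.card G = Nat.card M * 2 := by rw [← Subgroup.card_mul_index M, hidx]
  rcases hiso with he | he <;> obtain ⟨e⟩ := he
  · exact h.false_of_sixData ((Nat.card_congr e.toEquiv).trans card_alternatingGroup_six) hidx
      (hasSixData_six.map e.symm)
  · have hM60 := (Nat.card_congr e.toEquiv).trans card_alternatingGroup_five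
    have := key 3 inferInstance (by norm_num) r3 s3 hr3 hs3 he3 (by rw [hG, hM60]; norm_num)
    rw [hidx] at this
    norm_num at this

end CfsgLib.SmallSpectrum
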