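import Cfsg.Agent.Lib.SmallSpectrum.Involutions
import Cfsg.Agent.Lib.SmallSpectrum.Arith

/-!
# The simple case with Sylow 2-subgroups meeting trivially
-/

set_option autoImplicit false
set_option linter.unusedSectionVars false
set_option linter.style.haveILetI false

namespace CfsgLib.SmallSpectrum

open Cfsg

universe u

variable {G : Type u} [Group G] [Finite G]

theorem Spec.mem_two_group (h : Spec G) {g : G} (hg : orderOf g = 2 ∨ orderOf g = 4) :
    ∃ S : Sylow 2 G, g ∈ S := by
  haveI := Fact.mk Nat.prime_two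
  have hp : IsPGroup 2 (Subgroup.zpowers g) := by
    rcases hg with e | e
    · exact IsPGroup.of_card (n := 1) (by rw [Nat.card_zpowers, e, pow_one])
    · exact IsPGroup.of_card (n := 2) (by rw [Nat.card_zpowers, e]; rfl)
  obtain ⟨S, hS⟩ := hp.exists_le_sylow
  exact ⟨S, hS (Subgroup.mem_zpowers g)⟩

theorem Spec.orderOf_two_or_four (h : Spec G) {S : Sylow 2 G} {g : G} (hg : g ∈ S) (h1 : g ≠ 1) :
    orderOf g = 2 ∨ orderOf g = 4 := by
  haveI := Fact.mk Nat.prime_two
  obtain ⟨k, hk⟩ := (IsPGroup.iff_orderOf.1 S.isPGroup') ⟨g, hg⟩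
  have e := Subgroup.orderOf_mk g hg
  rw [e] at hk
  rcases h.orderOf_eq g with o | o | o | o | o
  · exact absurd (orderOf_eq_one_iff.1 o) h1
  · exact Or.inl o
  · exfalso
    have := (Nat.prime_dvd_prime_iff_eq Nat.prime_three Nat.prime_two).1
      (Nat.prime_three.dvd_of_dvd_pow (show 3 ∣ 2 ^ k by rw [← hk, o]))
    omega
  · exact Or.inr o
  · exfalso
    have := (Nat.prime_dvd_prime_iff_eq Nat.prime_five Nat.prime_two).1
      (Nat.prime_five.dvd_of_dvd_pow (show 5 ∣ 2 ^ k by rw [← hk, o]))
    omega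

theorem sylow_two_ne_top (hns : ¬ Group.IsSolvable G) (S : Sylow 2 G) : (S : Subgroup G) ≠ ⊤ := fun e => by
  haveI := Fact.mk Nat.prime_two
  apply hns
  have h1 : IsPGroup 2 (⊤ : Subgroup G) := e ▸ S.isPGroup'
  haveI := (h1.of_equiv Subgroup.topEquiv).isNilpotent
  infer_instance

/-- The counting in the trivial intersection case. -/
theorem Spec.card_eq_sixty_of_ti [IsSimpleGroup G] (h : Spec G) (hns : ¬ Group.IsSolvable G)
    (hTI : ∀ S T : Sylow 2 G, ∀ g ∈ S, g ∈ T → g ≠ 1 → S = T) : Nat.card G = 60 := by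
  classical
  haveI := Fintype.ofFinite G
  haveI := Fact.mk Nat.prime_two
  haveI := Fact.mk Nat.prime_three
  haveI := Fact.mk Nat.prime_five
  obtain ⟨hd2, hd3, hd5⟩ := h.dvd_of_not_isSolvable hns
  have hcent : ∀ {u : G}, orderOf u = 2 → ∀ {S : Sylow 2 G}, u ∈ S → ∀ x : G, Commute x u → x ∈ S := by
    intro u hu S hS x hx
    obtain ⟨R, hR⟩ := (h.isPGroup_centralizer hu).exists_le_sylow
    have huR : u ∈ R := hR (Subgroup.mem_centralizer_singleton_iff.2 rfl)
    rw [hTI S R u hS huR (fun e => by rw [e, orderOf_one] at hu; omega)]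
    exact hR (Subgroup.mem_centralizer_singleton_iff.2 hx.eq)
  have hconj : ∀ {u v : G}, orderOf u = 2 → orderOf v = 2 → IsConj u v := by
    intro u v hu hv
    by_contra hnc
    obtain ⟨Sv, hSv⟩ := h.mem_two_group (Or.inl hv)
    have hall : ∀ g : G, g * u * g⁻¹ ∈ Sv := by
      intro g
      have hu' : orderOf (g * u * g⁻¹) = 2 := by rw [← MulAut.conj_apply, MulEquiv.orderOf_eq, hu]
      rcases h.isConj_or_commute hu' hv with hc | ⟨w, hw, hwu, hwv⟩
      · exact absurd ((isConj_iff.2 ⟨g, rfl⟩ : IsConj u _).trans hc) hnc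
      · exact hcent hw (hcent hv hSv w hwv) _ hwu.symm
    have hu1 : u ∈ (Sv : Subgroup G).normalCore := fun g => hall g
    rcases Subgroup.Normal.eq_bot_or_eq_top (H := (Sv : Subgroup G).normalCore) inferInstance with e | e
    · rw [e, Subgroup.mem_bot] at hu1
      rw [hu1, orderOf_one] at hu
      omega
    · exact sylow_two_ne_top hns Sv (top_le_iff.1 (e ▸ Subgroup.normalCore_le _))
  obtain ⟨S⟩ := (inferInstance : Nonempty (Sylow 2 G))
  have hS1 : (S : Subgroup G) ≠ ⊥ := fun e => by
    have := S.dvd_card_of_dvd_card hd2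
    rw [e, Subgroup.card_bot] at this
    norm_num at this
  set N := Subgroup.normalizer (S : Set G) with hN
  have hSN : (S : Subgroup G) ≤ N := Subgroup.le_normalizer
  obtain ⟨z, hz, hzS, hzc⟩ : ∃ z : G, orderOf z = 2 ∧ z ∈ S ∧ ∀ x ∈ S, Commute z x := by
    haveI := (Subgroup.nontrivial_iff_ne_bot _).2 hS1
    haveI : Nontrivial (Subgroup.center S) := S.isPGroup'.center_nontrivial
    have hdvd : 2 ∣ Nat.card (Subgroup.center S) := by
      obtain ⟨k, hk, hcard⟩ :=
        (S.isPGroup'.to_subgroup (Subgroup.center S)).nontrivial_iff_card.1 inferInstance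
      exact hcard ▸ dvd_pow_self 2 hk.ne'
    obtain ⟨z, hz⟩ := exists_prime_orderOf_dvd_card' (G := Subgroup.center S) 2 hdvd
    refine ⟨((z : S) : G), by rw [Subgroup.orderOf_coe, Subgroup.orderOf_coe, hz], (z : S).2,
      fun x hx => ?_⟩
    exact congrArg Subtype.val (Subgroup.mem_center_iff.1 z.2 ⟨x, hx⟩).symm
  have htoN : ∀ {u : G}, orderOf u = 2 → u ∈ S → ∀ g : G, g * z * g⁻¹ = u → g ∈ N := by
    intro u hu huS g hg
    refine Sylow.smul_eq_iff_mem_normalizer.1 (hTI _ S u ?_ huS (fun e => by rw [e, orderOf_one] at hu; omega))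
    rw [← hg]
    exact Subgroup.smul_mem_pointwise_smul z (MulAut.conj g) _ hzS
  have hcentral : ∀ {u : G}, orderOf u = 2 → u ∈ S → ∀ x ∈ S, Commute u x := by
    intro u hu huS x hx
    obtain ⟨g, hg⟩ := isConj_iff.1 (hconj hz hu)
    have hgN := htoN hu huS g hg
    have hx' : g⁻¹ * x * g ∈ (S : Subgroup G) := by
      have := conj_mem_of_mem_normalizer (inv_mem hgN) hx
      rwa [inv_inv] at this
    have := (hzc _ hx').map (MulAut.conj g).toMonoidHom
    simp only [MulEquiv.toMonoidHom_eq_coe, MonoidHom.coe_coe, MulAut.conj_apply, hg] at this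
    simpa [mul_assoc] using this
  let Ω : Subgroup G :=
    { carrier := {x | x ∈ S ∧ x * x = 1}
      one_mem' := ⟨(S : Subgroup G).one_mem, one_mul 1⟩
      mul_mem' := fun {a b} ha hb => ⟨(S : Subgroup G).mul_mem ha.1 hb.1, by
        rcases eq_or_ne a 1 with rfl | ha1
        · rw [one_mul]; exact hb.2
        have hc : Commute a b := hcentral (orderOf_eq_two_of_sq ha.2 ha1) ha.1 b hb.1
        rw [mul_assoc, ← mul_assoc b, ← hc.eq, mul_assoc, hb.2, mul_one, ha.2]⟩
      inv_mem' := fun {a} ha => ⟨(S : Subgroup G).inv_mem ha.1, by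
        rw [← mul_inv_rev, ha.2, inv_one]⟩ }
  have hΩS : Ω ≤ (S : Subgroup G) := fun x hx => hx.1
  set j := Nat.card {u : G // orderOf u = 2 ∧ u ∈ S} with hj
  have hΩj : Nat.card Ω = j + 1 := by
    have e : {x : Ω // x ≠ 1} ≃ {u : G // orderOf u = 2 ∧ u ∈ S} :=
      { toFun := fun x => ⟨((x.1 : Ω) : G),
          orderOf_eq_two_of_sq x.1.2.2 (fun e => x.2 (Subtype.ext e)), x.1.2.1⟩
        invFun := fun u => ⟨⟨u.1, u.2.2, mul_self_of_orderOf_two u.2.1⟩, fun e => by
          have := congrArg Subtype.val e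
          have h2 := u.2.1
          rw [show (u.1 : G) = 1 from this, orderOf_one] at h2
          omega⟩
        left_inv := fun x => rfl
        right_inv := fun u => rfl }
    rw [hj, ← Nat.card_congr e, Nat.card_eq_fintype_card, Nat.card_eq_fintype_card,
      Fintype.card_subtype_compl, Fintype.card_subtype_eq]
    have := Fintype.card_pos (α := Ω)
    omega
  -- the normaliser index is `j`
  have hjN : j * Nat.card S = Nat.card N := by
    letI act : MulAction N G := MulAction.compHom G ((MulAut.conj (G := G)).comp N.subtype)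
    have hsmul : ∀ (g : N) (x : G), g • x = (g : G) * x * (g : G)⁻¹ := fun g x => rfl
    have hst : MulAction.stabilizer N z = (S : Subgroup G).subgroupOf N := by
      ext g
      rw [MulAction.mem_stabilizer_iff, hsmul, Subgroup.mem_subgroupOf]
      exact ⟨fun e => hcent hz hzS _ (mul_inv_eq_iff_eq_mul.1 e),
        fun hg => mul_inv_eq_iff_eq_mul.2 (hzc _ hg).symm.eq⟩
    have horb : MulAction.orbit N z = {u : G | orderOf u = 2 ∧ u ∈ S} := by
      ext u
      rw [MulAction.mem_orbit_iff, Set.mem_setOf_eq]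
      constructor
      · rintro ⟨g, rfl⟩
        rw [hsmul]
        exact ⟨by rw [← MulAut.conj_apply, MulEquiv.orderOf_eq, hz],
          conj_mem_of_mem_normalizer g.2 hzS⟩
      · rintro ⟨hu, huS⟩
        obtain ⟨g, hg⟩ := isConj_iff.1 (hconj hz hu)
        exact ⟨⟨g, htoN hu huS g hg⟩, hg⟩
    have h1 := MulAction.index_stabilizer N z
    rw [hst, horb, ← Nat.card_coe_set_eq] at h1
    rw [← Subgroup.card_mul_index ((S : Subgroup G).subgroupOf N), h1,
      Nat.card_congr (Subgroup.subgroupOfEquivOfLe hSN).toEquiv, mul_comm]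
    rfl
  obtain ⟨a, ha⟩ := (IsPGroup.iff_card).1 S.isPGroup'
  have hj3 : j = 3 := by
    have hjidx : j = ((S : Subgroup G).subgroupOf N).index := by
      refine Nat.eq_of_mul_eq_mul_right (Nat.card_pos (α := S)) ?_
      rw [hjN, ← Subgroup.card_mul_index ((S : Subgroup G).subgroupOf N),
        Nat.card_congr (Subgroup.subgroupOfEquivOfLe hSN).toEquiv, mul_comm]
    have hodd : ¬ 2 ∣ j := hjidx ▸ (S.subtype hSN).not_dvd_index
    have hj15 : j ∣ 15 := by
      refine (Nat.dvd_iff_prime_pow_dvd_dvd _ _).2 fun r i hr hri => ?_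
      rcases Nat.eq_zero_or_pos i with rfl | hi
      · simp
      haveI := Fact.mk hr
      have hrj : r ∣ j := (dvd_pow_self r hi.ne').trans hri
      have hr2 : r ≠ 2 := fun e => hodd (e ▸ hrj)
      obtain ⟨R, hR⟩ := Sylow.exists_subgroup_card_pow_prime (G := N) r (n := i)
        (hjN ▸ hri.mul_right _)
      have hb := h.card_dvd_of_fpf hr2 ((IsPGroup.of_card hR).map N.subtype) S.isPGroup' hS1
        (Subgroup.map_subtype_le R)
      rw [Subgroup.card_map_of_injective N.subtype_injective, hR, if_neg hr2] at hb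
      have hrG : r ∣ Nat.card G :=
        (hrj.trans (Dvd.intro _ hjN)).trans (Subgroup.card_subgroup_dvd_card N)
      rcases h.prime_le hr hrG with e | e | e
      · exact absurd e hr2
      · subst e; exact hb.trans (by norm_num)
      · subst e; exact hb.trans (by norm_num)
    have hΩ2 : ∃ t, j + 1 = 2 ^ t := by
      obtain ⟨t, ht⟩ := (IsPGroup.iff_card).1 (S.isPGroup'.to_le hΩS)
      exact ⟨t, hΩj ▸ ht⟩
    have hj15' : j ≠ 15 := by
      intro e15
      haveI hn : ((S : Subgroup G).subgroupOf N).Normal :=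
        (Subgroup.normal_subgroupOf_iff_le_normalizer hSN).2 le_rfl
      set X := N ⧸ (S : Subgroup G).subgroupOf N
      have hX : Spec X := (h.subgroup N).quotient _
      have hXc : Nat.card X = 15 := by rw [← e15, hjidx]; rfl
      obtain ⟨P⟩ := (inferInstance : Nonempty (Sylow 5 X))
      have hP5 : 5 ∣ Nat.card P := P.dvd_card_of_dvd_card (by rw [hXc]; norm_num)
      have hPn : (P : Subgroup X).Normal := by
        have h1 : Nat.card (Sylow 5 X) ∣ 3 := by
          refine (Sylow.card_dvd_index P).trans ?_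
          have h := Subgroup.card_mul_index (P : Subgroup X)
          obtain ⟨m, hm⟩ := hP5
          rw [hXc, hm, mul_assoc] at h
          exact Dvd.intro_left m (by omega)
        have h2 := card_sylow_modEq_one 5 X
        have h3 : Nat.card (Sylow 5 X) = 1 := by
          rcases (Nat.dvd_prime Nat.prime_three).1 h1 with e | e
          · exact e
          · rw [e] at h2; exact absurd h2 (by decide)
        haveI := (Nat.card_eq_one_iff_unique.1 h3).1
        exact P.normal_of_subsingleton
      obtain ⟨x, hx⟩ := exists_prime_orderOf_dvd_card' (G := X) 3 (by rw [hXc]; norm_num)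
      have hmod := card_modEq_one_of_fpf (x := x) hx (V := (P : Subgroup X))
        (by rw [Subgroup.normalizer_eq_top]; exact Subgroup.mem_top x)
        fun v hv hc => hX.eq_one_of_pGroup P.isPGroup' hv hc (by rw [hx]; norm_num)
          (fun e => by rw [e, orderOf_one] at hx; omega)
      have hcard : Nat.card P = 5 := by
        obtain ⟨k, hk⟩ := (IsPGroup.iff_card).1 P.isPGroup'
        rw [hk] at hP5 ⊢
        have hk15 : 5 ^ k ∣ 15 := hXc ▸ hk ▸ Subgroup.card_subgroup_dvd_card _
        have : k ≤ 1 := by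
          by_contra hh
          have := (pow_dvd_pow 5 (show 2 ≤ k by omega)).trans hk15
          norm_num at this
        interval_cases k
        · norm_num at hP5
        · rfl
      rw [hcard] at hmod
      exact absurd hmod (by decide)
    have hj1 : j ≠ 1 := by
      intro e1
      obtain ⟨u, v, hu, hv, huv, hne⟩ := exists_commuting_involutions hns hd2
      obtain ⟨g, hg⟩ := isConj_iff.1 (hconj hu hz)
      have hz' : orderOf (g * v * g⁻¹) = 2 := by rw [← MulAut.conj_apply, MulEquiv.orderOf_eq, hv]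
      have hvS : g * v * g⁻¹ ∈ S := by
        refine hcent hz hzS _ ?_
        have := huv.symm.map (MulAut.conj g).toMonoidHom
        simp only [MulEquiv.toMonoidHom_eq_coe, MonoidHom.coe_coe, MulAut.conj_apply, hg] at this
        exact this
      haveI := (Nat.card_eq_one_iff_unique.1 (hj ▸ e1 : Nat.card {u : G // orderOf u = 2 ∧ u ∈ S} = 1)).1
      have he := congrArg Subtype.val (Subsingleton.elim (α := {u : G // orderOf u = 2 ∧ u ∈ S})
        ⟨z, hz, hzS⟩ ⟨_, hz', hvS⟩)
      exact hne (mul_left_cancel (mul_right_cancel (hg.trans he)))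
    have hle := Nat.le_of_dvd (by norm_num) hj15
    obtain ⟨t, ht⟩ := hΩ2
    interval_cases j <;> norm_num at hj15 <;> first
      | omega
      | (exfalso
         have : 2 ∣ 2 ^ t := dvd_pow_self 2 (fun e => by rw [e] at ht; omega)
         have h6 : 3 ∣ 2 ^ t := by rw [← ht]; norm_num
         have := (Nat.prime_dvd_prime_iff_eq Nat.prime_three Nat.prime_two).1
           (Nat.prime_three.dvd_of_dvd_pow h6)
         omega)
  have hnorm : ∀ T : Sylow 2 G, Nat.card {u : G // orderOf u = 2 ∧ u ∈ T} = 3 := by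
    intro T
    obtain ⟨g, rfl⟩ := MulAction.exists_smul_eq G S T
    rw [← hj3, hj]
    refine (Nat.card_congr (Equiv.subtypeEquiv (MulAut.conj g).toEquiv fun u => ?_)).symm
    rw [MulEquiv.toEquiv_eq_coe, MulEquiv.coe_toEquiv, MulEquiv.orderOf_eq]
    exact and_congr_right fun _ => (Subgroup.smul_mem_pointwise_smul_iff (a := MulAut.conj g)).symm
  haveI := Fintype.ofFinite (Sylow 2 G)
  have hnS : Nat.card (Sylow 2 G) * (3 * Nat.card S) = Nat.card G := by
    rw [Sylow.card_eq_index_normalizer S, ← hj3, hjN, mul_comm, Subgroup.card_mul_index]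
  have hI : orderCount G 2 = 3 * Nat.card (Sylow 2 G) := by
    let f : (Σ T : Sylow 2 G, {u : G // orderOf u = 2 ∧ u ∈ T}) → {g : G // orderOf g = 2} :=
      fun x => ⟨x.2.1, x.2.2.1⟩
    have hf : Function.Bijective f := by
      constructor
      · rintro ⟨T, u, hu, huT⟩ ⟨T', u', hu', huT'⟩ e
        obtain rfl : u = u' := congrArg Subtype.val e
        obtain rfl := hTI T T' u huT huT' (fun e => by rw [e, orderOf_one] at hu; omega)
        rfl
      · rintro ⟨u, hu⟩
        obtain ⟨T, hT⟩ := h.mem_two_group (Or.inl hu)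
        exact ⟨⟨T, u, hu, hT⟩, rfl⟩
    rw [orderCount, ← Nat.card_congr (Equiv.ofBijective f hf), Nat.card_sigma,
      Finset.sum_congr rfl (fun T _ => hnorm T), Finset.sum_const, Finset.card_univ,
      ← Nat.card_eq_fintype_card, smul_eq_mul, mul_comm]
  have hc2 : orderCount G 2 + orderCount G 4 = Nat.card (Sylow 2 G) * (Nat.card S - 1) := by
    let f : (Σ T : Sylow 2 G, {x : T // x ≠ 1}) → {g : G // orderOf g = 2 ∨ orderOf g = 4} :=
      fun x => ⟨(x.2.1 : G), h.orderOf_two_or_four x.2.1.2 (fun e => x.2.2 (Subtype.ext e))⟩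
    have hf : Function.Bijective f := by
      constructor
      · rintro ⟨T, ⟨x, hx⟩, hx1⟩ ⟨T', ⟨x', hx'⟩, hx'1⟩ e
        obtain rfl : x = x' := congrArg Subtype.val e
        obtain rfl := hTI T T' x hx hx' (fun e => hx1 (Subtype.ext e))
        rfl
      · rintro ⟨g, hg⟩
        obtain ⟨T, hT⟩ := h.mem_two_group hg
        refine ⟨⟨T, ⟨g, hT⟩, fun e => ?_⟩, rfl⟩
        rw [show g = 1 from congrArg Subtype.val e, orderOf_one] at hg
        omega
    have hdisj : Disjoint (fun g : G => orderOf g = 2) (fun g : G => orderOf g = 4) := by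
      rw [Pi.disjoint_iff]
      intro g
      rw [Prop.disjoint_iff]
      intro e
      omega
    have hTc : ∀ T : Sylow 2 G, Nat.card {x : T // x ≠ 1} = Nat.card S - 1 := fun T => by
      rw [show Nat.card S = Nat.card T by rw [S.card_eq_multiplicity, T.card_eq_multiplicity]]
      haveI := Fintype.ofFinite T
      simp only [Nat.card_eq_fintype_card, Fintype.card_subtype_compl, Fintype.card_subtype_eq]
      rfl
    have e := Nat.card_congr (Equiv.ofBijective f hf)
    rw [Nat.card_sigma, Finset.sum_congr rfl (fun T _ => hTc T), Finset.sum_const, Finset.card_univ,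
      ← Nat.card_eq_fintype_card, smul_eq_mul] at e
    rw [e]
    simp only [orderCount, Nat.card_eq_fintype_card]
    exact (Fintype.card_subtype_or_disjoint _ _ hdisj).symm
  obtain ⟨k3, e3, hk3, hB, hi3⟩ := h.oddData (p := 3) (q := 5) (Or.inl ⟨rfl, rfl⟩) hd3
  obtain ⟨k5, e5, hk5, hC, hi5⟩ := h.oddData (p := 5) (q := 3) (Or.inr ⟨rfl, rfl⟩) hd5
  set Q := 3 ^ (Nat.card G).factorization 3 with hQ
  set P := 5 ^ (Nat.card G).factorization 5 with hP
  -- pairs of involutions
  have hpairs : orderCount G 2 * orderCount G 2 = 3 * orderCount G 2 +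
      orderCount G 3 * (e3 * Q) + orderCount G 5 * (e5 * P) := by
    let F : ℕ → ℕ := fun i => if i = 1 then orderCount G 2 else if i = 2 then 2 else
      if i = 3 then e3 * Q else if i = 5 then e5 * P else 0
    have hfib : ∀ w : G, Nat.card {u : G // orderOf u = 2 ∧ orderOf (u * w) = 2} = F (orderOf w) := by
      intro w
      rcases h.orderOf_eq w with o | o | o | o | o
      · rw [o, orderOf_eq_one_iff.1 o]
        simp only [F, if_pos, mul_one, and_self]
        rfl
      · rw [o]
        simp only [F, OfNat.ofNat_ne_one, if_false, if_pos]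
        obtain ⟨T, hT⟩ := h.mem_two_group (Or.inl o)
        have hmain : ∀ u : G, (orderOf u = 2 ∧ orderOf (u * w) = 2) ↔
            ((orderOf u = 2 ∧ u ∈ T) ∧ u ≠ w) := by
          intro u
          constructor
          · rintro ⟨hu, huw⟩
            refine ⟨⟨hu, hcent o hT u ?_⟩, fun e => ?_⟩
            · have e1 := inv_eq_self_of_orderOf_two huw
              rw [mul_inv_rev, inv_eq_self_of_orderOf_two hu, inv_eq_self_of_orderOf_two o] at e1
              exact e1.symm
            · rw [e, mul_self_of_orderOf_two o, orderOf_one] at huw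
              omega
          · rintro ⟨⟨hu, huT⟩, hne⟩
            refine ⟨hu, orderOf_eq_two_of_sq ?_ fun e => hne ?_⟩
            · have hc : Commute u w := by
                obtain ⟨g, hg⟩ := MulAction.exists_smul_eq G S T
                subst hg
                obtain ⟨u', hu', rfl⟩ := huT
                obtain ⟨w', hw', rfl⟩ := hT
                refine Commute.map (hcentral ?_ hu' w' hw') _
                rwa [MulDistribMulAction.toMonoidEnd_apply, MulDistribMulAction.toMonoidHom_apply,
                  MulAut.smul_def, MulEquiv.orderOf_eq] at hu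
              rw [mul_assoc, ← mul_assoc w, ← hc.eq, mul_assoc, mul_self_of_orderOf_two o, mul_one,
                mul_self_of_orderOf_two hu]
            · rw [eq_inv_of_mul_eq_one_left e, inv_eq_self_of_orderOf_two o]
        rw [Nat.card_congr (Equiv.subtypeEquivRight hmain)]
        have e := hnorm T
        rw [Nat.card_eq_fintype_card, Fintype.card_subtype] at e ⊢
        have : (Finset.univ.filter fun u : G => (orderOf u = 2 ∧ u ∈ T) ∧ u ≠ w) =
            (Finset.univ.filter fun u : G => orderOf u = 2 ∧ u ∈ T).erase w := by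
          ext u
          simp [and_comm]
        rw [this, Finset.card_erase_of_mem (by simp [o, hT]), e]
      · rw [o]
        simp only [F, show ¬ (3 : ℕ) = 1 by norm_num, show ¬ (3 : ℕ) = 2 by norm_num, if_false, if_pos]
        rw [← hi3 w o]
        exact Nat.card_congr (Equiv.subtypeEquivRight fun u => inv_iff o (by norm_num) u)
      · rw [o]
        simp only [F, show ¬ (4 : ℕ) = 1 by norm_num, show ¬ (4 : ℕ) = 2 by norm_num,
          show ¬ (4 : ℕ) = 3 by norm_num, show ¬ (4 : ℕ) = 5 by norm_num, if_false]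
        rw [Nat.card_eq_zero]
        refine Or.inl ⟨fun ⟨u, hu, huw⟩ => ?_⟩
        obtain ⟨T, hT⟩ := h.mem_two_group (Or.inr o)
        have h1 := ((inv_iff o (by norm_num) u).1 ⟨hu, huw⟩).2
        have hw2 : orderOf (w ^ 2) = 2 := by rw [orderOf_pow' _ two_ne_zero, o]; norm_num
        have hu2 : Commute u (w ^ 2) := by
          refine mul_inv_eq_iff_eq_mul.1 ?_
          rw [← conj_pow, h1, inv_pow, inv_eq_self_of_orderOf_two hw2]
        have huT := hcent hw2 ((T : Subgroup G).pow_mem hT 2) u hu2
        obtain ⟨g, hg⟩ := MulAction.exists_smul_eq G S T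
        subst hg
        obtain ⟨u', hu', rfl⟩ := huT
        obtain ⟨w', hw', rfl⟩ := hT
        rw [MulDistribMulAction.toMonoidEnd_apply, MulDistribMulAction.toMonoidHom_apply,
          MulAut.smul_def, MulEquiv.orderOf_eq] at hu o
        simp only [MulDistribMulAction.toMonoidEnd_apply, MulDistribMulAction.toMonoidHom_apply,
          MulAut.smul_def, ← map_mul, ← map_inv] at h1
        have h2 := (MulAut.conj g).injective h1
        rw [(hcentral hu hu' w' hw').eq, mul_inv_cancel_right, eq_inv_iff_mul_eq_one, ← sq] at h2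
        have := orderOf_dvd_of_pow_eq_one h2
        rw [o] at this
        norm_num at this
      · rw [o]
        simp only [F, show ¬ (5 : ℕ) = 1 by norm_num, show ¬ (5 : ℕ) = 2 by norm_num,
          show ¬ (5 : ℕ) = 3 by norm_num, if_false, if_pos]
        rw [← hi5 w o]
        exact Nat.card_congr (Equiv.subtypeEquivRight fun u => inv_iff o (by norm_num) u)
    let e : ({g : G // orderOf g = 2} × {g : G // orderOf g = 2}) ≃
        Σ w : G, {u : G // orderOf u = 2 ∧ orderOf (u * w) = 2} :=
      { toFun := fun x => ⟨x.1.1⁻¹ * x.2.1, x.1.1, x.1.2, by rw [mul_inv_cancel_left]; exact x.2.2⟩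
        invFun := fun x => (⟨x.2.1, x.2.2.1⟩, ⟨x.2.1 * x.1, x.2.2.2⟩)
        left_inv := fun x => by simp
        right_inv := fun ⟨w, u, hu, huw⟩ => by
          refine Sigma.subtype_ext ?_ rfl
          simp }
    have hcard := Nat.card_congr e
    rw [Nat.card_prod, Nat.card_sigma, Finset.sum_congr rfl (fun w _ => hfib w), h.sum_eq F] at hcard
    simp only [F, OfNat.ofNat_ne_one, if_pos, if_false, show ¬ (3 : ℕ) = 2 by norm_num,
      show ¬ (4 : ℕ) = 2 by norm_num, show ¬ (4 : ℕ) = 3 by norm_num, show ¬ (4 : ℕ) = 5 by norm_num,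
      show ¬ (5 : ℕ) = 2 by norm_num, show ¬ (5 : ℕ) = 3 by norm_num, mul_zero, add_zero] at hcard
    simp only [orderCount] at hcard ⊢
    omega
  have ha2 : 2 ≤ a := by
    by_contra hh
    have h4 : j + 1 ≤ Nat.card S := hΩj ▸ Subgroup.card_le_of_le hΩS
    rw [ha, hj3] at h4
    have := Nat.pow_le_pow_right (show 1 ≤ 2 by norm_num) (show a ≤ 1 by omega)
    omega
  have hfa : (Nat.card G).factorization 2 = a := by
    have := S.card_eq_multiplicity
    rw [ha] at this
    exact (Nat.pow_right_injective (le_refl 2) this).symm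
  have hprod := h.card_eq_prod
  rw [hfa, ← hQ, ← hP] at hprod
  have hpos3 : 1 ≤ (Nat.card G).factorization 3 :=
    (Nat.prime_three.dvd_iff_one_le_factorization Nat.card_pos.ne').1 hd3
  have hpos5 : 1 ≤ (Nat.card G).factorization 5 :=
    (Nat.prime_five.dvd_iff_one_le_factorization Nat.card_pos.ne').1 hd5
  have hQP : orderCount G 2 = Q * P := by
    refine Nat.eq_of_mul_eq_mul_left (show 0 < 2 ^ a by positivity) ?_
    rw [← mul_assoc, ← hprod, ← hnS, hI, ha]
    ring
  rw [hprod]
  refine ti_arith ha2 hpos3 hpos5 hk3 hk5 (c2 := orderCount G 2 + orderCount G 4)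
    (n3 := orderCount G 3) (n5 := orderCount G 5) ?_ ?_ ?_ ?_ ?_
  · rw [← hprod]; exact h.card_eq_sum
  · rw [← hprod, hc2, ← ha, ← hnS]; ring
  · rw [← hprod]; exact hB
  · rw [← hprod]; exact hC
  · rw [hQP] at hpairs; exact hpairs
where
  inv_iff {G : Type u} [Group G] {w : G} {n : ℕ} (hw : orderOf w = n) (hn : 2 < n) (u : G) :
      (orderOf u = 2 ∧ orderOf (u * w) = 2) ↔ (orderOf u = 2 ∧ u * w * u⁻¹ = w⁻¹) := by
    constructor
    · rintro ⟨hu, huw⟩
      refine ⟨hu, ?_⟩
      have h1 : (u * w) * (u * w) = 1 := by rw [← sq, ← huw, pow_orderOf_eq_one]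
      have h2 : u⁻¹ = u := inv_eq_of_mul_eq_one_left (by rw [← sq, ← hu, pow_orderOf_eq_one])
      rw [h2]
      exact eq_inv_of_mul_eq_one_left (by rw [mul_assoc, h1])
    · rintro ⟨hu, h1⟩
      refine ⟨hu, ?_⟩
      have h2 : u⁻¹ = u := inv_eq_of_mul_eq_one_left (by rw [← sq, ← hu, pow_orderOf_eq_one])
      haveI := Fact.mk Nat.prime_two
      rw [h2] at h1
      refine orderOf_eq_prime ?_ fun e => ?_
      · rw [sq, ← mul_assoc, h1, inv_mul_cancel]
      · rw [eq_inv_of_mul_eq_one_left e, orderOf_inv, hw] at hu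
        omega

end CfsgLib.SmallSpectrum
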